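import Mathlib
import Cfsg.Agent.CtRecD.SchDefs
import Cfsg.Agent.CtRecB.Defs2

set_option autoImplicit false
set_option linter.unusedSectionVars false
set_option linter.unusedVariables false

/-!
# S2099 (Schur multiplier of `PΩ⁻_{2l}(q)`): Steinberg relations of type `B_m` with an anisotropic kernel `(W, N)` (helper8)

`V = K^{Idx m} ⊕ W`, `Q (x, w) = ∑ x_{inl i} x_{inr i} + N w`; index type of the matrices `Idx m ⊕ ι` for `W = ι → K`
(hyperbolic part first, as in `quadFormMinus`).

* long root elements `ε_a - ε_b` (`Rt a b`): `bXW a b t = fromBlocks (oX a b t) 0 0 1`;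
* short root elements `ε_a`, parametrised by `w : W`: `bYW N a w` = the Siegel transformation `ρ_{e_a, w}`:
  `e_ā ↦ e_ā - w - N w • e_a`, `w' ↦ w' + polar N w' w • e_a`.

`OW m N Γ`: elements `x a b t`, `y a w` of a group `Γ` with the relations of these matrices (the relations of `CtRecB.OB` with
`2 t u ↦ polar N w w'`, `u * u ↦ N w`).  No division by `2` anywhere.
-/

namespace Cfsg.Agent.CtRecM

open Matrix Cfsg.Agent.CtRecD

variable {K : Type*} [Field K] {W : Type*} [AddCommGroup W] [Module K W]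

/-- Elements `x a b t` (`Rt a b`: the root `ε_a - ε_b`) and `y a w` (the root `ε_a`, `w : W`) of a group `Γ` with the Steinberg
relations of type `B_m` with anisotropic kernel `(W, N)`. -/
structure OW (m : ℕ) (N : QuadraticForm K W) (Γ : Type*) [Group Γ] extends OD m K Γ where
  /-- the short root elements `y a w` -/
  y : Idx m → W → Γ
  yadd : ∀ (a : Idx m) (w w' : W), y a w * y a w' = y a (w + w')
  yy : ∀ a b, Rt a b → ∀ w w' : W,
    y a w * y b w' * (y a w)⁻¹ * (y b w')⁻¹ = x a b.swap (-(QuadraticMap.polar N w w'))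
  xy : ∀ a b, Rt a b → ∀ (t : K) (w : W),
    x a b t * y b w * (x a b t)⁻¹ * (y b w)⁻¹ = y a (t • w) * x a b.swap (t * N w)
  xy_comm : ∀ a b c, Rt a b → c ≠ b → c ≠ a.swap → ∀ (t : K) (w : W), x a b t * y c w = y c w * x a b t

/-- the coefficients of the monomial matrix `ws a v`: `e_a ↦ -(N v)⁻¹ e_ā`, `e_ā ↦ -(N v) e_a`. -/
def cW {m : ℕ} (N : QuadraticForm K W) (a : Idx m) (v : W) (i : Idx m) : K :=
  if i = a then -(N v)⁻¹ else if i = a.swap then -(N v) else 1

/-- the reflection `r_v w = w - ((N v)⁻¹ * polar N w v) • v` of `W`. -/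
def rW (N : QuadraticForm K W) (v : W) : W →ₗ[K] W :=
  LinearMap.id - ((N v)⁻¹ • (QuadraticMap.polarBilin N).flip v).smulRight v

theorem rW_apply (N : QuadraticForm K W) (v w : W) :
    rW N v w = w - ((N v)⁻¹ * QuadraticMap.polar N w v) • v := by
  simp [rW, LinearMap.smulRight_apply]

theorem polar_self_eq (N : QuadraticForm K W) (v : W) : QuadraticMap.polar N v v = 2 * N v := by
  rw [QuadraticMap.polar_self]
  simp [two_mul, two_smul]

theorem rW_self (N : QuadraticForm K W) {v : W} (hv : N v ≠ 0) : rW N v v = -v := by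
  rw [rW_apply, polar_self_eq]
  have h1 : (N v)⁻¹ * (2 * N v) = 2 := by
    field_simp
  rw [h1, two_smul]
  abel

theorem polar_rW (N : QuadraticForm K W) {v : W} (hv : N v ≠ 0) (w : W) :
    QuadraticMap.polar N (rW N v w) v = -(QuadraticMap.polar N w v) := by
  rw [rW_apply, QuadraticMap.polar_sub_left, QuadraticMap.polar_smul_left, polar_self_eq]
  simp only [smul_eq_mul]
  field_simp
  ring

theorem N_rW (N : QuadraticForm K W) {v : W} (hv : N v ≠ 0) (w : W) : N (rW N v w) = N w := by
  rw [rW_apply]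
  set c := (N v)⁻¹ * QuadraticMap.polar N w v with hc
  have h1 : w - c • v = w + (-c) • v := by rw [neg_smul, sub_eq_add_neg]
  have h2 : N (w + (-c) • v) = N w + N ((-c) • v) + QuadraticMap.polar N w ((-c) • v) := by
    unfold QuadraticMap.polar
    ring
  rw [h1, h2, QuadraticMap.map_smul, QuadraticMap.polar_smul_right]
  simp only [smul_eq_mul]
  rw [hc]
  field_simp
  ring

theorem rW_rW (N : QuadraticForm K W) {v : W} (hv : N v ≠ 0) (w : W) : rW N v (rW N v w) = w := by
  rw [rW_apply (w := rW N v w), polar_rW N hv, rW_apply]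
  rw [mul_neg, neg_smul]
  abel

/-- the reflection `r_v` as a linear equivalence. -/
def rWe (N : QuadraticForm K W) (v : W) (hv : N v ≠ 0) : W ≃ₗ[K] W :=
  LinearEquiv.ofInvolutive (rW N v) (rW_rW N hv)

theorem rWe_apply (N : QuadraticForm K W) (v : W) (hv : N v ≠ 0) (w : W) :
    rWe N v hv w = rW N v w := rfl

namespace OW

variable {m : ℕ} {N : QuadraticForm K W} {Γ : Type*} [Group Γ] (S : OW m N Γ)

/-- the elements `w_a(v) = y_a(v) y_ā((N v)⁻¹ • v) y_a(v)` of the short roots. -/
def ws (a : Idx m) (v : W) : Γ := S.y a v * S.y a.swap ((N v)⁻¹ • v) * S.y a v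

/-- the elements `h_a(v) = w_a(v) w_a(-v₀)` of the short roots (`v₀` a base vector). -/
def hs (a : Idx m) (v v₀ : W) : Γ := S.ws a v * S.ws a (-v₀)

/-- the generators. -/
def gensW : Set Γ :=
  {g | (∃ (a b : Idx m) (t : K), Rt a b ∧ g = S.x a b t) ∨ ∃ (a : Idx m) (w : W), g = S.y a w}

end OW

/-! ### the matrices -/

section Matrices

variable {m : ℕ} {ι : Type*} [DecidableEq ι]

/-- the long root elements `1 + t (E_{ab} - E_{b̄ā})`, extended by `1` on `W`. -/
def bXW (a b : Idx m) (t : K) : Matrix (Idx m ⊕ ι) (Idx m ⊕ ι) K :=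
  Matrix.fromBlocks (oX a b t) 0 0 1

/-- the short root elements: the Siegel transformations `ρ_{e_a, w}`. -/
def bYW (N : QuadraticForm K (ι → K)) (a : Idx m) (w : ι → K) : Matrix (Idx m ⊕ ι) (Idx m ⊕ ι) K :=
  Matrix.fromBlocks (1 - Matrix.single a a.swap (N w))
    (Matrix.of fun i j => if i = a then QuadraticMap.polar N (Pi.single j 1) w else 0)
    (Matrix.of fun j i => if i = a.swap then -(w j) else 0) 1

end Matrices

end Cfsg.Agent.CtRecM
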