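import Mathlib
import Cfsg.Agent.CtRecM.Defs

set_option autoImplicit false
set_option linter.unusedSectionVars false
set_option linter.unusedVariables false

/-!
# S2099: shared definitions for groups with the Steinberg relations of type `B_m` with anisotropic kernel (helper8)

`MonW` (monomial action on all root elements), `WtW`, `HtW`, `UtW`, `IsMatW` (a homomorphism to the matrices sending the root
elements to `bXW`, `bYW`).  Positive roots: `ε_a - ε_b` with `ord a < ord b`, and `ε_a` with `a = inl i`.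
-/

namespace Cfsg.Agent.CtRecM

open Matrix Cfsg.Agent.CtRecD

variable {K : Type*} [Field K] {W : Type*} [AddCommGroup W] [Module K W]

namespace OW

variable {m : ℕ} {N : QuadraticForm K W} {Γ : Type*} [Group Γ] (S : OW m N Γ)

/-- `g` acts monomially on the root elements, like a matrix `e_i ↦ a i • e_{σ i}`, `w ↦ τ w` (`τ` an isometry of `W`). -/
def MonW (g : Γ) (σ : Equiv.Perm (Idx m)) (a : Idx m → K) (τ : W ≃ₗ[K] W) : Prop :=
  (∀ i, a i ≠ 0) ∧ (∀ i : Idx m, a i.swap = (a i)⁻¹) ∧ (∀ w : W, N (τ w) = N w) ∧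
    (∀ i : Idx m, σ i.swap = (σ i).swap) ∧
    (∀ i j, Rt i j → ∀ c : K, MulAut.conj g (S.x i j c) = S.x (σ i) (σ j) (a i * (a j)⁻¹ * c)) ∧
    ∀ (i : Idx m) (w : W), MulAut.conj g (S.y i w) = S.y (σ i) (a i • τ w)

/-- the subgroup generated by the elements `w_kl(u)` and `w_a(v)`. -/
def WtW : Subgroup Γ :=
  Subgroup.closure {g | (∃ (k l : Idx m) (u : K), Rt k l ∧ u ≠ 0 ∧ g = S.w k l u) ∨
    ∃ (a : Idx m) (v : W), N v ≠ 0 ∧ g = S.ws a v}

/-- the subgroup generated by the elements `h_kl(u)` and `w_a(v) w_a(v')`. -/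
def HtW : Subgroup Γ :=
  Subgroup.closure {g | (∃ (k l : Idx m) (u : K), Rt k l ∧ u ≠ 0 ∧ g = S.h k l u) ∨
    ∃ (a : Idx m) (v v' : W), N v ≠ 0 ∧ N v' ≠ 0 ∧ g = S.ws a v * S.ws a v'}

/-- the subgroup generated by the positive root elements. -/
def UtW : Subgroup Γ :=
  Subgroup.closure {g | (∃ (a b : Idx m) (t : K), Rt a b ∧ ord a < ord b ∧ g = S.x a b t) ∨
    ∃ (i : Fin m) (w : W), g = S.y (Sum.inl i) w}

theorem w_mem_WtW {k l : Idx m} (hkl : Rt k l) {u : K} (hu : u ≠ 0) : S.w k l u ∈ S.WtW :=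
  Subgroup.subset_closure (Or.inl ⟨k, l, u, hkl, hu, rfl⟩)

theorem ws_mem_WtW (a : Idx m) {v : W} (hv : N v ≠ 0) : S.ws a v ∈ S.WtW :=
  Subgroup.subset_closure (Or.inr ⟨a, v, hv, rfl⟩)

theorem h_mem_HtW {k l : Idx m} (hkl : Rt k l) {u : K} (hu : u ≠ 0) : S.h k l u ∈ S.HtW :=
  Subgroup.subset_closure (Or.inl ⟨k, l, u, hkl, hu, rfl⟩)

theorem ws_mul_ws_mem_HtW (a : Idx m) {v v' : W} (hv : N v ≠ 0) (hv' : N v' ≠ 0) :
    S.ws a v * S.ws a v' ∈ S.HtW :=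
  Subgroup.subset_closure (Or.inr ⟨a, v, v', hv, hv', rfl⟩)

theorem hs_mem_HtW (a : Idx m) {v v₀ : W} (hv : N v ≠ 0) (hv₀ : N v₀ ≠ 0) : S.hs a v v₀ ∈ S.HtW := by
  apply S.ws_mul_ws_mem_HtW a hv
  rw [QuadraticMap.map_neg]
  exact hv₀

theorem x_mem_UtW {a b : Idx m} (hab : Rt a b) (hlt : ord a < ord b) (t : K) : S.x a b t ∈ S.UtW :=
  Subgroup.subset_closure (Or.inl ⟨a, b, t, hab, hlt, rfl⟩)

theorem y_mem_UtW (i : Fin m) (w : W) : S.y (Sum.inl i) w ∈ S.UtW :=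
  Subgroup.subset_closure (Or.inr ⟨i, w, rfl⟩)

theorem MonW.toMon {g : Γ} {σ : Equiv.Perm (Idx m)} {a : Idx m → K} {τ : W ≃ₗ[K] W}
    (h : S.MonW g σ a τ) : S.toOD.Mon g σ a := ⟨h.1, h.2.2.2.1, h.2.2.2.2.1⟩

end OW

namespace OW

variable {m : ℕ} {ι : Type*} [Fintype ι] [DecidableEq ι] {N : QuadraticForm K (ι → K)} {Γ : Type*} [Group Γ]
  (S : OW m N Γ)

/-- a homomorphism to the matrices which maps the root elements to the root matrices. -/
structure IsMatW (φ : Γ →* Matrix (Idx m ⊕ ι) (Idx m ⊕ ι) K) : Prop where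
  x : ∀ a b, Rt a b → ∀ t : K, φ (S.x a b t) = bXW a b t
  y : ∀ (a : Idx m) (w : ι → K), φ (S.y a w) = bYW N a w

end OW

end Cfsg.Agent.CtRecM
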