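import Mathlib
import Cfsg.Agent.CtRecM.Defs2
import Cfsg.Agent.CtRecD.OdA

set_option autoImplicit false
set_option linter.unusedSectionVars false
set_option linter.unusedVariables false

/-!
# S2099, piece P3: groups with the Steinberg relations of type `²D_{m+1}` (`OW`): basic consequences (helper5)

Port of `CtRecB/ObA.lean`: the short root elements `y a w` are parametrised by the vectors `w` of the anisotropic space `(W, N)`.
-/

namespace Cfsg.Agent.CtRecM

open Cfsg.Agent.CtRecD Cfsg.Agent.CtRecB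

variable {m : ℕ} {K : Type*} [Field K] {W : Type*} [AddCommGroup W] [Module K W]
  {N : QuadraticForm K W} {Γ : Type*} [Group Γ] (S : OW m N Γ)

namespace OW

theorem y_zero (a : Idx m) : S.y a 0 = 1 := by
  have h := S.yadd a 0 0
  rw [add_zero] at h
  exact mul_eq_left.mp h

theorem y_inv (a : Idx m) (w : W) : (S.y a w)⁻¹ = S.y a (-w) := by
  apply inv_eq_of_mul_eq_one_right
  rw [S.yadd, add_neg_cancel, S.y_zero]

theorem y_mul_neg (a : Idx m) (w : W) : S.y a w * S.y a (-w) = 1 := by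
  rw [S.yadd, add_neg_cancel, S.y_zero]

theorem y_neg_mul (a : Idx m) (w : W) : S.y a (-w) * S.y a w = 1 := by
  rw [S.yadd, neg_add_cancel, S.y_zero]

/-- the long root relations, restated for `S.x`. -/
theorem x_inv' {a b : Idx m} (hab : Rt a b) (t : K) : (S.x a b t)⁻¹ = S.x a b (-t) :=
  S.toOD.x_inv hab t

theorem x_zero' {a b : Idx m} (hab : Rt a b) : S.x a b 0 = 1 :=
  S.toOD.x_zero hab

/-- `y_a(w) y_b(w') y_a(w)⁻¹ = x_{a b̄}(-B(w,w')) y_b(w')`. -/
theorem cj_yy {a b : Idx m} (hab : Rt a b) (w w' : W) :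
    MulAut.conj (S.y a w) (S.y b w') = S.x a b.swap (-(QuadraticMap.polar N w w')) * S.y b w' := by
  rw [MulAut.conj_apply, ← S.yy a b hab w w', inv_mul_cancel_right]

/-- `x_ab(t) y_b(w) x_ab(t)⁻¹ = y_a(t w) x_{a b̄}(t N(w)) y_b(w)`. -/
theorem cj_xy {a b : Idx m} (hab : Rt a b) (t : K) (w : W) :
    MulAut.conj (S.x a b t) (S.y b w) = S.y a (t • w) * S.x a b.swap (t * N w) * S.y b w := by
  rw [MulAut.conj_apply, ← S.xy a b hab t w, inv_mul_cancel_right]

/-- `y_b(w) x_ab(t) y_b(w)⁻¹ = x_{a b̄}(-t N(w)) y_a(-t w) x_ab(t)`. -/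
theorem cj_yx {a b : Idx m} (hab : Rt a b) (t : K) (w : W) :
    MulAut.conj (S.y b w) (S.x a b t) =
      S.x a b.swap (-(t * N w)) * S.y a (-(t • w)) * S.x a b t := by
  rw [MulAut.conj_apply, ← S.x_inv' hab.swap_right, ← S.y_inv, ← mul_inv_rev, ← S.xy a b hab t w]
  group

/-- `x_ab(t)` commutes with `y_c(w)` for `c ≠ b`, `c ≠ ā`. -/
theorem cj_xy_comm {a b c : Idx m} (hab : Rt a b) (hcb : c ≠ b) (hca : c ≠ a.swap) (t : K) (w : W) :
    MulAut.conj (S.x a b t) (S.y c w) = S.y c w := by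
  rw [MulAut.conj_apply, S.xy_comm a b c hab hcb hca, mul_inv_cancel_right]

theorem cj_yx_comm {a b c : Idx m} (hab : Rt a b) (hcb : c ≠ b) (hca : c ≠ a.swap) (t : K) (w : W) :
    MulAut.conj (S.y c w) (S.x a b t) = S.x a b t := by
  rw [MulAut.conj_apply, ← S.xy_comm a b c hab hcb hca, mul_inv_cancel_right]

/-- `y_a` commutes with `x_ab`. -/
theorem ya_xab_comm {a b : Idx m} (hab : Rt a b) (w : W) (u : K) :
    S.y a w * S.x a b u = S.x a b u * S.y a w :=
  (S.xy_comm a b a hab hab.1 (ne_swap a) u w).symm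

/-- `y_b̄` commutes with `x_ab` (`x_ab = x_{b̄ ā}`). -/
theorem yb_xab_comm {a b : Idx m} (hab : Rt a b) (w : W) (u : K) :
    S.y b.swap w * S.x a b u = S.x a b u * S.y b.swap w :=
  (S.xy_comm a b b.swap hab (ne_swap b).symm (fun e => hab.1 (swap_inj.mp e).symm) u w).symm

/-- `y_a(w)` and `y_a(w')` commute. -/
theorem y_comm_self (a : Idx m) (w w' : W) : S.y a w * S.y a w' = S.y a w' * S.y a w := by
  rw [S.yadd, S.yadd, add_comm]

theorem ws_inv (a : Idx m) (v : W) : (S.ws a v)⁻¹ = S.ws a (-v) := by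
  unfold ws
  rw [mul_inv_rev, mul_inv_rev, S.y_inv, S.y_inv, QuadraticMap.map_neg, smul_neg, mul_assoc]

theorem hs_self (a : Idx m) (v : W) : S.hs a v v = 1 := by
  unfold hs
  rw [← S.ws_inv, mul_inv_cancel]

theorem ws_eq_hs_mul (a : Idx m) (v v₀ : W) : S.ws a v = S.hs a v v₀ * S.ws a v₀ := by
  unfold hs
  have : S.ws a (-v₀) = (S.ws a v₀)⁻¹ := (S.ws_inv a v₀).symm
  rw [this, inv_mul_cancel_right]

theorem hs_eq_ws_mul (a : Idx m) (v v₀ : W) : S.hs a v v₀ = S.ws a v * (S.ws a v₀)⁻¹ := by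
  unfold hs
  rw [S.ws_inv a v₀]

/-- `y_ā(N(v)⁻¹ v) = y_a(-v) w_a(v) y_a(-v)`. -/
theorem y_neg_eq (a : Idx m) (v : W) :
    S.y a.swap ((N v)⁻¹ • v) = S.y a (-v) * S.ws a v * S.y a (-v) := by
  unfold ws
  have e1 : S.y a (-v) * (S.y a v * S.y a.swap ((N v)⁻¹ • v) * S.y a v) * S.y a (-v) =
      (S.y a (-v) * S.y a v) * S.y a.swap ((N v)⁻¹ • v) * (S.y a v * S.y a (-v)) := by
    simp only [mul_assoc]
  rw [e1, S.y_neg_mul, S.y_mul_neg, one_mul, mul_one]

/-- `y_ā(s) = y_a(-v) w_a(v) y_a(-v)` with `v = N(s)⁻¹ s`. -/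
theorem y_neg_eq_of (a : Idx m) {s : W} (hs : N s ≠ 0) :
    S.y a.swap s = S.y a (-((N s)⁻¹ • s)) * S.ws a ((N s)⁻¹ • s) * S.y a (-((N s)⁻¹ • s)) := by
  rw [← S.y_neg_eq a ((N s)⁻¹ • s)]
  congr 1
  rw [QuadraticMap.map_smul, smul_eq_mul, smul_smul]
  have : ((N s)⁻¹ * (N s)⁻¹ * N s)⁻¹ * (N s)⁻¹ = 1 := by
    field_simp
  rw [this, one_smul]

/-- the same with the roles of `a`, `ā` exchanged. -/
theorem y_neg_eq' (a : Idx m) (v : W) :
    S.y a ((N v)⁻¹ • v) = S.y a.swap (-v) * S.ws a.swap v * S.y a.swap (-v) := by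
  have h := S.y_neg_eq a.swap v
  rwa [Sum.swap_swap] at h

theorem y_neg_eq_of' (a : Idx m) {s : W} (hs : N s ≠ 0) :
    S.y a s = S.y a.swap (-((N s)⁻¹ • s)) * S.ws a.swap ((N s)⁻¹ • s) * S.y a.swap (-((N s)⁻¹ • s)) := by
  have h := S.y_neg_eq_of a.swap hs
  rwa [Sum.swap_swap] at h

/-- the generators lie in the closure of the generators. -/
theorem x_mem_gensW {a b : Idx m} (hab : Rt a b) (t : K) : S.x a b t ∈ S.gensW :=
  Or.inl ⟨a, b, t, hab, rfl⟩

theorem y_mem_gensW (a : Idx m) (w : W) : S.y a w ∈ S.gensW :=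
  Or.inr ⟨a, w, rfl⟩

theorem ws_mem_closure (a : Idx m) (v : W) : S.ws a v ∈ Subgroup.closure S.gensW := by
  unfold ws
  exact mul_mem (mul_mem (Subgroup.subset_closure (S.y_mem_gensW _ _))
    (Subgroup.subset_closure (S.y_mem_gensW _ _))) (Subgroup.subset_closure (S.y_mem_gensW _ _))

/-- two homomorphisms which agree on the root elements agree on the closure of the generators. -/
theorem hom_eq_of_gensW {M : Type*} [Monoid M] (hgen : Subgroup.closure S.gensW = ⊤) (f g : Γ →* M)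
    (hx : ∀ a b, Rt a b → ∀ t : K, f (S.x a b t) = g (S.x a b t))
    (hy : ∀ (a : Idx m) (w : W), f (S.y a w) = g (S.y a w)) : f = g := by
  apply MonoidHom.eq_of_eqOn_dense hgen
  rintro z (⟨a, b, t, hab, rfl⟩ | ⟨a, w, rfl⟩)
  · exact hx a b hab t
  · exact hy a w

/-- an element commuting with all root elements is central (if the root elements generate). -/
theorem central_of_commute_gensW (hgen : Subgroup.closure S.gensW = ⊤) {c : Γ}
    (hx : ∀ a b, Rt a b → ∀ t : K, c * S.x a b t = S.x a b t * c)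
    (hy : ∀ (a : Idx m) (w : W), c * S.y a w = S.y a w * c) (g : Γ) : g * c = c * g := by
  have hg : g ∈ Subgroup.closure S.gensW := by rw [hgen]; trivial
  induction hg using Subgroup.closure_induction with
  | mem z hz =>
    rcases hz with ⟨a, b, t, hab, rfl⟩ | ⟨a, w, rfl⟩
    · exact (hx a b hab t).symm
    · exact (hy a w).symm
  | one => rw [one_mul, mul_one]
  | mul a b _ _ iha ihb => rw [mul_assoc, ihb, ← mul_assoc, iha, mul_assoc]
  | inv a _ iha =>
    have : a⁻¹ * c = a⁻¹ * (c * a) * a⁻¹ := by rw [mul_assoc, mul_assoc, mul_inv_cancel, mul_one]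
    rw [this, ← iha, ← mul_assoc, inv_mul_cancel, one_mul]

end OW

end Cfsg.Agent.CtRecM
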