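import Mathlib
import Cfsg.Agent.CtRecM.Defs
import Cfsg.Agent.CtRecB.ObBa

set_option autoImplicit false
set_option linter.unusedSectionVars false
set_option linter.unusedVariables false

/-!
# S2099, piece P4 (b, c): the short Weyl elements `ws_a(v) = y_a(v) y_ā((N v)⁻¹ v) y_a(v)` act monomially (helper6)

Port of `CtRecB/ObB.lean` to a generic anisotropic space `(W, N)`; no division by `2`.

* `OW.ws_conj_x`: `ws_a(v) x_ij(c) ws_a(v)⁻¹ = x_{σi σj}(c_i c_j⁻¹ c)`, `σ = sB a`, `c = cW N a v`;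
* `OW.ws_conj_y`: `ws_a(v) y_i(w) ws_a(v)⁻¹ = y_{σi}(c_i • r_v w)`, `r_v = rW N v` the reflection in `v`
  (`OW.ws_conj_y'`: the same with the reflection written out, `q4R N v w = w - ((N v)⁻¹ B(w,v)) • v`).

The core is the rank-two computation `q4_core` in the `B_2` on `ε_p - ε_q`, `ε_q`:
`y_q̄((N s)⁻¹ s) y_q(s) x_pq(t) y_q(s)⁻¹ y_q̄((N s)⁻¹ s)⁻¹ = x_pq̄(-t N(s))`.
-/

namespace Cfsg.Agent.CtRecM

open Matrix Cfsg.Agent.CtRecD Cfsg.Agent.CtRecB

variable {m : ℕ} {K : Type*} [Field K] {W : Type*} [AddCommGroup W] [Module K W]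
  {N : QuadraticForm K W} {Γ : Type*} [Group Γ] (S : OW m N Γ)

/-- the reflection in `v`, written out. -/
def q4R (N : QuadraticForm K W) (v w : W) : W := w - ((N v)⁻¹ * QuadraticMap.polar N w v) • v

theorem q4R_eq_rW (v w : W) : q4R N v w = rW N v w := (rW_apply N v w).symm

theorem q4R_N {v : W} (hv : N v ≠ 0) (w : W) : N (q4R N v w) = N w := by
  unfold q4R
  rw [sub_eq_add_neg, QuadraticMap.map_add (⇑N), QuadraticMap.map_neg, QuadraticMap.map_smul,
    QuadraticMap.polar_neg_right, QuadraticMap.polar_smul_right, smul_eq_mul, smul_eq_mul]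
  field_simp
  ring

theorem q4R_polar {v : W} (hv : N v ≠ 0) (w : W) :
    QuadraticMap.polar N v (q4R N v w) = -(QuadraticMap.polar N v w) := by
  unfold q4R
  rw [QuadraticMap.polar_sub_right, QuadraticMap.polar_smul_right, QuadraticMap.polar_self,
    QuadraticMap.polar_comm N w v, smul_eq_mul, nsmul_eq_mul, Nat.cast_ofNat]
  field_simp
  ring

/-- `N ((N s)⁻¹ • s) = (N s)⁻¹`. -/
theorem q4_N_inv {s : W} (hs : N s ≠ 0) : N ((N s)⁻¹ • s) = (N s)⁻¹ := by
  rw [QuadraticMap.map_smul, smul_eq_mul]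
  field_simp

/-- `(N s')⁻¹ • s' = s` for `s' = (N s)⁻¹ • s`. -/
theorem q4_inv_inv {s : W} (hs : N s ≠ 0) : (N ((N s)⁻¹ • s))⁻¹ • ((N s)⁻¹ • s) = s := by
  rw [q4_N_inv hs, inv_inv, smul_smul, mul_inv_cancel₀ hs, one_smul]

namespace OW

/-! ### basic consequences -/

theorem q4_y_zero (a : Idx m) : S.y a 0 = 1 := by
  have h := S.yadd a 0 0
  rw [add_zero] at h
  exact mul_eq_left.mp h

theorem q4_y_inv (a : Idx m) (w : W) : (S.y a w)⁻¹ = S.y a (-w) := by
  apply inv_eq_of_mul_eq_one_right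
  rw [S.yadd, add_neg_cancel, S.q4_y_zero]

/-- `y_e(s)` commutes with `x_pq(t)` for `e ≠ q, p̄`. -/
theorem q4_cj_y_x_fix {p q e : Idx m} (hpq : Rt p q) (h1 : e ≠ q) (h2 : e ≠ p.swap) (s : W) (t : K) :
    MulAut.conj (S.y e s) (S.x p q t) = S.x p q t := by
  rw [MulAut.conj_apply, ← S.xy_comm p q e hpq h1 h2, mul_inv_cancel_right]

/-- `y_q(s) x_pq(t) y_q(s)⁻¹ = x_pq(t) y_p(-t s) x_pq̄(-t N(s))`. -/
theorem q4_cj_y_x {p q : Idx m} (hpq : Rt p q) (s : W) (t : K) :
    MulAut.conj (S.y q s) (S.x p q t) =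
      S.x p q t * S.y p ((-t) • s) * S.x p q.swap (-t * N s) := by
  have h := S.xy p q hpq (-t) s
  rw [← S.toOD.x_inv hpq, inv_inv] at h
  rw [MulAut.conj_apply, mul_assoc (S.x p q t), ← h]
  group

/-- `y_p(w) y_q(w') y_p(w)⁻¹ = x_pq̄(-B(w,w')) y_q(w')`. -/
theorem q4_cj_y_y {p q : Idx m} (hpq : Rt p q) (w w' : W) :
    MulAut.conj (S.y p w) (S.y q w') =
      S.x p q.swap (-(QuadraticMap.polar N w w')) * S.y q w' := by
  rw [MulAut.conj_apply, ← S.yy p q hpq w w', inv_mul_cancel_right]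

/-- the rank-two computation. -/
theorem q4_core {p q : Idx m} (hpq : Rt p q) {s : W} (hs : N s ≠ 0) (t : K) :
    MulAut.conj (S.y q.swap ((N s)⁻¹ • s)) (MulAut.conj (S.y q s) (S.x p q t)) =
      S.x p q.swap (-t * N s) := by
  have hpq' : Rt p q.swap := hpq.swap_right
  have hqp : Rt q.swap p := hpq.symm.swap_left
  have hB : QuadraticMap.polar N ((N s)⁻¹ • s) s = 2 := by
    rw [QuadraticMap.polar_smul_left, QuadraticMap.polar_self, smul_eq_mul, nsmul_eq_mul,
      Nat.cast_ofNat]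
    field_simp
  have e1 : MulAut.conj (S.y q.swap ((N s)⁻¹ • s)) (S.x p q t) = S.x p q t :=
    S.q4_cj_y_x_fix hpq (ne_swap q).symm (fun e => hpq.1 (swap_inj.mp e).symm) _ t
  have e2 : MulAut.conj (S.y q.swap ((N s)⁻¹ • s)) (S.y p ((-t) • s)) =
      S.x p q (-(2 * t)) * S.y p ((-t) • s) := by
    rw [S.q4_cj_y_y hqp, S.xbar q.swap p.swap hqp.swap_right, Sum.swap_swap, Sum.swap_swap]
    congr 2
    rw [QuadraticMap.polar_smul_right, hB, smul_eq_mul]
    ring
  have e3 : MulAut.conj (S.y q.swap ((N s)⁻¹ • s)) (S.x p q.swap (-t * N s)) =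
      S.x p q.swap (-t * N s) * S.y p (t • s) * S.x p q t := by
    rw [S.q4_cj_y_x hpq', Sum.swap_swap]
    congr 2
    · congr 1
      rw [smul_smul]
      congr 1
      field_simp
    · rw [q4_N_inv hs]
      field_simp
  rw [S.q4_cj_y_x hpq, map_mul, map_mul, e1, e2, e3]
  refine p4_grp6 ?_ ?_ ?_ ?_
  · exact (S.xy_comm p q.swap p hpq' hpq.2 (ne_swap p) _ _).symm
  · rw [S.yadd, ← add_smul]
    have : -t + t = 0 := by ring
    rw [this, zero_smul, S.q4_y_zero]
  · rw [S.add p q hpq, S.comm_row p q hpq]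
  · rw [S.add p q hpq, S.add p q hpq]
    have : t + -(2 * t) + t = 0 := by ring
    rw [this, S.toOD.x_zero hpq]

/-! ### the action on the long root elements -/

theorem q4_conj_ws (a : Idx m) (v : W) (g : Γ) :
    MulAut.conj (S.ws a v) g =
      MulAut.conj (S.y a v) (MulAut.conj (S.y a.swap ((N v)⁻¹ • v)) (MulAut.conj (S.y a v) g)) := by
  unfold ws
  rw [map_mul, map_mul, MulAut.mul_apply, MulAut.mul_apply]

/-- `ws_a(v) x_pa(t) ws_a(v)⁻¹ = x_pā(-t N(v))`. -/
theorem q4_ws_x {p a : Idx m} (hpa : Rt p a) {v : W} (hv : N v ≠ 0) (t : K) :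
    MulAut.conj (S.ws a v) (S.x p a t) = S.x p a.swap (-t * N v) := by
  rw [S.q4_conj_ws, S.q4_core hpa hv t]
  exact S.q4_cj_y_x_fix hpa.swap_right (ne_swap a) (fun e => hpa.2 (swap_eq_iff.mp e.symm)) _ _

/-- `ws_a(v) x_pā(t) ws_a(v)⁻¹ = x_pa(-t N(v)⁻¹)`. -/
theorem q4_ws_x_bar {p a : Idx m} (hpa : Rt p a) {v : W} (hv : N v ≠ 0) (t : K) :
    MulAut.conj (S.ws a v) (S.x p a.swap t) = S.x p a (-t * (N v)⁻¹) := by
  have hv' : N ((N v)⁻¹ • v) ≠ 0 := by
    rw [q4_N_inv hv]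
    exact inv_ne_zero hv
  have h := S.q4_core hpa.swap_right hv' t
  rw [Sum.swap_swap, q4_inv_inv hv, q4_N_inv hv] at h
  rw [S.q4_conj_ws,
    S.q4_cj_y_x_fix hpa.swap_right (ne_swap a) (fun e => hpa.2 (swap_eq_iff.mp e.symm)) v t, h]

section cW

variable {a i : Idx m}

theorem q4_cW_a (v : W) : cW N a v a = -(N v)⁻¹ := by
  unfold cW
  rw [if_pos rfl]

theorem q4_cW_abar (v : W) : cW N a v a.swap = -(N v) := by
  unfold cW
  rw [if_neg (ne_swap a).symm, if_pos rfl]

theorem q4_cW_oth (h1 : i ≠ a) (h2 : i ≠ a.swap) (v : W) : cW N a v i = 1 := by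
  unfold cW
  rw [if_neg h1, if_neg h2]

end cW

/-- **P4b: the short Weyl elements act monomially on the long root elements.** -/
theorem ws_conj_x (hm : 3 ≤ m) (a : Idx m) {v : W} (hv : N v ≠ 0) {i j : Idx m} (hij : Rt i j) (c : K) :
    MulAut.conj (S.ws a v) (S.x i j c) =
      S.x (OB.sB a i) (OB.sB a j) (cW N a v i * (cW N a v j)⁻¹ * c) := by
  by_cases hja : j = a
  · subst hja
    have hi1 : i ≠ j := hij.1
    have hi2 : i ≠ j.swap := hij.2
    rw [S.q4_ws_x hij hv, OB.p4_sB_oth hi1 hi2, OB.p4_sB_a, q4_cW_oth hi1 hi2, q4_cW_a]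
    congr 1
    field_simp
  by_cases hja' : j = a.swap
  · subst hja'
    have hi1 : i ≠ a := fun e => hij.2 (by rw [e, Sum.swap_swap])
    have hi2 : i ≠ a.swap := hij.1
    have hia : Rt i a := ⟨hi1, hi2⟩
    rw [S.q4_ws_x_bar hia hv, OB.p4_sB_oth hi1 hi2, OB.p4_sB_abar, q4_cW_oth hi1 hi2, q4_cW_abar]
    congr 1
    field_simp
  by_cases hia : i = a
  · subst hia
    have hj : Rt j.swap i := by
      have := hij.bar.swap_right
      rwa [Sum.swap_swap] at this
    have hj' : Rt j.swap i.swap := hij.bar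
    rw [S.xbar i j hij, S.q4_ws_x_bar hj hv, OB.p4_sB_a, OB.p4_sB_oth hja hja', q4_cW_a,
      q4_cW_oth hja hja', S.xbar i.swap j hij.swap_left, Sum.swap_swap]
    congr 1
    field_simp
  by_cases hia' : i = a.swap
  · subst hia'
    have hj : Rt j.swap a := by
      have := hij.bar
      rwa [Sum.swap_swap] at this
    have e : S.x a.swap j c = S.x j.swap a (-c) := by
      rw [S.xbar a.swap j hij, Sum.swap_swap]
    have hij2 : Rt a j := by
      have := hij.swap_left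
      rwa [Sum.swap_swap] at this
    rw [e, S.q4_ws_x hj hv, OB.p4_sB_abar, OB.p4_sB_oth hja hja', q4_cW_abar, q4_cW_oth hja hja',
      S.xbar a j hij2]
    congr 1
    field_simp
  · have f1 : ∀ (e : Idx m), (e = a ∨ e = a.swap) → ∀ (s : W) (t : K),
        MulAut.conj (S.y e s) (S.x i j t) = S.x i j t := by
      intro e he s t
      refine S.q4_cj_y_x_fix hij ?_ ?_ s t
      · rcases he with rfl | rfl
        · exact fun h => hja h.symm
        · exact fun h => hja' h.symm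
      · rcases he with rfl | rfl
        · exact fun h => hia' (swap_eq_iff.mp h.symm)
        · exact fun h => hia (swap_inj.mp h).symm
    rw [S.q4_conj_ws, f1 a (Or.inl rfl), f1 a.swap (Or.inr rfl), f1 a (Or.inl rfl),
      OB.p4_sB_oth hia hia', OB.p4_sB_oth hja hja', q4_cW_oth hia hia', q4_cW_oth hja hja', inv_one,
      one_mul, one_mul]

/-! ### the action on the short root elements -/

/-- `ws_a(v) y_i(w) ws_a(v)⁻¹ = y_i(r_v w)` for `i ≠ a, ā`. -/
theorem q4_ws_y_oth {a i : Idx m} (hai : Rt a i) {v : W} (hv : N v ≠ 0) (w : W) :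
    MulAut.conj (S.ws a v) (S.y i w) = S.y i (q4R N v w) := by
  have hia' : Rt i a.swap := hai.symm.swap_right
  have hia : Rt i a := hai.symm
  -- rewriting rules between the two names of the long root elements
  have b1 : ∀ t : K, S.x a i.swap t = S.x i a.swap (-t) := by
    intro t
    rw [S.xbar a i.swap hai.swap_right, Sum.swap_swap]
  have b2 : ∀ t : K, S.x a.swap i.swap t = S.x i a (-t) := by
    intro t
    rw [S.xbar a.swap i.swap hai.swap_left.swap_right, Sum.swap_swap, Sum.swap_swap]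
  set T : K := QuadraticMap.polar N v w with hT
  have h2 : MulAut.conj (S.y a.swap ((N v)⁻¹ • v)) (MulAut.conj (S.y a v) (S.y i w)) =
      S.x i a.swap T * S.y i (q4R N v w) := by
    rw [S.q4_cj_y_y hai, map_mul, b1, S.q4_cj_y_x hia', S.q4_cj_y_y hai.swap_left, b2, Sum.swap_swap,
      neg_neg, ← hT]
    have e1 : S.x i a (-T * N ((N v)⁻¹ • v)) *
        S.x i a (- -(QuadraticMap.polar N ((N v)⁻¹ • v) w)) = 1 := by
      rw [S.add i a hia]
      have : -T * N ((N v)⁻¹ • v) + - -(QuadraticMap.polar N ((N v)⁻¹ • v) w) = 0 := by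
        rw [q4_N_inv hv, QuadraticMap.polar_smul_left, smul_eq_mul, ← hT]
        ring
      rw [this, S.toOD.x_zero hia]
    have e2 : S.y i ((-T) • ((N v)⁻¹ • v)) * S.y i w = S.y i (q4R N v w) := by
      rw [S.yadd]
      congr 1
      unfold q4R
      rw [QuadraticMap.polar_comm N w v, ← hT, smul_smul, neg_mul, neg_smul, mul_comm T]
      abel
    calc S.x i a.swap T * S.y i ((-T) • ((N v)⁻¹ • v)) * S.x i a (-T * N ((N v)⁻¹ • v)) *
          (S.x i a (- -(QuadraticMap.polar N ((N v)⁻¹ • v) w)) * S.y i w)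
        = S.x i a.swap T * S.y i ((-T) • ((N v)⁻¹ • v)) *
          (S.x i a (-T * N ((N v)⁻¹ • v)) * S.x i a (- -(QuadraticMap.polar N ((N v)⁻¹ • v) w))) *
          S.y i w := by group
      _ = S.x i a.swap T * (S.y i ((-T) • ((N v)⁻¹ • v)) * S.y i w) := by
          rw [e1, mul_one, mul_assoc]
      _ = S.x i a.swap T * S.y i (q4R N v w) := by rw [e2]
  rw [S.q4_conj_ws, h2, map_mul,
    S.q4_cj_y_x_fix hia' (ne_swap a) (fun e => hai.2 e) v _, S.q4_cj_y_y hai, b1, ← mul_assoc,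
    S.add i a.swap hia', q4R_polar hv]
  have : T + - - -T = 0 := by ring
  rw [← hT, this, S.toOD.x_zero hia', one_mul]

/-- `y_e(w) = [x_eb(1), y_b(w)] x_eb̄(N w)⁻¹`: transport of the action from the long root elements. -/
theorem q4_y_of_comm {g : Γ} {e e' b : Idx m} (heb : Rt e b) (he'b : Rt e' b) {k : K} {τ : W → W}
    (hτ : ∀ w, N (τ w) = N w)
    (hx : ∀ c : K, MulAut.conj g (S.x e b c) = S.x e' b (k * c))
    (hx' : ∀ c : K, MulAut.conj g (S.x e b.swap c) = S.x e' b.swap (k * c))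
    (hy : ∀ w : W, MulAut.conj g (S.y b w) = S.y b (τ w)) (w : W) :
    MulAut.conj g (S.y e w) = S.y e' (k • τ w) := by
  have h1 := S.xy e b heb 1 w
  rw [one_smul, one_mul] at h1
  have h2 : S.y e w =
      S.x e b 1 * S.y b w * (S.x e b 1)⁻¹ * (S.y b w)⁻¹ * (S.x e b.swap (N w))⁻¹ := by
    rw [h1, mul_inv_cancel_right]
  have h3 := S.xy e' b he'b (k * 1) (τ w)
  rw [hτ] at h3
  rw [h2, map_mul, map_mul, map_mul, map_mul, map_inv, map_inv, map_inv, hx, hx', hy, h3,
    mul_one, mul_inv_cancel_right]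

/-- **P4c: the short Weyl elements act monomially on the short root elements** (reflection written out). -/
theorem ws_conj_y' (hm : 3 ≤ m) (a : Idx m) {v : W} (hv : N v ≠ 0) (i : Idx m) (w : W) :
    MulAut.conj (S.ws a v) (S.y i w) = S.y (OB.sB a i) (cW N a v i • q4R N v w) := by
  by_cases hi : i = a ∨ i = a.swap
  · obtain ⟨b, hb1, -, hb3, -⟩ := OD.exists_oth hm a a
    have hab : Rt a b := ⟨hb1.symm, fun e => hb3 (swap_eq_iff.mp e.symm)⟩
    have hab' : Rt a.swap b := hab.swap_left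
    have hib : Rt i b := by
      rcases hi with rfl | rfl
      · exact hab
      · exact hab'
    have hsb : Rt (OB.sB a i) b := by
      rcases hi with rfl | rfl
      · rw [OB.p4_sB_a]; exact hab'
      · rw [OB.p4_sB_abar]; exact hab
    have hb2 : b ≠ a.swap := hb3
    have hb4 : b.swap ≠ a := fun e => hb3 (swap_eq_iff.mp e)
    have hb5 : b.swap ≠ a.swap := fun e => hb1 (swap_inj.mp e)
    have hx : ∀ c : K,
        MulAut.conj (S.ws a v) (S.x i b c) = S.x (OB.sB a i) b (cW N a v i * c) := by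
      intro c
      rw [S.ws_conj_x hm a hv hib, OB.p4_sB_oth hb1 hb2, q4_cW_oth hb1 hb2, inv_one, mul_one]
    have hx' : ∀ c : K,
        MulAut.conj (S.ws a v) (S.x i b.swap c) = S.x (OB.sB a i) b.swap (cW N a v i * c) := by
      intro c
      rw [S.ws_conj_x hm a hv hib.swap_right, OB.p4_sB_oth hb4 hb5, q4_cW_oth hb4 hb5, inv_one,
        mul_one]
    have hy : ∀ w : W, MulAut.conj (S.ws a v) (S.y b w) = S.y b (q4R N v w) :=
      fun w => S.q4_ws_y_oth hab hv w
    exact S.q4_y_of_comm hib hsb (q4R_N hv) hx hx' hy w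
  · push Not at hi
    have hai : Rt a i := ⟨hi.1.symm, fun e => hi.2 (swap_eq_iff.mp e.symm)⟩
    rw [S.q4_ws_y_oth hai hv, OB.p4_sB_oth hi.1 hi.2, q4_cW_oth hi.1 hi.2, one_smul]

/-- **P4c: the short Weyl elements act monomially on the short root elements.** -/
theorem ws_conj_y (hm : 3 ≤ m) (a : Idx m) {v : W} (hv : N v ≠ 0) (i : Idx m) (w : W) :
    MulAut.conj (S.ws a v) (S.y i w) = S.y (OB.sB a i) (cW N a v i • rW N v w) := by
  rw [S.ws_conj_y' hm a hv i w, q4R_eq_rW]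

end OW

end Cfsg.Agent.CtRecM
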