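import Mathlib
import Cfsg.Agent.CtRecM.OmB

set_option autoImplicit false
set_option linter.unusedSectionVars false
set_option linter.unusedVariables false

/-!
# S2099, piece P4 (a): the long Weyl elements `w_kl(u)` act monomially on the short root elements (helper6)

Port of `CtRecB/ObBa.lean`.  `OW.w_conj_y`: `w_kl(u) y_i(w) w_kl(u)⁻¹ = y_{σ i}(c_i • w)` with `σ = sD k l`, `c = cD k l u`.

The core is the rank-two computation `q4a_core`: for `t s = -1`,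
`x_qp(s) x_pq(t) y_q(c) x_pq(t)⁻¹ x_qp(s)⁻¹ = y_p(t • c)`.
-/

namespace Cfsg.Agent.CtRecM

open Matrix Cfsg.Agent.CtRecD Cfsg.Agent.CtRecB

variable {m : ℕ} {K : Type*} [Field K] {W : Type*} [AddCommGroup W] [Module K W]
  {N : QuadraticForm K W} {Γ : Type*} [Group Γ] (S : OW m N Γ)

namespace OW

/-- `x_ab(t) y_b(w) x_ab(t)⁻¹ = y_a(t w) x_{a b̄}(t N(w)) y_b(w)`. -/
theorem q4_cj_xy {a b : Idx m} (hab : Rt a b) (t : K) (w : W) :
    MulAut.conj (S.x a b t) (S.y b w) = S.y a (t • w) * S.x a b.swap (t * N w) * S.y b w := by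
  rw [MulAut.conj_apply, ← S.xy a b hab t w, inv_mul_cancel_right]

/-- `x_ab(t)` commutes with `y_c(w)` for `c ≠ b`, `c ≠ ā`. -/
theorem q4_cj_xy_comm {a b c : Idx m} (hab : Rt a b) (hcb : c ≠ b) (hca : c ≠ a.swap) (t : K) (w : W) :
    MulAut.conj (S.x a b t) (S.y c w) = S.y c w := by
  rw [MulAut.conj_apply, S.xy_comm a b c hab hcb hca, mul_inv_cancel_right]

/-- the rank-two computation. -/
theorem q4a_core {p q : Idx m} (hpq : Rt p q) {t s : K} (hts : t * s = -1) (c : W) :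
    MulAut.conj (S.x q p s) (MulAut.conj (S.x p q t) (S.y q c)) = S.y p (t • c) := by
  have hqp : Rt q p := hpq.symm
  have hqp' : Rt q p.swap := hqp.swap_right
  have hpq' : Rt p q.swap := hpq.swap_right
  -- `x_pq̄ = x_qp̄` up to sign
  have b1 : ∀ r : K, S.x p q.swap r = S.x q p.swap (-r) := by
    intro r
    rw [S.xbar p q.swap hpq', Sum.swap_swap]
  have e1 : MulAut.conj (S.x q p s) (S.y p (t • c)) =
      S.y q (-c) * S.x q p.swap (-(t * N c)) * S.y p (t • c) := by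
    rw [S.q4_cj_xy hqp]
    congr 2
    · congr 1
      rw [smul_smul, mul_comm s t, hts, neg_one_smul]
    · congr 1
      rw [QuadraticMap.map_smul, smul_eq_mul]
      linear_combination (t * N c) * hts
  have e2 : MulAut.conj (S.x q p s) (S.x q p.swap (-(t * N c))) = S.x q p.swap (-(t * N c)) :=
    S.toOD.cj_row hqp _ _
  have e3 : MulAut.conj (S.x q p s) (S.y q c) = S.y q c :=
    S.q4_cj_xy_comm hqp hqp.1 (ne_swap q) _ _
  rw [S.q4_cj_xy hpq, b1, map_mul, map_mul, e1, e2, e3]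
  refine p4a_grp (B3 := S.x q p.swap (2 * (t * N c))) ?_ ?_ ?_ ?_
  · exact (S.xy_comm q p.swap p hqp' (ne_swap p) (fun e => hpq.2 e) _ _).symm
  · have h := S.yy p q hpq (t • c) c
    rw [b1, QuadraticMap.polar_smul_left, QuadraticMap.polar_self, smul_eq_mul, nsmul_eq_mul,
      Nat.cast_ofNat] at h
    have e : - -(t * (2 * N c)) = 2 * (t * N c) := by ring
    rw [e] at h
    rw [← h]
    group
  · rw [S.add q p.swap hqp', S.add q p.swap hqp']
    have : -(t * N c) + -(t * N c) + 2 * (t * N c) = 0 := by ring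
    rw [this, S.toOD.x_zero hqp']
  · rw [S.yadd, neg_add_cancel, S.q4_y_zero]

/-- `w_kl(u) y_l(c) w_kl(u)⁻¹ = y_k(u c)`. -/
theorem q4a_w_y_l {k l : Idx m} (hkl : Rt k l) {u : K} (hu : u ≠ 0) (c : W) :
    MulAut.conj (S.w k l u) (S.y l c) = S.y k (u • c) := by
  have hts : u * -u⁻¹ = -1 := by
    rw [mul_neg, mul_inv_cancel₀ hu]
  rw [S.toOD.conj_w, S.q4a_core hkl hts]
  exact S.q4_cj_xy_comm hkl hkl.1 (ne_swap k) _ _

/-- `w_kl(u) y_k(c) w_kl(u)⁻¹ = y_l(-u⁻¹ c)`. -/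
theorem q4a_w_y_k {k l : Idx m} (hkl : Rt k l) {u : K} (hu : u ≠ 0) (c : W) :
    MulAut.conj (S.w k l u) (S.y k c) = S.y l ((-u⁻¹) • c) := by
  have hts : -u⁻¹ * u = -1 := by
    rw [neg_mul, inv_mul_cancel₀ hu]
  rw [S.toOD.conj_w, S.q4_cj_xy_comm hkl hkl.1 (ne_swap k) u c, S.q4a_core hkl.symm hts]

/-- **P4a: the long Weyl elements act monomially on the short root elements.** -/
theorem w_conj_y (hm : 3 ≤ m) {k l : Idx m} (hkl : Rt k l) {u : K} (hu : u ≠ 0) (i : Idx m) (c : W) :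
    MulAut.conj (S.w k l u) (S.y i c) = S.y (sD k l i) (cD k l u i • c) := by
  have hnu : -u ≠ 0 := neg_ne_zero.mpr hu
  rcases OB.p4a_cases k l i with rfl | rfl | rfl | rfl | hi
  · rw [S.q4a_w_y_k hkl hu, sD_k hkl, cD_k hkl]
  · rw [S.q4a_w_y_l hkl hu, sD_l hkl, cD_l]
  · rw [S.toOD.w_bar hkl, S.q4a_w_y_l hkl.bar hnu, sD_kbar hkl, cD_kbar hkl]
  · rw [S.toOD.w_bar hkl, S.q4a_w_y_k hkl.bar hnu, sD_lbar hkl, cD_lbar hkl, inv_neg, neg_neg]
  · have f1 : ∀ s : K, MulAut.conj (S.x k l s) (S.y i c) = S.y i c :=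
      fun s => S.q4_cj_xy_comm hkl hi.2.1 hi.2.2.1 _ _
    have f2 : ∀ s : K, MulAut.conj (S.x l k s) (S.y i c) = S.y i c :=
      fun s => S.q4_cj_xy_comm hkl.symm hi.1 hi.2.2.2 _ _
    rw [S.toOD.conj_w, f1, f2, f1, sD_oth hi, cD_oth hi, one_smul]

/-! ### the rotation element `ws_d(w₁) ws_d(w₂)⁻¹`, `N w₁ = N w₂` -/

theorem q4_ws_inv (a : Idx m) (v : W) : (S.ws a v)⁻¹ = S.ws a (-v) := by
  unfold ws
  rw [_root_.mul_inv_rev, _root_.mul_inv_rev, S.q4_y_inv, S.q4_y_inv, QuadraticMap.map_neg, smul_neg,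
    mul_assoc]

theorem q4_sB_sB (a i : Idx m) : OB.sB a (OB.sB a i) = i := by
  unfold OB.sB
  exact Equiv.swap_apply_self a a.swap i

theorem q4_cW_ne_zero (a : Idx m) {v : W} (hv : N v ≠ 0) (i : Idx m) : cW N a v i ≠ 0 := by
  unfold cW
  split_ifs
  · exact neg_ne_zero.mpr (inv_ne_zero hv)
  · exact neg_ne_zero.mpr hv
  · exact one_ne_zero

/-- the coefficients of `ws_a(w₁)` and `ws_a(w₂)` cancel when `N w₁ = N w₂`. -/
theorem q4_cW_cancel (a : Idx m) {w₁ w₂ : W} (h1 : N w₁ ≠ 0) (h12 : N w₂ = N w₁) (i : Idx m) :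
    cW N a w₁ (OB.sB a i) * cW N a w₂ i = 1 := by
  by_cases hia : i = a
  · subst hia
    rw [OB.p4_sB_a, q4_cW_abar, q4_cW_a, h12]
    field_simp
  by_cases hia' : i = a.swap
  · subst hia'
    rw [OB.p4_sB_abar, q4_cW_a, q4_cW_abar, h12]
    field_simp
  · rw [OB.p4_sB_oth hia hia', q4_cW_oth hia hia', q4_cW_oth hia hia', one_mul]

/-- **the rotation element**: for `N w₁ = N w₂ ≠ 0` the element `g = ws_d(w₁) ws_d(w₂)⁻¹` centralises all long root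
elements and acts on every short root subgroup by the rotation `r_{w₁} r_{w₂}`. -/
theorem rot_conj' (hm : 3 ≤ m) (d : Idx m) {w₁ w₂ : W} (h1 : N w₁ ≠ 0) (h12 : N w₂ = N w₁) :
    (∀ a b, Rt a b → ∀ t : K,
      S.ws d w₁ * (S.ws d w₂)⁻¹ * S.x a b t * (S.ws d w₁ * (S.ws d w₂)⁻¹)⁻¹ = S.x a b t) ∧
    ∀ (c : Idx m) (w : W),
      S.ws d w₁ * (S.ws d w₂)⁻¹ * S.y c w * (S.ws d w₁ * (S.ws d w₂)⁻¹)⁻¹ =
        S.y c (q4R N w₁ (q4R N w₂ w)) := by
  have h2 : N w₂ ≠ 0 := by rw [h12]; exact h1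
  have h2' : N (-w₂) ≠ 0 := by rw [QuadraticMap.map_neg]; exact h2
  have h12' : N (-w₂) = N w₁ := by rw [QuadraticMap.map_neg]; exact h12
  have hR : ∀ w, q4R N (-w₂) w = q4R N w₂ w := by
    intro w
    unfold q4R
    rw [QuadraticMap.map_neg, QuadraticMap.polar_neg_right, smul_neg, mul_neg, neg_smul, neg_neg]
  have hconj : ∀ g : Γ, S.ws d w₁ * (S.ws d w₂)⁻¹ * g * (S.ws d w₁ * (S.ws d w₂)⁻¹)⁻¹ =
      MulAut.conj (S.ws d w₁) (MulAut.conj (S.ws d (-w₂)) g) := by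
    intro g
    rw [← S.q4_ws_inv, MulAut.conj_apply, MulAut.conj_apply]
    group
  constructor
  · intro a b hab t
    have hab' : Rt (OB.sB d a) (OB.sB d b) := by
      refine ⟨fun e => hab.1 ((OB.sB d).injective e), fun e => hab.2 ?_⟩
      rw [← OB.sB_swap] at e
      exact (OB.sB d).injective e
    rw [hconj, S.ws_conj_x hm d h2' hab, S.ws_conj_x hm d h1 hab', q4_sB_sB, q4_sB_sB]
    congr 1
    have ea := q4_cW_cancel (N := N) d h1 h12' a
    have eb := q4_cW_cancel (N := N) d h1 h12' b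
    have hb0 : cW N d w₁ (OB.sB d b) ≠ 0 := q4_cW_ne_zero d h1 _
    have hb0' : cW N d (-w₂) b ≠ 0 := q4_cW_ne_zero d h2' _
    have : (cW N d w₁ (OB.sB d b))⁻¹ * (cW N d (-w₂) b)⁻¹ = 1 := by
      rw [← mul_inv, eb, inv_one]
    calc cW N d w₁ (OB.sB d a) * (cW N d w₁ (OB.sB d b))⁻¹ *
          (cW N d (-w₂) a * (cW N d (-w₂) b)⁻¹ * t)
        = (cW N d w₁ (OB.sB d a) * cW N d (-w₂) a) *
          ((cW N d w₁ (OB.sB d b))⁻¹ * (cW N d (-w₂) b)⁻¹) * t := by ring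
      _ = t := by rw [ea, this, one_mul, one_mul]
  · intro c w
    rw [hconj, S.ws_conj_y' hm d h2' c, S.ws_conj_y' hm d h1, q4_sB_sB, hR]
    congr 1
    have ec := q4_cW_cancel (N := N) d h1 h12' c
    have hlin : ∀ (k : K) (x : W), q4R N w₁ (k • x) = k • q4R N w₁ x := by
      intro k x
      unfold q4R
      rw [QuadraticMap.polar_smul_left, smul_eq_mul, smul_sub, smul_smul]
      congr 2
      ring
    rw [hlin, smul_smul, ec, one_smul]

/-- **the rotation element** (in terms of `rW`). -/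
theorem rot_conj (hm : 3 ≤ m) (d : Idx m) {w₁ w₂ : W} (h1 : N w₁ ≠ 0) (h12 : N w₂ = N w₁) :
    (∀ a b, Rt a b → ∀ t : K,
      S.ws d w₁ * (S.ws d w₂)⁻¹ * S.x a b t * (S.ws d w₁ * (S.ws d w₂)⁻¹)⁻¹ = S.x a b t) ∧
    ∀ (c : Idx m) (w : W),
      S.ws d w₁ * (S.ws d w₂)⁻¹ * S.y c w * (S.ws d w₁ * (S.ws d w₂)⁻¹)⁻¹ =
        S.y c (rW N w₁ (rW N w₂ w)) := by
  obtain ⟨hx, hy⟩ := S.rot_conj' hm d h1 h12
  refine ⟨hx, fun c w => ?_⟩
  rw [hy c w, q4R_eq_rW, q4R_eq_rW]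

end OW

end Cfsg.Agent.CtRecM
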