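import Mathlib
import Cfsg.Agent.CtRecM.OmA
import Cfsg.Agent.CtRecB.ObC
import Cfsg.Agent.CtRecD.OdC

set_option autoImplicit false
set_option linter.unusedSectionVars false
set_option linter.unusedVariables false

/-!
# S2099, piece P5: elements acting monomially on the root elements of a system `OW` (helper5)

Port of `CtRecB/ObC.lean`.  The sign `ε = ±1` of type `B_m` becomes an isometry `τ : W ≃ₗ[K] W` of the anisotropic space.
The statements of piece P4 (the action of the elements `w_kl(u)`, `w_a(v)` on the root elements) enter through the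
structure `OW.P4Hyp`.
-/

namespace Cfsg.Agent.CtRecM

open Cfsg.Agent.CtRecD Cfsg.Agent.CtRecB
open Cfsg.Agent.CtRecB.OB (sB sB_a sB_abar sB_oth sB_swap sB_sB)

variable {m : ℕ} {K : Type*} [Field K] {W : Type*} [AddCommGroup W] [Module K W]
  {N : QuadraticForm K W} {Γ : Type*} [Group Γ] (S : OW m N Γ)

/-! ### the coefficients `cW N a v` -/

theorem cW_a (a : Idx m) (v : W) : cW N a v a = -(N v)⁻¹ := by
  unfold cW
  rw [if_pos rfl]

theorem cW_abar (a : Idx m) (v : W) : cW N a v a.swap = -(N v) := by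
  unfold cW
  rw [if_neg (ne_swap a).symm, if_pos rfl]

theorem cW_oth {a i : Idx m} (h1 : i ≠ a) (h2 : i ≠ a.swap) (v : W) : cW N a v i = 1 := by
  unfold cW
  rw [if_neg h1, if_neg h2]

theorem cW_ne_zero (a : Idx m) {v : W} (hv : N v ≠ 0) (i : Idx m) : cW N a v i ≠ 0 := by
  unfold cW
  split_ifs
  · exact neg_ne_zero.mpr (inv_ne_zero hv)
  · exact neg_ne_zero.mpr hv
  · exact one_ne_zero

theorem cW_swap (a : Idx m) (v : W) (i : Idx m) : cW N a v i.swap = (cW N a v i)⁻¹ := by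
  by_cases h1 : i = a
  · subst h1
    rw [cW_abar, cW_a, inv_neg, inv_inv]
  by_cases h2 : i = a.swap
  · subst h2
    rw [Sum.swap_swap, cW_abar, cW_a, inv_neg]
  have h3 : i.swap ≠ a := fun e => h2 (by rw [← e, Sum.swap_swap])
  have h4 : i.swap ≠ a.swap := fun e => h1 (swap_inj.mp e)
  rw [cW_oth h1 h2, cW_oth h3 h4, inv_one]

namespace OW

/-! ### the calculus of `MonW` -/

theorem monW_one : S.MonW 1 1 (fun _ => 1) (LinearEquiv.refl K W) := by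
  refine ⟨fun _ => one_ne_zero, fun _ => inv_one.symm, fun _ => rfl, fun _ => rfl, fun i j hij c => ?_,
    fun i w => ?_⟩
  · rw [map_one, MulAut.one_apply, Equiv.Perm.one_apply, Equiv.Perm.one_apply, inv_one, mul_one, one_mul]
  · rw [map_one, MulAut.one_apply, Equiv.Perm.one_apply, one_smul, LinearEquiv.refl_apply]

variable {S}

theorem MonW.ne_zero {g : Γ} {σ : Equiv.Perm (Idx m)} {a : Idx m → K} {τ : W ≃ₗ[K] W}
    (h : S.MonW g σ a τ) (i : Idx m) : a i ≠ 0 := h.1 i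

theorem MonW.a_swap {g : Γ} {σ : Equiv.Perm (Idx m)} {a : Idx m → K} {τ : W ≃ₗ[K] W}
    (h : S.MonW g σ a τ) (i : Idx m) : a i.swap = (a i)⁻¹ := h.2.1 i

theorem MonW.isom {g : Γ} {σ : Equiv.Perm (Idx m)} {a : Idx m → K} {τ : W ≃ₗ[K] W}
    (h : S.MonW g σ a τ) (w : W) : N (τ w) = N w := h.2.2.1 w

theorem MonW.isom_symm {g : Γ} {σ : Equiv.Perm (Idx m)} {a : Idx m → K} {τ : W ≃ₗ[K] W}
    (h : S.MonW g σ a τ) (w : W) : N (τ.symm w) = N w := by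
  have := h.isom (τ.symm w)
  rw [LinearEquiv.apply_symm_apply] at this
  exact this.symm

theorem MonW.sigma_swap {g : Γ} {σ : Equiv.Perm (Idx m)} {a : Idx m → K} {τ : W ≃ₗ[K] W}
    (h : S.MonW g σ a τ) (i : Idx m) : σ i.swap = (σ i).swap := h.2.2.2.1 i

theorem MonW.conj_x {g : Γ} {σ : Equiv.Perm (Idx m)} {a : Idx m → K} {τ : W ≃ₗ[K] W}
    (h : S.MonW g σ a τ) {i j : Idx m} (hij : Rt i j) (c : K) :
    MulAut.conj g (S.x i j c) = S.x (σ i) (σ j) (a i * (a j)⁻¹ * c) := h.2.2.2.2.1 i j hij c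

theorem MonW.conj_y {g : Γ} {σ : Equiv.Perm (Idx m)} {a : Idx m → K} {τ : W ≃ₗ[K] W}
    (h : S.MonW g σ a τ) (i : Idx m) (w : W) :
    MulAut.conj g (S.y i w) = S.y (σ i) (a i • τ w) := h.2.2.2.2.2 i w

theorem MonW.rt {g : Γ} {σ : Equiv.Perm (Idx m)} {a : Idx m → K} {τ : W ≃ₗ[K] W}
    (h : S.MonW g σ a τ) {i j : Idx m} (hij : Rt i j) : Rt (σ i) (σ j) := by
  refine ⟨fun e => hij.1 (σ.injective e), fun e => hij.2 ?_⟩
  rw [← h.sigma_swap] at e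
  exact σ.injective e

/-- the product: `τ` of the product is `τ ∘ τ'`. -/
theorem MonW.mul {g g' : Γ} {σ σ' : Equiv.Perm (Idx m)} {a a' : Idx m → K} {τ τ' : W ≃ₗ[K] W}
    (h : S.MonW g σ a τ) (h' : S.MonW g' σ' a' τ') :
    S.MonW (g * g') (σ * σ') (fun i => a (σ' i) * a' i) (τ'.trans τ) := by
  refine ⟨fun i => mul_ne_zero (h.1 _) (h'.1 _), fun i => ?_, fun w => ?_, fun i => ?_, fun i j hij c => ?_,
    fun i w => ?_⟩
  · show a (σ' i.swap) * a' i.swap = (a (σ' i) * a' i)⁻¹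
    rw [h'.sigma_swap, h.a_swap, h'.a_swap, mul_inv]
  · rw [LinearEquiv.trans_apply, h.isom, h'.isom]
  · rw [Equiv.Perm.mul_apply, Equiv.Perm.mul_apply, h'.sigma_swap, h.sigma_swap]
  · rw [map_mul, MulAut.mul_apply, h'.conj_x hij, h.conj_x (h'.rt hij),
      Equiv.Perm.mul_apply, Equiv.Perm.mul_apply]
    congr 1
    rw [mul_inv]
    ring
  · rw [map_mul, MulAut.mul_apply, h'.conj_y, h.conj_y, Equiv.Perm.mul_apply, LinearEquiv.trans_apply,
      map_smul, smul_smul]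

theorem MonW.inv {g : Γ} {σ : Equiv.Perm (Idx m)} {a : Idx m → K} {τ : W ≃ₗ[K] W} (h : S.MonW g σ a τ) :
    S.MonW g⁻¹ σ⁻¹ (fun i => (a (σ⁻¹ i))⁻¹) τ.symm := by
  have hσ : ∀ i, σ (σ⁻¹ i) = i := fun i => by rw [Equiv.Perm.inv_def, Equiv.apply_symm_apply]
  have hbar : ∀ i : Idx m, σ⁻¹ i.swap = (σ⁻¹ i).swap := by
    intro i
    apply σ.injective
    rw [hσ, h.sigma_swap, hσ]
  refine ⟨fun i => inv_ne_zero (h.1 _), fun i => ?_, h.isom_symm, hbar, fun i j hij c => ?_, fun i w => ?_⟩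
  · show (a (σ⁻¹ i.swap))⁻¹ = ((a (σ⁻¹ i))⁻¹)⁻¹
    rw [hbar, h.a_swap]
  · have hij' : Rt (σ⁻¹ i) (σ⁻¹ j) := by
      refine ⟨fun e => hij.1 (σ⁻¹.injective e), fun e => hij.2 ?_⟩
      rw [← hbar] at e
      exact σ⁻¹.injective e
    have e := h.conj_x hij' ((a (σ⁻¹ i))⁻¹ * ((a (σ⁻¹ j))⁻¹)⁻¹ * c)
    rw [hσ i, hσ j] at e
    have e2 : a (σ⁻¹ i) * (a (σ⁻¹ j))⁻¹ * ((a (σ⁻¹ i))⁻¹ * ((a (σ⁻¹ j))⁻¹)⁻¹ * c) = c := by
      have h1 := h.1 (σ⁻¹ i)
      have h2 := h.1 (σ⁻¹ j)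
      field_simp
    rw [e2] at e
    rw [← e, map_inv, MulAut.inv_apply, MulEquiv.symm_apply_apply]
  · have e := h.conj_y (σ⁻¹ i) ((a (σ⁻¹ i))⁻¹ • τ.symm w)
    rw [hσ i] at e
    have e2 : a (σ⁻¹ i) • τ ((a (σ⁻¹ i))⁻¹ • τ.symm w) = w := by
      rw [map_smul, LinearEquiv.apply_symm_apply, smul_smul, mul_inv_cancel₀ (h.1 _), one_smul]
    rw [e2] at e
    rw [← e, map_inv, MulAut.inv_apply, MulEquiv.symm_apply_apply]

theorem MonW.congr {g : Γ} {σ σ' : Equiv.Perm (Idx m)} {a a' : Idx m → K} {τ τ' : W ≃ₗ[K] W}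
    (h : S.MonW g σ a τ) (hσ : σ = σ') (ha : ∀ i, a i = a' i) (hτ : ∀ w, τ w = τ' w) :
    S.MonW g σ' a' τ' := by
  have e1 : a = a' := funext ha
  have e2 : τ = τ' := LinearEquiv.ext hτ
  rw [← e1, ← hσ, ← e2]
  exact h

/-- `g x_ij(c) = x_{σi σj}(a_i a_j⁻¹ c) g`. -/
theorem MonW.mul_x {g : Γ} {σ : Equiv.Perm (Idx m)} {a : Idx m → K} {τ : W ≃ₗ[K] W} (h : S.MonW g σ a τ)
    {i j : Idx m} (hij : Rt i j) (c : K) :
    g * S.x i j c = S.x (σ i) (σ j) (a i * (a j)⁻¹ * c) * g := by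
  rw [← h.conj_x hij c, MulAut.conj_apply, inv_mul_cancel_right]

/-- `g y_i(w) = y_{σi}(a_i τ(w)) g`. -/
theorem MonW.mul_y {g : Γ} {σ : Equiv.Perm (Idx m)} {a : Idx m → K} {τ : W ≃ₗ[K] W} (h : S.MonW g σ a τ)
    (i : Idx m) (w : W) : g * S.y i w = S.y (σ i) (a i • τ w) * g := by
  rw [← h.conj_y i w, MulAut.conj_apply, inv_mul_cancel_right]

/-- the action of a monomial element on the `w_kl(u)`. -/
theorem MonW.conj_w {g : Γ} {σ : Equiv.Perm (Idx m)} {a : Idx m → K} {τ : W ≃ₗ[K] W} (h : S.MonW g σ a τ)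
    {k l : Idx m} (hkl : Rt k l) {u : K} (hu : u ≠ 0) :
    MulAut.conj g (S.w k l u) = S.w (σ k) (σ l) (a k * (a l)⁻¹ * u) :=
  (OW.MonW.toMon S h).conj_w S.toOD hkl hu

/-- the action of a monomial element on the `w_a(v)`. -/
theorem MonW.conj_ws {g : Γ} {σ : Equiv.Perm (Idx m)} {a : Idx m → K} {τ : W ≃ₗ[K] W} (h : S.MonW g σ a τ)
    (k : Idx m) (v : W) :
    MulAut.conj g (S.ws k v) = S.ws (σ k) (a k • τ v) := by
  unfold ws
  rw [map_mul, map_mul, h.conj_y, h.conj_y, h.sigma_swap, h.a_swap]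
  congr 3
  rw [QuadraticMap.map_smul, h.isom, map_smul, smul_smul, smul_smul, smul_eq_mul]
  congr 1
  have ha := h.1 k
  rw [mul_inv, mul_inv, mul_comm ((a k)⁻¹ * (a k)⁻¹) (N v)⁻¹, mul_assoc, mul_assoc, inv_mul_cancel₀ ha,
    mul_one, mul_comm]

/-- the action of a monomial element on the `h_a(v, v₀)`. -/
theorem MonW.conj_hs {g : Γ} {σ : Equiv.Perm (Idx m)} {a : Idx m → K} {τ : W ≃ₗ[K] W} (h : S.MonW g σ a τ)
    (k : Idx m) (v v₀ : W) :
    MulAut.conj g (S.hs k v v₀) = S.hs (σ k) (a k • τ v) (a k • τ v₀) := by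
  unfold hs
  rw [map_mul, h.conj_ws, h.conj_ws, map_neg, smul_neg]

variable (S)

/-! ### the elements `w_kl(u)`, `w_a(v)` are monomial (given piece P4) -/

/-- the statements of piece P4: the action of `w_kl(u)` on the short root elements and of `w_a(v)` on all root elements. -/
structure P4Hyp : Prop where
  w_conj_y : ∀ {k l : Idx m}, Rt k l → ∀ {u : K}, u ≠ 0 → ∀ (i : Idx m) (w : W),
    MulAut.conj (S.w k l u) (S.y i w) = S.y (sD k l i) (cD k l u i • w)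
  ws_conj_x : ∀ (a : Idx m) {v : W}, N v ≠ 0 → ∀ {i j : Idx m}, Rt i j → ∀ c : K,
    MulAut.conj (S.ws a v) (S.x i j c) = S.x (sB a i) (sB a j) (cW N a v i * (cW N a v j)⁻¹ * c)
  ws_conj_y : ∀ (a : Idx m) {v : W}, N v ≠ 0 → ∀ (i : Idx m) (w : W),
    MulAut.conj (S.ws a v) (S.y i w) = S.y (sB a i) (cW N a v i • rW N v w)

theorem monW_w_of (hm : 3 ≤ m) (H : S.P4Hyp) {k l : Idx m} (hkl : Rt k l) {u : K} (hu : u ≠ 0) :
    S.MonW (S.w k l u) (sD k l) (cD k l u) (LinearEquiv.refl K W) := by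
  refine ⟨cD_ne_zero k l hu, cD_swap hkl hu, fun _ => rfl, fun i => sD_swap i,
    fun i j hij c => S.toOD.w_conj hkl hu hm hij c, fun i w => ?_⟩
  rw [H.w_conj_y hkl hu, LinearEquiv.refl_apply]

theorem monW_ws_of (H : S.P4Hyp) (a : Idx m) {v : W} (hv : N v ≠ 0) :
    S.MonW (S.ws a v) (sB a) (cW N a v) (rWe N v hv) := by
  refine ⟨cW_ne_zero a hv, cW_swap a v, fun w => ?_, sB_swap a,
    fun i j hij c => H.ws_conj_x a hv hij c, fun i w => ?_⟩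
  · rw [rWe_apply, N_rW N hv]
  · rw [H.ws_conj_y a hv, rWe_apply]

theorem exists_monW_of_mem_WtW_of (hm : 3 ≤ m) (H : S.P4Hyp) {g : Γ} (hg : g ∈ S.WtW) :
    ∃ (σ : Equiv.Perm (Idx m)) (a : Idx m → K) (τ : W ≃ₗ[K] W), S.MonW g σ a τ := by
  unfold WtW at hg
  induction hg using Subgroup.closure_induction with
  | mem g hg =>
    rcases hg with ⟨k, l, u, hkl, hu, rfl⟩ | ⟨a, v, hv, rfl⟩
    · exact ⟨_, _, _, S.monW_w_of hm H hkl hu⟩
    · exact ⟨_, _, _, S.monW_ws_of H a hv⟩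
  | one => exact ⟨_, _, _, S.monW_one⟩
  | mul a b _ _ iha ihb =>
    obtain ⟨σ, c, τ, h⟩ := iha
    obtain ⟨σ', c', τ', h'⟩ := ihb
    exact ⟨_, _, _, h.mul h'⟩
  | inv a _ ih =>
    obtain ⟨σ, c, τ, h⟩ := ih
    exact ⟨_, _, _, h.inv⟩

/-- `w_ā(s) = w_a(N(s)⁻¹ s)` (given piece P4). -/
theorem ws_swap_of (H : S.P4Hyp) (a : Idx m) {s : W} (hs : N s ≠ 0) :
    S.ws a.swap s = S.ws a ((N s)⁻¹ • s) := by
  have hv : N ((N s)⁻¹ • s) ≠ 0 := by
    rw [QuadraticMap.map_smul, smul_eq_mul]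
    exact mul_ne_zero (mul_ne_zero (inv_ne_zero hs) (inv_ne_zero hs)) hs
  have e := (S.monW_ws_of H a hv).conj_ws a ((N s)⁻¹ • s)
  rw [MulAut.conj_apply, mul_inv_cancel_right, sB_a, cW_a, rWe_apply, rW_self N hv] at e
  rw [e]
  congr 1
  rw [QuadraticMap.map_smul, smul_eq_mul, smul_neg, neg_smul, neg_neg, smul_smul]
  have : ((N s)⁻¹ * (N s)⁻¹ * N s)⁻¹ * (N s)⁻¹ = 1 := by
    field_simp
  rw [this, one_smul]

end OW

end Cfsg.Agent.CtRecM
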