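import Mathlib
import Cfsg.Agent.CtRecM.OmBa
import Cfsg.Agent.CtRecM.OmC

set_option autoImplicit false
set_option linter.unusedSectionVars false
set_option linter.unusedVariables false

/-!
# S2099, piece P4: the package `OW.p4Hyp` and the monomial Weyl elements (helper6)

* `OW.p4Hyp hm : S.P4Hyp` (the three statements of piece P4, from `OmB`, `OmBa`);
* `OW.monW_w`, `OW.monW_ws`: the Weyl elements are monomial.
-/

namespace Cfsg.Agent.CtRecM

open Matrix Cfsg.Agent.CtRecD Cfsg.Agent.CtRecB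

variable {m : ℕ} {K : Type*} [Field K] {W : Type*} [AddCommGroup W] [Module K W]
  {N : QuadraticForm K W} {Γ : Type*} [Group Γ] (S : OW m N Γ)

namespace OW

/-- **the three statements of piece P4.** -/
theorem p4Hyp (hm : 3 ≤ m) : S.P4Hyp :=
  ⟨fun hkl _ hu i w => S.w_conj_y hm hkl hu i w, fun a _ hv _ _ hij c => S.ws_conj_x hm a hv hij c,
    fun a _ hv i w => S.ws_conj_y hm a hv i w⟩

/-- `w_kl(u)` is monomial. -/
theorem monW_w (hm : 3 ≤ m) {k l : Idx m} (hkl : Rt k l) {u : K} (hu : u ≠ 0) :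
    S.MonW (S.w k l u) (sD k l) (cD k l u) (LinearEquiv.refl K W) :=
  S.monW_w_of hm (S.p4Hyp hm) hkl hu

/-- `w_a(v)` is monomial. -/
theorem monW_ws (hm : 3 ≤ m) (a : Idx m) {v : W} (hv : N v ≠ 0) :
    S.MonW (S.ws a v) (OB.sB a) (cW N a v) (rWe N v hv) :=
  S.monW_ws_of (S.p4Hyp hm) a hv

end OW

end Cfsg.Agent.CtRecM
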