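import Mathlib
import Cfsg.Agent.CtRecM.Defs
import Cfsg.Agent.CtRecD.SchCext3
import Cfsg.Agent.CtRecB.ObCextA

set_option autoImplicit false
set_option linter.unusedSectionVars false
set_option linter.unusedVariables false

/-!
# S2099, work package P14: central extensions of a group with the Steinberg relations of type `²D_{m+1}` — the long roots (helper7)

`Sg : OW m N G` (long root elements `x a b t`, short root elements `y a w`, `w` in the quadratic space `(W, N)`), `C : CExt E G` a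
central extension.  The only input besides the relations is ONE rotation element (`RotW`): an element `g` of `G` commuting with all
long root elements and acting on every short root group by a linear isometry `ρ` of `W` with `ρ - 1` surjective.

* `om_lc_xy`: lifts of a long and a short root element which commute, commute (the pairing is bi-additive and `ρ`-invariant).
* `om_lcg`: lifts of commuting long root elements commute: `x_cd(-B(w,w')) = [y_c(w), y_d̄(w')]` and `x_ab(t)` commutes with both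
  factors (no torus at all).
* `om_Fd_eq`: `[x̂_ih(a), x̂_hj(-B(w,w'))] = [ŷ_i(a w), ŷ_j̄(w')]`, which does not involve `h`; hence `om_hFd : HFd`.
* `exists_OD_lift_om`: the long root elements lift (all `m ≥ 3`, all fields — including `A_3(2) = A_8` and `D_4(2)` inside
  `²D_4(2)`, `²D_5(2)`), by the frame `exists_OD_lift_of`.
-/

namespace Cfsg.Agent.CtRecM

open Cfsg.Agent.CtRecD Cfsg.Agent.CtRecB Cfsg.Agent.Helper7.Sc Cfsg.Agent.Helper7.Sl

variable {m : ℕ} {K : Type*} [Field K] {W : Type*} [AddCommGroup W] [Module K W]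
  {N : QuadraticForm K W} {G E : Type*} [Group G] [Group E]

/-! ### general lemmas on central extensions: the rotation argument -/

/-- **the rotation argument**: lifts of `p v` and `q` commute, if some `g` fixes `q` and acts on the additive family `p` by a map
`ρ` with `ρ - 1` surjective. -/
theorem lc_of_rot (C : CExt E G) {A : Type*} [AddGroup A] (p : A → G) (q : G)
    (hp : ∀ v v', p v * p v' = p (v + v')) (hcomm : ∀ v, p v * q = q * p v) (g : G) (ρ : A → A)
    (hρ : ∀ w, ∃ v, ρ v - v = w) (hgp : ∀ v, g * p v * g⁻¹ = p (ρ v)) (hgq : g * q * g⁻¹ = q) (v : A) :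
    C.LC (p v) q := by
  have hadd : ∀ a b : A, C.cm (p (a + b)) q = C.cm (p b) q * C.cm (p a) q := by
    intro a b
    rw [← hp a b, cm_mul_left, kap_cm_of_comm C (hcomm b)]
  have h0 : C.cm (p 0) q = 1 := by
    have h := hadd 0 0
    rw [add_zero] at h
    exact mul_eq_left.mp h.symm
  have hneg : ∀ a : A, C.cm (p (-a)) q = (C.cm (p a) q)⁻¹ := by
    intro a
    have h := hadd (-a) a
    rw [neg_add_cancel, h0] at h
    exact eq_inv_of_mul_eq_one_right h.symm
  have hinv : ∀ a : A, C.cm (p (ρ a)) q = C.cm (p a) q := by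
    intro a
    have h1 := kap_cm_of_comm C (hcomm a) g
    rw [C.kap_cm, hgp, hgq] at h1
    exact h1
  rw [C.LC_iff]
  obtain ⟨u, hu⟩ := hρ v
  rw [← hu, sub_eq_add_neg, hadd, hneg, hinv, inv_mul_cancel]

/-- two additive families of lifts of the same elements coincide, if the conjugation by some `g` acts on both by a map `ρ` with
`ρ - 1` surjective. -/
theorem eq_of_rot (C : CExt E G) {A : Type*} [AddGroup A] (P Q : A → E)
    (hP : ∀ v v', P v * P v' = P (v + v')) (hQ : ∀ v v', Q v * Q v' = Q (v + v'))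
    (hψ : ∀ v, C.ψ (P v) = C.ψ (Q v)) (g : G) (ρ : A → A) (hρ : ∀ w, ∃ v, ρ v - v = w)
    (hgP : ∀ v, C.kap g (P v) = P (ρ v)) (hgQ : ∀ v, C.kap g (Q v) = Q (ρ v)) (v : A) : P v = Q v := by
  have hP0 : P 0 = 1 := by
    have h := hP 0 0
    rw [add_zero] at h
    exact mul_eq_left.mp h
  have hQ0 : Q 0 = 1 := by
    have h := hQ 0 0
    rw [add_zero] at h
    exact mul_eq_left.mp h
  have hz : ∀ a, C.ψ (P a * (Q a)⁻¹) = 1 := fun a => by rw [map_mul, map_inv, hψ, mul_inv_cancel]
  have hcen : ∀ a (x : E), P a * (Q a)⁻¹ * x = x * (P a * (Q a)⁻¹) := fun a x => C.ker_comm (hz a) x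
  have hadd : ∀ a b, P (a + b) * (Q (a + b))⁻¹ = (P a * (Q a)⁻¹) * (P b * (Q b)⁻¹) := by
    intro a b
    rw [← hP a b, ← hQ a b, mul_inv_rev]
    calc P a * P b * ((Q b)⁻¹ * (Q a)⁻¹) = P a * (P b * (Q b)⁻¹) * (Q a)⁻¹ := by group
      _ = (P b * (Q b)⁻¹) * P a * (Q a)⁻¹ := by rw [← hcen b (P a)]
      _ = (P b * (Q b)⁻¹) * (P a * (Q a)⁻¹) := by group
      _ = (P a * (Q a)⁻¹) * (P b * (Q b)⁻¹) := by rw [hcen b]
  have hz0 : P 0 * (Q 0)⁻¹ = 1 := by rw [hP0, hQ0, inv_one, mul_one]
  have hneg : ∀ a, P (-a) * (Q (-a))⁻¹ = (P a * (Q a)⁻¹)⁻¹ := by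
    intro a
    have h := hadd a (-a)
    rw [add_neg_cancel, hz0] at h
    exact eq_inv_of_mul_eq_one_right h.symm
  have hinv : ∀ a, P (ρ a) * (Q (ρ a))⁻¹ = P a * (Q a)⁻¹ := by
    intro a
    have h1 := C.kap_ker (hz a) g
    rw [map_mul, map_inv, hgP, hgQ] at h1
    exact h1
  obtain ⟨u, hu⟩ := hρ v
  have h := hadd (ρ u) (-u)
  rw [← sub_eq_add_neg, hu, hneg, hinv, mul_inv_cancel] at h
  exact mul_inv_eq_one.mp h

/-- lifts of a product commute with the lifts of `d`, if the lifts of the factors do. -/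
theorem om_lc_mul_left (C : CExt E G) {d d₁ d₂ : G} (h1 : C.LC d₁ d) (h2 : C.LC d₂ d) : C.LC (d₁ * d₂) d :=
  (p14_lc_mul C h1.symm h2.symm).symm

/-! ### the rotation element -/

/-- `g` commutes with the long root elements and acts on every short root group by the linear isometry `ρ` of `W`, and `ρ - 1` is
surjective. -/
structure RotW (Sg : OW m N G) (g : G) (ρ : W →ₗ[K] W) : Prop where
  isom : ∀ w, N (ρ w) = N w
  surj : ∀ w, ∃ v, ρ v - v = w
  gx : ∀ a b, Rt a b → ∀ t : K, g * Sg.x a b t * g⁻¹ = Sg.x a b t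
  gy : ∀ (c : Idx m) (w : W), g * Sg.y c w * g⁻¹ = Sg.y c (ρ w)

variable (Sg : OW m N G) (C : CExt E G)

theorem om_y_zero (a : Idx m) : Sg.y a 0 = 1 := by
  have h := Sg.yadd a 0 0
  rw [add_zero] at h
  exact mul_eq_left.mp h

theorem om_y_inv (a : Idx m) (w : W) : (Sg.y a w)⁻¹ = Sg.y a (-w) := by
  apply inv_eq_of_mul_eq_one_right
  rw [Sg.yadd, add_neg_cancel, om_y_zero]

section rot

variable {g : G} {ρ : W →ₗ[K] W} (hR : RotW Sg g ρ)

include hR in
/-- **lifts of a long root element and of a short root element which commute, commute.** -/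
theorem om_lc_xy {a b c : Idx m} (hab : Rt a b) (hcb : c ≠ b) (hca : c ≠ a.swap) (t : K) (w : W) :
    C.LC (Sg.x a b t) (Sg.y c w) :=
  (lc_of_rot C (fun w => Sg.y c w) (Sg.x a b t) (Sg.yadd c)
    (fun v => (Sg.xy_comm a b c hab hcb hca t v).symm) g (fun w => ρ w) hR.surj (hR.gy c)
    (hR.gx a b hab t) w).symm

end rot

/-! ### lifts of commuting long root elements commute -/

/-- the polar form of `N` takes every value. -/
def PolarOnto (N : QuadraticForm K W) : Prop := ∀ u : K, ∃ w w' : W, -(QuadraticMap.polar N w w') = u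

theorem polarOnto_of_one (h : ∃ w w' : W, QuadraticMap.polar N w w' = 1) : PolarOnto N := by
  obtain ⟨w, w', hw⟩ := h
  intro u
  refine ⟨(-u) • w, w', ?_⟩
  rw [QuadraticMap.polar_smul_left, hw, smul_eq_mul, mul_one, neg_neg]

variable (hB : PolarOnto N)

include hB in
/-- **lifts of commuting long root elements commute** (no torus: `x_cd(-B(w,w')) = [y_c(w), y_d̄(w')]`). -/
theorem om_lcg : LCg Sg.toOD C := by
  intro a b c d hab hcd hbc had hca hdb t u
  obtain ⟨w, w', hw⟩ := hB u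
  have hcd' : Rt c d.swap := hcd.swap_right
  have h1 : Sg.x a b t * Sg.y c w = Sg.y c w * Sg.x a b t := Sg.xy_comm a b c hab hbc.symm hca t w
  have h2 : Sg.x a b t * Sg.y d.swap w' = Sg.y d.swap w' * Sg.x a b t :=
    Sg.xy_comm a b d.swap hab (fun e => hdb (swap_eq_iff.mp e)) (fun e => had (swap_inj.mp e).symm) t w'
  refine lc_of_comm_cm' C h1 h2 ?_
  rw [Sg.yy c d.swap hcd' w w', Sum.swap_swap, hw]

/-! ### the commutators of lifts of long root elements -/

section long

variable {g : G} {ρ : W →ₗ[K] W} (hR : RotW Sg g ρ)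

include hR hB in
/-- **conjugating `[ŷ_h(w), ŷ_j̄(w')]` by a lift of `x_ih(a)`**: the commutator of lifts of `x_ih(a)` and `x_hj(-B(w,w'))` is
`[ŷ_i(a w), ŷ_j̄(w')]`, which does not involve `h`. -/
theorem om_Fd_eq {i h j : Idx m} (hih : Rt i h) (hhj : Rt h j) (hij : Rt i j) (a : K) (w w' : W) :
    Fd Sg.toOD C i h j a (-(QuadraticMap.polar N w w')) =
      C.cm (Sg.y i (a • w)) (Sg.y j.swap w') := by
  have hL := om_lcg Sg C hB
  have hhj' : Rt h j.swap := hhj.swap_right
  have hij' : Rt i j.swap := hij.swap_right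
  have hih' : Rt i h.swap := hih.swap_right
  have hX : C.ψ (C.cm (Sg.y h w) (Sg.y j.swap w')) = Sg.x h j (-(QuadraticMap.polar N w w')) := by
    rw [C.ψ_cm, Sg.yy h j.swap hhj' w w', Sum.swap_swap]
  have hY : C.ψ (C.cm (Sg.y i (a • w)) (Sg.y j.swap w')) =
      Sg.x i j (-(QuadraticMap.polar N (a • w) w')) := by
    rw [C.ψ_cm, Sg.yy i j.swap hij' (a • w) w', Sum.swap_swap]
  have e1 : Sg.x i h a * Sg.y h w * (Sg.x i h a)⁻¹ =
      Sg.y i (a • w) * Sg.x i h.swap (a * N w) * Sg.y h w := by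
    rw [← Sg.xy i h hih a w]
    group
  have hj1 : j.swap ≠ h := fun e => hhj.2 e.symm
  have hj2 : j.swap ≠ i.swap := fun e => hij.1 (swap_inj.mp e).symm
  have e2 : Sg.x i h a * Sg.y j.swap w' * (Sg.x i h a)⁻¹ = Sg.y j.swap w' := by
    rw [Sg.xy_comm i h j.swap hih hj1 hj2 a w']
    group
  -- the lifts of `x_{i h̄}` commute with the lifts of `y_j̄`
  have hj3 : j.swap ≠ h.swap := fun e => hhj.1 (swap_inj.mp e).symm
  have l1 : C.LC (Sg.x i h.swap (a * N w)) (Sg.y j.swap w') :=
    om_lc_xy Sg C hR hih' hj3 hj2 _ _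
  -- the lifts of `y_i` and of `x_{i h̄}` commute with the lifts of `x_hj`
  have l2 : C.LC (Sg.y i (a • w)) (Sg.x h j (-(QuadraticMap.polar N w w'))) :=
    (om_lc_xy Sg C hR hhj hij.1 hih.2 _ _).symm
  have l3 : C.LC (Sg.x i h.swap (a * N w)) (Sg.x h j (-(QuadraticMap.polar N w w'))) :=
    hL i h.swap h j hih' hhj (ne_swap h).symm hij.1 (fun e => hih.2 (by rw [e, Sum.swap_swap]))
      (fun e => hhj.1 (by rw [e, Sum.swap_swap])) _ _
  have l4 : C.LC (Sg.y i (a • w) * Sg.x i h.swap (a * N w))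
      (Sg.x h j (-(QuadraticMap.polar N w w'))) := om_lc_mul_left C l2 l3
  -- the lifts of `x_hj` commute with the lifts of `x_ij`
  have l5 : C.LC (Sg.x h j (-(QuadraticMap.polar N w w')))
      (Sg.x i j (-(QuadraticMap.polar N (a • w) w'))) :=
    hL h j i j hhj hij hij.1.symm hhj.1 (fun e => hih.2 e) (ne_swap j) _ _
  unfold Fd
  rw [C.cm_eq_kap hX, C.kap_cm, e1, e2, cm_mul_left, cm_mul_left, (C.LC_iff _ _).mp l1, map_one, one_mul,
    l4.kap_eq C hX]
  have hc := l5 _ _ hX hY
  calc C.cm (Sg.y h w) (Sg.y j.swap w') * C.cm (Sg.y i (a • w)) (Sg.y j.swap w') *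
        (C.cm (Sg.y h w) (Sg.y j.swap w'))⁻¹
      = C.cm (Sg.y i (a • w)) (Sg.y j.swap w') * C.cm (Sg.y h w) (Sg.y j.swap w') *
        (C.cm (Sg.y h w) (Sg.y j.swap w'))⁻¹ := by rw [hc]
    _ = C.cm (Sg.y i (a • w)) (Sg.y j.swap w') := by group

include hR hB in
/-- the commutator of lifts of `y_i(w)` and `y_j̄(w')` depends only on `B(w, w')`. -/
theorem om_cm_yy {i h j : Idx m} (hih : Rt i h) (hhj : Rt h j) (hij : Rt i j) (w w' : W) :
    C.cm (Sg.y i w) (Sg.y j.swap w') = Fd Sg.toOD C i h j 1 (-(QuadraticMap.polar N w w')) := by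
  rw [om_Fd_eq Sg C hB hR hih hhj hij 1 w w', one_smul]

include hR hB in
/-- **the commutators of lifts of long root elements are the chosen lifts.** -/
theorem om_hFd (hm : 3 ≤ m) : HFd Sg.toOD C hm := by
  intro i h j hih hhj hij a b
  obtain ⟨w, w', hw⟩ := hB b
  obtain ⟨v, v', hv⟩ := hB 1
  have h1 : Fd Sg.toOD C i h j a b = Fd Sg.toOD C i h j 1 (a * b) := by
    rw [← hw, om_Fd_eq Sg C hB hR hih hhj hij a w w', om_cm_yy Sg C hB hR hih hhj hij,
      QuadraticMap.polar_smul_left, smul_eq_mul, mul_neg]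
  have h2 : sD' Sg.toOD C hm i j (a * b) = Fd Sg.toOD C i h j 1 (a * b) := by
    unfold sD'
    rw [← hv, om_Fd_eq Sg C hB hR (midD_left hm i j) (midD_right hm i j) hij (a * b) v v',
      om_cm_yy Sg C hB hR hih hhj hij, QuadraticMap.polar_smul_left, smul_eq_mul, ← mul_neg, hv, mul_one]
  rw [h1, h2]

include hR hB in
/-- **the long root elements lift to every central extension** (all `m ≥ 3`, all fields). -/
theorem exists_OD_lift_om (hm : 3 ≤ m) :
    ∃ SE : OD m K E, ∀ a b, Rt a b → ∀ t : K, C.ψ (SE.x a b t) = Sg.x a b t :=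
  exists_OD_lift_of Sg.toOD C hm (om_lcg Sg C hB) (om_hFd Sg C hB hR hm)

end long

end Cfsg.Agent.CtRecM
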