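import Mathlib
import Cfsg.Agent.CtRecM.OmCextA

set_option autoImplicit false
set_option linter.unusedSectionVars false
set_option linter.unusedVariables false

/-!
# S2099, work package P14: central extensions of a group with the Steinberg relations of type `²D_{m+1}` — the short roots (helper7)

Given the lift `SE : OD m K E` of the long root elements (`exists_OD_lift_om`), the short root elements lift by
`ỹ_a(w) := [x̂_ab(1), ŷ_b(w)] · x̃_{a b̄}(N w)⁻¹`; additivity from `om_lc_xy` and `om_yy`; independence of `b` and the general relation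
`xy` by the rotation argument `eq_of_rot`.  Result: `exists_OW_lift`.
-/

namespace Cfsg.Agent.CtRecM

open Cfsg.Agent.CtRecD Cfsg.Agent.CtRecB Cfsg.Agent.Helper7.Sc Cfsg.Agent.Helper7.Sl

variable {m : ℕ} {K : Type*} [Field K] {W : Type*} [AddCommGroup W] [Module K W]
  {N : QuadraticForm K W} {G E : Type*} [Group G] [Group E]
  (Sg : OW m N G) (C : CExt E G) (SE : OD m K E)
  (hB : PolarOnto N) {g : G} {ρ : W →ₗ[K] W} (hR : RotW Sg g ρ) (hm : 3 ≤ m)
  (hx : ∀ a b, Rt a b → ∀ t : K, C.ψ (SE.x a b t) = Sg.x a b t)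

include hB hR hm hx in
/-- **the relation `yy` for the lifts.** -/
theorem om_yy {a b : Idx m} (hab : Rt a b) (w w' : W) :
    C.cm (Sg.y a w) (Sg.y b w') = SE.x a b.swap (-(QuadraticMap.polar N w w')) := by
  have hab' : Rt a b.swap := hab.swap_right
  obtain ⟨h, h1, h2, h3, h4⟩ := OD.exists_oth hm a b.swap
  have hah : Rt a h := ⟨fun e => h1 e.symm, fun e => h3 (swap_eq_iff.mp e.symm)⟩
  have hhb : Rt h b.swap := ⟨h2, h4⟩
  have key := om_cm_yy Sg C hB hR hah hhb hab' w w'
  rw [Sum.swap_swap] at key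
  rw [key]
  unfold Fd
  rw [C.cm_eq (hx a h hah 1) (hx h b.swap hhb _), SE.comm3 a h b.swap hah hhb hab', one_mul]

/-! ### the lifts of the short root elements -/

/-- the commutator of lifts of `x_ab(t)` and `y_b(w)`: a lift of `y_a(t w) x_{a b̄}(t N(w))`. -/
noncomputable def Pw (a b : Idx m) (t : K) (w : W) : E := C.cm (Sg.x a b t) (Sg.y b w)

/-- the candidate lift of `y_a(t w)` through the index `b`. -/
noncomputable def Aw (a b : Idx m) (t : K) (w : W) : E := Pw Sg C a b t w * (SE.x a b.swap (t * N w))⁻¹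

theorem ψ_Pw {a b : Idx m} (hab : Rt a b) (t : K) (w : W) :
    C.ψ (Pw Sg C a b t w) = Sg.y a (t • w) * Sg.x a b.swap (t * N w) := by
  unfold Pw
  rw [C.ψ_cm, Sg.xy a b hab t w]

include hx in
theorem ψ_Aw {a b : Idx m} (hab : Rt a b) (t : K) (w : W) :
    C.ψ (Aw Sg C SE a b t w) = Sg.y a (t • w) := by
  unfold Aw
  rw [map_mul, map_inv, ψ_Pw Sg C hab, hx a b.swap hab.swap_right, mul_inv_cancel_right]

theorem Pw_eq (a b : Idx m) (t : K) (w : W) :
    Pw Sg C a b t w = Aw Sg C SE a b t w * SE.x a b.swap (t * N w) := by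
  unfold Aw
  rw [inv_mul_cancel_right]

include hR hx in
/-- `x̃_{a b̄}(s)` commutes with every lift of `y_a(v)`. -/
theorem om_x_comm_ya {a b : Idx m} (hab : Rt a b) (s : K) {v : W} {e : E} (he : C.ψ e = Sg.y a v) :
    SE.x a b.swap s * e = e * SE.x a b.swap s :=
  om_lc_xy Sg C hR hab.swap_right hab.2 (ne_swap a) s v _ _ (hx a b.swap hab.swap_right s) he

include hB hR hm hx in
/-- **the candidate lifts are additive in `w`.** -/
theorem Aw_add {a b : Idx m} (hab : Rt a b) (t : K) (w w' : W) :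
    Aw Sg C SE a b t w * Aw Sg C SE a b t w' = Aw Sg C SE a b t (w + w') := by
  have hab' : Rt a b.swap := hab.swap_right
  have hba : Rt b a := hab.symm
  -- `P(w + w') = P(w) * x̃(t B(w,w')) * A(w') * x̃(t N w')`
  have hP : Pw Sg C a b t (w + w') =
      Pw Sg C a b t w * (SE.x a b.swap (t * QuadraticMap.polar N w w') * Aw Sg C SE a b t w' *
        SE.x a b.swap (t * N w')) := by
    unfold Pw
    rw [← Sg.yadd b w w', C.cm_mul_right]
    congr 1
    change C.kap (Sg.y b w) (Pw Sg C a b t w') = _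
    rw [Pw_eq Sg C SE, map_mul]
    -- the lift of `x_{a b̄}` is fixed
    have l1 : C.LC (Sg.y b w) (Sg.x a b.swap (t * N w')) :=
      (om_lc_xy Sg C hR hab' (ne_swap b) hab.symm.2 _ _).symm
    rw [l1.kap_eq C (hx a b.swap hab' _)]
    congr 1
    -- the lift of `y_a(t w')` is multiplied by `[ŷ_b(w), ŷ_a(t w')]`
    have h1 := C.cm_eq_kap (d := Sg.y b w) (ψ_Aw Sg C SE hx hab t w')
    rw [om_yy Sg C SE hB hR hm hx hba w (t • w')] at h1
    have h2 : C.kap (Sg.y b w) (Aw Sg C SE a b t w') =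
        SE.x b a.swap (-(QuadraticMap.polar N w (t • w'))) * Aw Sg C SE a b t w' := by
      rw [h1]
      group
    rw [h2, SE.xbar b a.swap hba.swap_right, Sum.swap_swap, QuadraticMap.polar_smul_right, smul_eq_mul,
      neg_neg]
  have hN : N (w + w') = N w + N w' + QuadraticMap.polar N w w' := by
    unfold QuadraticMap.polar
    abel
  have c1 := om_x_comm_ya Sg C SE hR hx hab
  -- rearrange
  have hA' := ψ_Aw Sg C SE hx hab t w'
  have e1 : ∀ s : K, SE.x a b.swap s * Aw Sg C SE a b t w' = Aw Sg C SE a b t w' * SE.x a b.swap s :=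
    fun s => c1 s hA'
  have e2 : ∀ s : K, (SE.x a b.swap s)⁻¹ * Aw Sg C SE a b t w' = Aw Sg C SE a b t w' * (SE.x a b.swap s)⁻¹ := by
    intro s
    rw [SE.x_inv hab']
    exact e1 (-s)
  conv_rhs => rw [Aw, hP]
  rw [e1]
  have e3 : SE.x a b.swap (t * QuadraticMap.polar N w w') * SE.x a b.swap (t * N w') *
      (SE.x a b.swap (t * N (w + w')))⁻¹ = (SE.x a b.swap (t * N w))⁻¹ := by
    rw [SE.x_inv hab', SE.x_inv hab', SE.add a b.swap hab', SE.add a b.swap hab', hN]
    congr 1
    ring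
  calc Aw Sg C SE a b t w * Aw Sg C SE a b t w'
      = Pw Sg C a b t w * ((SE.x a b.swap (t * N w))⁻¹ * Aw Sg C SE a b t w') := by
        unfold Aw
        group
    _ = Pw Sg C a b t w * (Aw Sg C SE a b t w' * (SE.x a b.swap (t * N w))⁻¹) := by rw [e2]
    _ = Pw Sg C a b t w * (Aw Sg C SE a b t w' * (SE.x a b.swap (t * QuadraticMap.polar N w w') *
          SE.x a b.swap (t * N w') * (SE.x a b.swap (t * N (w + w')))⁻¹)) := by rw [e3]
    _ = Pw Sg C a b t w * (Aw Sg C SE a b t w' * SE.x a b.swap (t * QuadraticMap.polar N w w') *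
          SE.x a b.swap (t * N w')) * (SE.x a b.swap (t * N (w + w')))⁻¹ := by group

include hR hm hx in
/-- the conjugation by a lift of the rotation element fixes the lifts of the long root elements. -/
theorem om_kap_x {a b : Idx m} (hab : Rt a b) (s : K) : C.kap g (SE.x a b s) = SE.x a b s := by
  obtain ⟨d, d1, d2, d3, d4⟩ := OD.exists_oth hm a b
  have had : Rt a d := ⟨fun e => d1 e.symm, fun e => d3 (swap_eq_iff.mp e.symm)⟩
  have hdb : Rt d b := ⟨d2, d4⟩
  have h1 : g * Sg.x a d s = Sg.x a d s * g := by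
    have := hR.gx a d had s
    calc g * Sg.x a d s = g * Sg.x a d s * g⁻¹ * g := by group
      _ = Sg.x a d s * g := by rw [this]
  have h2 : g * Sg.x d b 1 = Sg.x d b 1 * g := by
    have := hR.gx d b hdb 1
    calc g * Sg.x d b 1 = g * Sg.x d b 1 * g⁻¹ * g := by group
      _ = Sg.x d b 1 * g := by rw [this]
  have h3 : Sg.x a d s * Sg.x d b 1 * (Sg.x a d s)⁻¹ * (Sg.x d b 1)⁻¹ = Sg.x a b s := by
    rw [Sg.comm3 a d b had hdb hab, mul_one]
  exact (lc_of_comm_cm' C h1 h2 h3).kap_eq C (hx a b hab s)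

include hR hm hx in
/-- the conjugation by a lift of the rotation element rotates the candidate lifts. -/
theorem kap_Aw {a b : Idx m} (hab : Rt a b) (t : K) (w : W) :
    C.kap g (Aw Sg C SE a b t w) = Aw Sg C SE a b t (ρ w) := by
  unfold Aw Pw
  rw [map_mul, map_inv, C.kap_cm, hR.gx a b hab, hR.gy, om_kap_x Sg C SE hR hm hx hab.swap_right, hR.isom]

include hB hR hm hx in
/-- **the candidate lift of `y_a(t w)` does not depend on the auxiliary index and on the factorisation.** -/
theorem Aw_indep {a b b' : Idx m} (hab : Rt a b) (hab' : Rt a b') (t : K) (w : W) :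
    Aw Sg C SE a b t w = Aw Sg C SE a b' 1 (t • w) := by
  refine eq_of_rot C (fun w => Aw Sg C SE a b t w) (fun w => Aw Sg C SE a b' 1 (t • w))
    (Aw_add Sg C SE hB hR hm hx hab t) (fun v v' => ?_) (fun v => ?_) g (fun w => ρ w) hR.surj
    (fun v => kap_Aw Sg C SE hR hm hx hab t v) (fun v => ?_) w
  · show Aw Sg C SE a b' 1 (t • v) * Aw Sg C SE a b' 1 (t • v') = Aw Sg C SE a b' 1 (t • (v + v'))
    rw [Aw_add Sg C SE hB hR hm hx hab' 1, smul_add]
  · show C.ψ (Aw Sg C SE a b t v) = C.ψ (Aw Sg C SE a b' 1 (t • v))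
    rw [ψ_Aw Sg C SE hx hab, ψ_Aw Sg C SE hx hab', one_smul]
  · show C.kap g (Aw Sg C SE a b' 1 (t • v)) = Aw Sg C SE a b' 1 (t • ρ v)
    rw [kap_Aw Sg C SE hR hm hx hab', map_smul]

/-- the chosen lift of `y_a(w)`. -/
noncomputable def Yw (hm : 3 ≤ m) (a : Idx m) (w : W) : E := Aw Sg C SE a (p14_bet hm a) 1 w

include hx in
theorem ψ_Yw (a : Idx m) (w : W) : C.ψ (Yw Sg C SE hm a w) = Sg.y a w := by
  unfold Yw
  rw [ψ_Aw Sg C SE hx (p14_bet_rt hm a), one_smul]

include hB hR hx in
/-- **the relation `xy` for the lifts.** -/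
theorem om_xy {a b : Idx m} (hab : Rt a b) (t : K) (w : W) :
    C.cm (Sg.x a b t) (Sg.y b w) = Yw Sg C SE hm a (t • w) * SE.x a b.swap (t * N w) := by
  have h := Pw_eq Sg C SE a b t w
  unfold Pw at h
  rw [h, Aw_indep Sg C SE hB hR hm hx hab (p14_bet_rt hm a) t w]
  rfl

include hB hR hm hx in
/-- **a central extension of a group with the Steinberg relations of type `²D_{m+1}` carries these relations**, given the lift `SE`
of the long root elements. -/
theorem exists_OW_lift_of :
    ∃ SW : OW m N E, SW.toOD = SE ∧ ∀ (a : Idx m) (w : W), C.ψ (SW.y a w) = Sg.y a w := by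
  have hψ : ∀ (a : Idx m) (w : W), C.ψ (Yw Sg C SE hm a w) = Sg.y a w := ψ_Yw Sg C SE hm hx
  refine ⟨{ toOD := SE
            y := Yw Sg C SE hm
            yadd := ?_
            yy := ?_
            xy := ?_
            xy_comm := ?_ }, rfl, hψ⟩
  · intro a w w'
    exact Aw_add Sg C SE hB hR hm hx (p14_bet_rt hm a) 1 w w'
  · intro a b hab w w'
    rw [← C.cm_eq (hψ a w) (hψ b w')]
    exact om_yy Sg C SE hB hR hm hx hab w w'
  · intro a b hab t w
    rw [← C.cm_eq (hx a b hab t) (hψ b w)]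
    exact om_xy Sg C SE hB hR hm hx hab t w
  · intro a b c hab hcb hca t w
    exact om_lc_xy Sg C hR hab hcb hca t w _ _ (hx a b hab t) (hψ c w)

include hB hR in
/-- **P14: a central extension of a group with the Steinberg relations of type `²D_{m+1}` (`m ≥ 3`, any field) carries the
Steinberg relations of type `²D_{m+1}`**, given one rotation element. -/
theorem exists_OW_lift (hm : 3 ≤ m) :
    ∃ SW : OW m N E, (∀ a b, Rt a b → ∀ t : K, C.ψ (SW.x a b t) = Sg.x a b t) ∧
      ∀ (a : Idx m) (w : W), C.ψ (SW.y a w) = Sg.y a w := by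
  obtain ⟨SE, hx⟩ := exists_OD_lift_om Sg C hB hR hm
  obtain ⟨SW, h1, h2⟩ := exists_OW_lift_of Sg C SE hB hR hm hx
  refine ⟨SW, fun a b hab t => ?_, h2⟩
  have e : SW.x a b t = SE.x a b t := by rw [← h1]
  rw [e, hx a b hab t]

end Cfsg.Agent.CtRecM
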