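import Mathlib

set_option autoImplicit false
set_option linter.unusedSectionVars false
set_option linter.unusedVariables false

/-!
# S2099 (helper9): the anisotropic plane of `quadFormMinus` as the quadratic extension `L = K[ω]`, `ω² = -b + a ω`

`QL a b := QuadraticAlgebra K (-b) a` (Mathlib): `norm z = re² + a re im + b im²`, `star z = ⟨re + a im, -im⟩`, a field if the binary form
`z₁² + a z₁ z₂ + b z₂²` is anisotropic.  `minusN a b` is the binary form on `Fin 2 → K`, `qlN a b` the norm form on `QL a b`.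
-/

namespace Cfsg.Agent.CtRecM

variable {K : Type*} [Field K]

/-- the binary form `z₀² + a z₀ z₁ + b z₁²` on `Fin 2 → K`. -/
noncomputable def minusN (a b : K) : QuadraticForm K (Fin 2 → K) :=
  QuadraticMap.proj (R := K) (A := K) (0 : Fin 2) 0 + a • QuadraticMap.proj (R := K) (A := K) (0 : Fin 2) 1
    + b • QuadraticMap.proj (R := K) (A := K) (1 : Fin 2) 1

theorem minusN_apply (a b : K) (z : Fin 2 → K) :
    minusN a b z = z 0 ^ 2 + a * z 0 * z 1 + b * z 1 ^ 2 := by
  unfold minusN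
  rw [QuadraticMap.add_apply, QuadraticMap.add_apply, QuadraticMap.smul_apply,
    QuadraticMap.smul_apply, QuadraticMap.proj_apply, QuadraticMap.proj_apply,
    QuadraticMap.proj_apply, smul_eq_mul, smul_eq_mul]
  ring

theorem minusN_aniso {a b : K}
    (hab : ∀ z₁ z₂ : K, z₁ ^ 2 + a * z₁ * z₂ + b * z₂ ^ 2 = 0 → z₁ = 0 ∧ z₂ = 0) {z : Fin 2 → K}
    (hz : minusN a b z = 0) : z = 0 := by
  rw [minusN_apply] at hz
  obtain ⟨h0, h1⟩ := hab _ _ hz
  funext i
  fin_cases i
  · exact h0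
  · exact h1

theorem minusN_polar (a b : K) (z w : Fin 2 → K) :
    QuadraticMap.polar (minusN a b) z w =
      2 * z 0 * w 0 + a * (z 0 * w 1 + z 1 * w 0) + 2 * b * z 1 * w 1 := by
  unfold QuadraticMap.polar
  rw [minusN_apply, minusN_apply, minusN_apply, Pi.add_apply, Pi.add_apply]
  ring

/-- the quadratic extension `K[ω]`, `ω² = -b + a ω`. -/
abbrev QL (a b : K) : Type _ := QuadraticAlgebra K (-b) a

/-- anisotropy makes `QL a b` a field. -/
theorem qlFact {a b : K}
    (hab : ∀ z₁ z₂ : K, z₁ ^ 2 + a * z₁ * z₂ + b * z₂ ^ 2 = 0 → z₁ = 0 ∧ z₂ = 0) :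
    Fact (∀ r : K, r ^ 2 ≠ -b + a * r) := by
  refine ⟨fun r hr => ?_⟩
  have h := (hab r (-1) (by rw [hr]; ring)).2
  exact one_ne_zero (neg_eq_zero.mp h)

/-- the norm form of `QL a b`. -/
noncomputable def qlN (a b : K) : QuadraticForm K (QL a b) :=
  (minusN a b).comp (QuadraticAlgebra.linearEquivTuple (-b) a).toLinearMap

theorem qlN_apply (a b : K) (z : QL a b) : qlN a b z = QuadraticAlgebra.norm z := by
  unfold qlN
  rw [QuadraticMap.comp_apply, LinearEquiv.coe_coe, QuadraticAlgebra.linearEquivTuple_apply,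
    minusN_apply, QuadraticAlgebra.norm_def]
  simp only [Matrix.cons_val_zero, Matrix.cons_val_one]
  ring

theorem qlN_tuple (a b : K) (z : QL a b) :
    minusN a b (QuadraticAlgebra.linearEquivTuple (-b) a z) = qlN a b z := rfl

theorem qlN_mul (a b : K) (z w : QL a b) : qlN a b (z * w) = qlN a b z * qlN a b w := by
  rw [qlN_apply, qlN_apply, qlN_apply, map_mul]

theorem qlN_one (a b : K) : qlN a b 1 = 1 := by
  rw [qlN_apply, map_one]

theorem qlN_star (a b : K) (z : QL a b) : qlN a b (star z) = qlN a b z := by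
  rw [qlN_apply, qlN_apply, QuadraticAlgebra.norm_star]

theorem qlN_algebraMap (a b : K) (t : K) : qlN a b (algebraMap K (QL a b) t) = t ^ 2 := by
  rw [qlN_apply, QuadraticAlgebra.norm_algebraMap]

/-- `N(z) = z z̄`. -/
theorem ql_mul_star (a b : K) (z : QL a b) : z * star z = algebraMap K (QL a b) (qlN a b z) := by
  rw [qlN_apply, QuadraticAlgebra.algebraMap_norm_eq_mul_star]

/-- the polar form of the norm: `B(z, w) = z w̄ + z̄ w`. -/
theorem ql_polar (a b : K) (z w : QL a b) :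
    algebraMap K (QL a b) (QuadraticMap.polar (qlN a b) z w) = z * star w + star z * w := by
  unfold QuadraticMap.polar
  rw [map_sub, map_sub, ← ql_mul_star, ← ql_mul_star, ← ql_mul_star, star_add]
  ring

section field

variable {a b : K} [Fact (∀ r : K, r ^ 2 ≠ -b + a * r)]

theorem qlN_eq_zero_iff (z : QL a b) : qlN a b z = 0 ↔ z = 0 := by
  rw [qlN_apply]
  exact QuadraticAlgebra.norm_eq_zero_iff_eq_zero

theorem ql_star_ne_zero {z : QL a b} (hz : z ≠ 0) : star z ≠ 0 := by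
  intro h
  apply hz
  have := congrArg star h
  rwa [star_star, star_zero] at this

theorem ql_inv_eq (z : QL a b) : z⁻¹ = (qlN a b z)⁻¹ • star z := by
  rw [qlN_apply]
  rfl

/-- `(N t)⁻¹ • t = (t̄)⁻¹`. -/
theorem ql_inv_smul (t : QL a b) : (qlN a b t)⁻¹ • t = (star t)⁻¹ := by
  rw [ql_inv_eq (star t), qlN_star, star_star]

/-- the reflection in `v`, in terms of the field structure: `r_v(w) = - w̄ v / v̄`. -/
theorem ql_refl {v : QL a b} (hv : v ≠ 0) (w : QL a b) :
    w - ((qlN a b v)⁻¹ * QuadraticMap.polar (qlN a b) w v) • v = -(star w * v / star v) := by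
  have hv' : star v ≠ 0 := ql_star_ne_zero hv
  have hN : qlN a b v ≠ 0 := fun h => hv ((qlN_eq_zero_iff v).mp h)
  have h1 : ((qlN a b v)⁻¹ * QuadraticMap.polar (qlN a b) w v) • v =
      (algebraMap K (QL a b) (qlN a b v))⁻¹ * (w * star v + star w * v) * v := by
    rw [Algebra.smul_def, map_mul, map_inv₀, ql_polar]
  rw [h1, ← ql_mul_star]
  field_simp
  ring

/-- the rotation `r_v r_{v'}` is the multiplication by `(v / v̄) (v̄' / v')`. -/
theorem ql_rot {v v' : QL a b} (hv : v ≠ 0) (hv' : v' ≠ 0) (w : QL a b) :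
    -(star (-(star w * v' / star v')) * v / star v) = (v / star v) * (star v' / v') * w := by
  have h1 : star v ≠ 0 := ql_star_ne_zero hv
  have h2 : star v' ≠ 0 := ql_star_ne_zero hv'
  rw [star_neg, star_div₀, star_mul, star_star, star_star]
  field_simp

end field

/-! ### finiteness -/

theorem ql_finite [Finite K] (a b : K) : Finite (QL a b) :=
  Finite.of_equiv _ (QuadraticAlgebra.equivProd (-b) a).symm

theorem ql_card [Finite K] (a b : K) : Nat.card (QL a b) = Nat.card K ^ 2 := by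
  rw [Nat.card_congr (QuadraticAlgebra.equivProd (-b) a), Nat.card_prod, pow_two]

/-! ### a rotation without fixed vectors -/

/-- over a finite field, an anisotropic binary form is separable: `2 ≠ 0` or `a ≠ 0`. -/
theorem ql_sep_of_finite [Finite K] {a b : K}
    (hab : ∀ z₁ z₂ : K, z₁ ^ 2 + a * z₁ * z₂ + b * z₂ ^ 2 = 0 → z₁ = 0 ∧ z₂ = 0) :
    (2 : K) ≠ 0 ∨ a ≠ 0 := by
  by_contra hcon
  rw [not_or, not_not, not_not] at hcon
  obtain ⟨h2, ha⟩ := hcon
  haveI : CharP K 2 := CharTwo.of_one_ne_zero_of_two_eq_zero one_ne_zero h2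
  obtain ⟨c, hc⟩ := FiniteField.isSquare_of_char_two (F := K) (ringChar.eq K 2) b
  have := (hab c 1 (by rw [ha, hc]; linear_combination c * c * h2)).2
  exact one_ne_zero this

section rot

variable {a b : K} [Fact (∀ r : K, r ^ 2 ≠ -b + a * r)]

/-- an element `z` with `z ≠ z̄` and `z ≠ -z̄`. -/
theorem ql_exists_ne_star (hsep : (2 : K) ≠ 0 ∨ a ≠ 0) :
    ∃ z : QL a b, z ≠ 0 ∧ z * z ≠ star z * star z := by
  have key : ∀ x : K, 2 * x + a ≠ 0 →
      ((⟨x, 1⟩ : QL a b) ≠ 0 ∧ (⟨x, 1⟩ : QL a b) * ⟨x, 1⟩ ≠ star (⟨x, 1⟩ : QL a b) * star ⟨x, 1⟩) := by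
    intro x hx
    refine ⟨fun h => ?_, fun h => ?_⟩
    · have := congrArg QuadraticAlgebra.im h
      simp at this
    · have h0 : ((⟨x, 1⟩ : QL a b) - star ⟨x, 1⟩) * ((⟨x, 1⟩ : QL a b) + star ⟨x, 1⟩) = 0 := by
        have : ((⟨x, 1⟩ : QL a b) - star ⟨x, 1⟩) * ((⟨x, 1⟩ : QL a b) + star ⟨x, 1⟩) =
            (⟨x, 1⟩ : QL a b) * ⟨x, 1⟩ - star (⟨x, 1⟩ : QL a b) * star ⟨x, 1⟩ := by ring
        rw [this, h, sub_self]
      rcases mul_eq_zero.mp h0 with h1 | h1
      · have e1 := congrArg QuadraticAlgebra.re h1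
        have e2 := congrArg QuadraticAlgebra.im h1
        simp at e1 e2
        rcases hsep with h2 | ha
        · apply h2
          linear_combination e2
        · exact ha e1
      · have e1 := congrArg QuadraticAlgebra.re h1
        simp at e1
        apply hx
        linear_combination e1
  by_cases h2 : (2 : K) = 0
  · have ha : a ≠ 0 := hsep.resolve_left (not_not.mpr h2)
    exact ⟨⟨0, 1⟩, key 0 (by rw [mul_zero, zero_add]; exact ha)⟩
  · refine ⟨⟨(1 - a) / 2, 1⟩, key _ ?_⟩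
    have : 2 * ((1 - a) / 2) + a = 1 := by
      field_simp
      ring
    rw [this]
    exact one_ne_zero

/-- **a rotation `r_{w₁} r_{w₂}` (`N w₁ = N w₂`) without fixed vectors**, on `QL a b`. -/
theorem ql_exists_rot (hsep : (2 : K) ≠ 0 ∨ a ≠ 0) :
    ∃ w₁ w₂ : QL a b, qlN a b w₁ ≠ 0 ∧ qlN a b w₂ = qlN a b w₁ ∧
      ∀ w : QL a b, ∃ v : QL a b,
        ((v - ((qlN a b w₂)⁻¹ * QuadraticMap.polar (qlN a b) v w₂) • w₂) -
          ((qlN a b w₁)⁻¹ * QuadraticMap.polar (qlN a b)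
            (v - ((qlN a b w₂)⁻¹ * QuadraticMap.polar (qlN a b) v w₂) • w₂) w₁) • w₁) - v = w := by
  obtain ⟨z, hz0, hz⟩ := ql_exists_ne_star (a := a) (b := b) hsep
  have hs0 : star z ≠ 0 := ql_star_ne_zero hz0
  refine ⟨z, star z, fun h => hz0 ((qlN_eq_zero_iff z).mp h), qlN_star a b z, ?_⟩
  intro w
  have hζ : z / star z * (star (star z) / star z) - 1 ≠ 0 := by
    rw [star_star]
    intro h
    apply hz
    field_simp at h
    linear_combination h
  refine ⟨(z / star z * (star (star z) / star z) - 1)⁻¹ * w, ?_⟩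
  rw [ql_refl hs0, ql_refl hz0, ql_rot hz0 hs0]
  generalize z / star z * (star (star z) / star z) = ζ at hζ ⊢
  have : ζ * ((ζ - 1)⁻¹ * w) - (ζ - 1)⁻¹ * w = (ζ - 1) * (ζ - 1)⁻¹ * w := by ring
  rw [this, mul_inv_cancel₀ hζ, one_mul]

end rot

theorem qlN_polar_tuple (a b : K) (z w : QL a b) :
    QuadraticMap.polar (minusN a b) (QuadraticAlgebra.linearEquivTuple (-b) a z)
      (QuadraticAlgebra.linearEquivTuple (-b) a w) = QuadraticMap.polar (qlN a b) z w := by
  unfold QuadraticMap.polar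
  rw [← map_add, qlN_tuple, qlN_tuple, qlN_tuple]

/-- **a rotation `r_{w₁} r_{w₂}` (`N w₁ = N w₂`) without fixed vectors**, for the anisotropic binary form over a finite field
(the reflections are written out: `r_v w = w - ((N v)⁻¹ * polar N w v) • v`). -/
theorem minusN_exists_rot [Finite K] {a b : K}
    (hab : ∀ z₁ z₂ : K, z₁ ^ 2 + a * z₁ * z₂ + b * z₂ ^ 2 = 0 → z₁ = 0 ∧ z₂ = 0) :
    ∃ w₁ w₂ : Fin 2 → K, minusN a b w₁ ≠ 0 ∧ minusN a b w₂ = minusN a b w₁ ∧
      ∀ w : Fin 2 → K, ∃ v : Fin 2 → K,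
        ((v - ((minusN a b w₂)⁻¹ * QuadraticMap.polar (minusN a b) v w₂) • w₂) -
          ((minusN a b w₁)⁻¹ * QuadraticMap.polar (minusN a b)
            (v - ((minusN a b w₂)⁻¹ * QuadraticMap.polar (minusN a b) v w₂) • w₂) w₁) • w₁) - v = w := by
  haveI := qlFact hab
  obtain ⟨w₁, w₂, h1, h2, h3⟩ := ql_exists_rot (a := a) (b := b) (ql_sep_of_finite hab)
  obtain ⟨e, t1, t2⟩ : ∃ e : QL a b ≃ₗ[K] (Fin 2 → K), (∀ z, minusN a b (e z) = qlN a b z) ∧
      ∀ z w, QuadraticMap.polar (minusN a b) (e z) (e w) = QuadraticMap.polar (qlN a b) z w :=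
    ⟨_, qlN_tuple a b, qlN_polar_tuple a b⟩
  refine ⟨e w₁, e w₂, ?_, ?_, ?_⟩
  · rw [t1]
    exact h1
  · rw [t1, t1]
    exact h2
  · intro w
    obtain ⟨v, hv⟩ := h3 (e.symm w)
    refine ⟨e v, ?_⟩
    rw [t1, t1, t2, ← map_smul, ← map_sub, t2, ← map_smul, ← map_sub, ← map_sub, hv,
      LinearEquiv.apply_symm_apply]

end Cfsg.Agent.CtRecM
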