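import Mathlib

set_option autoImplicit false
set_option linter.unusedSectionVars false
set_option linter.unusedVariables false

/-!
# S2099, work package P14 (helper7): the finite-field input — binary anisotropic forms

`N : QuadraticForm K (Fin 2 → K)` with `N z = z 0 ^ 2 + a * z 0 * z 1 + b * z 1 ^ 2`, anisotropic, `K` finite.

* `p14f_polar_one`: the polar form takes the value `1`.
* `p14f_exists_rot`: there are `w₁ w₂` with `N w₂ = N w₁ ≠ 0` such that the rotation `ρ = r_{w₁} r_{w₂}` has `ρ - 1` surjective.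

Only Mathlib is imported; the reflection is `p14Refl N v w = w - ((N v)⁻¹ * polar N w v) • v`.
-/

namespace Cfsg.Agent.CtRecM

variable {K : Type*} [Field K]

section refl

variable {W : Type*} [AddCommGroup W] [Module K W] (N : QuadraticForm K W)

/-- the reflection in `v` (for `N v ≠ 0`). -/
def p14Refl (v : W) : W →ₗ[K] W where
  toFun w := w - ((N v)⁻¹ * QuadraticMap.polar N w v) • v
  map_add' w w' := by
    rw [QuadraticMap.polar_add_left, mul_add, add_smul]
    abel
  map_smul' c w := by
    rw [QuadraticMap.polar_smul_left, RingHom.id_apply, smul_sub, smul_smul, smul_eq_mul]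
    congr 2
    ring

theorem p14Refl_apply (v w : W) : p14Refl N v w = w - ((N v)⁻¹ * QuadraticMap.polar N w v) • v := rfl

theorem p14Refl_norm {v : W} (hv : N v ≠ 0) (w : W) : N (p14Refl N v w) = N w := by
  rw [p14Refl_apply, sub_eq_add_neg, ← neg_smul, QuadraticMap.map_add N, QuadraticMap.map_smul,
    QuadraticMap.polar_smul_right, smul_eq_mul, smul_eq_mul]
  field_simp
  ring

end refl

section binary

variable (N : QuadraticForm K (Fin 2 → K)) (a b : K)
  (hN : ∀ z : Fin 2 → K, N z = z 0 ^ 2 + a * z 0 * z 1 + b * z 1 ^ 2)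

include hN in
theorem p14f_polar (w w' : Fin 2 → K) :
    QuadraticMap.polar N w w' = 2 * w 0 * w' 0 + a * (w 0 * w' 1 + w 1 * w' 0) + 2 * b * w 1 * w' 1 := by
  simp only [QuadraticMap.polar, hN, Pi.add_apply]
  ring

variable [Finite K] (hab : ∀ z₁ z₂ : K, z₁ ^ 2 + a * z₁ * z₂ + b * z₂ ^ 2 = 0 → z₁ = 0 ∧ z₂ = 0)

include hab in
/-- over a finite (perfect) field an anisotropic binary form has `a ≠ 0` or `2 ≠ 0`. -/
theorem p14f_a_or_two : a ≠ 0 ∨ (2 : K) ≠ 0 := by
  by_contra hcon
  rw [not_or, not_not, not_not] at hcon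
  obtain ⟨ha, h2⟩ := hcon
  have hch : ringChar K = 2 := by
    have : CharP K 2 := CharTwo.of_one_ne_zero_of_two_eq_zero one_ne_zero h2
    exact ringChar.eq K 2
  obtain ⟨c, hc⟩ := FiniteField.isSquare_of_char_two hch b
  have h := hab c 1 (by rw [ha, hc]; linear_combination (c * c) * h2)
  exact one_ne_zero h.2

include hN hab in
theorem p14f_anis {z : Fin 2 → K} (h : N z = 0) : z = 0 := by
  rw [hN] at h
  obtain ⟨h0, h1⟩ := hab _ _ h
  funext i
  fin_cases i
  · exact h0
  · exact h1

include hN hab in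
/-- the polar form takes the value `1`. -/
theorem p14f_polar_one : ∃ w w' : Fin 2 → K, QuadraticMap.polar N w w' = 1 := by
  rcases p14f_a_or_two a b hab with ha | h2
  · refine ⟨![1, 0], ![0, a⁻¹], ?_⟩
    rw [p14f_polar N a b hN]
    simp [ha]
  · refine ⟨![1, 0], ![2⁻¹, 0], ?_⟩
    rw [p14f_polar N a b hN]
    simp [h2]

include hN hab in
/-- the polar form is non-degenerate. -/
theorem p14f_nondeg {v : Fin 2 → K} (h0 : QuadraticMap.polar N v ![1, 0] = 0)
    (h1 : QuadraticMap.polar N v ![0, 1] = 0) : v = 0 := by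
  rw [p14f_polar N a b hN] at h0 h1
  simp only [Matrix.cons_val_zero, Matrix.cons_val_one, mul_one, mul_zero, add_zero, zero_add] at h0 h1
  by_cases h2 : (2 : K) = 0
  · have ha : a ≠ 0 := (p14f_a_or_two a b hab).resolve_right (not_not.mpr h2)
    rw [h2] at h0 h1
    have e1 : v 1 = 0 := by
      have : a * v 1 = 0 := by linear_combination h0
      exact (mul_eq_zero.mp this).resolve_left ha
    have e0 : v 0 = 0 := by
      have : a * v 0 = 0 := by linear_combination h1
      exact (mul_eq_zero.mp this).resolve_left ha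
    funext i
    fin_cases i
    · exact e0
    · exact e1
  · apply p14f_anis N a b hN hab
    have : (2 : K) * N v = 0 := by
      rw [hN]
      linear_combination v 0 * h0 + v 1 * h1
    exact (mul_eq_zero.mp this).resolve_left h2

include hN hab in
/-- **the rotation**: `w₁`, `w₂` of the same non-zero norm such that `ρ - 1` is surjective, `ρ = r_{w₁} r_{w₂}`. -/
theorem p14f_exists_rot : ∃ w₁ w₂ : Fin 2 → K, N w₁ ≠ 0 ∧ N w₂ = N w₁ ∧
    ∀ w, ∃ v, p14Refl N w₁ (p14Refl N w₂ v) - v = w := by
  -- `x` with `2x + a ≠ 0`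
  obtain ⟨x, hx⟩ : ∃ x : K, 2 * x + a ≠ 0 := by
    rcases p14f_a_or_two a b hab with ha | h2
    · exact ⟨0, by simpa using ha⟩
    · by_cases ha : a = 0
      · exact ⟨1, by simpa [ha] using h2⟩
      · exact ⟨0, by simpa using ha⟩
  set e₀ : Fin 2 → K := ![1, 0] with he₀
  set v₀ : Fin 2 → K := ![x, 1] with hv₀
  have hNe : N e₀ = 1 := by rw [hN]; simp [he₀]
  have hNv : N v₀ ≠ 0 := by
    intro h
    have := p14f_anis N a b hN hab h
    have h1 := congrFun this 1
    simp [hv₀] at h1
  set w₁ : Fin 2 → K := p14Refl N v₀ e₀ with hw₁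
  have hNw : N w₁ = 1 := by rw [hw₁, p14Refl_norm N hNv, hNe]
  have hpe : QuadraticMap.polar N e₀ v₀ = 2 * x + a := by
    rw [p14f_polar N a b hN]
    simp [he₀, hv₀]
  have hw1 : w₁ 1 ≠ 0 := by
    have h : w₁ 1 = -((N v₀)⁻¹ * (2 * x + a)) := by
      rw [hw₁, p14Refl_apply, hpe]
      simp [he₀, hv₀]
    rw [h, neg_ne_zero]
    exact mul_ne_zero (inv_ne_zero hNv) hx
  refine ⟨w₁, e₀, by rw [hNw]; exact one_ne_zero, by rw [hNw, hNe], ?_⟩
  -- injectivity of `ρ - 1`
  have hinj : Function.Injective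
      ((p14Refl N w₁).comp (p14Refl N e₀) - (LinearMap.id : (Fin 2 → K) →ₗ[K] (Fin 2 → K))) := by
    rw [← LinearMap.ker_eq_bot, LinearMap.ker_eq_bot']
    intro v hv
    rw [LinearMap.sub_apply, LinearMap.comp_apply, LinearMap.id_apply, sub_eq_zero] at hv
    set u := p14Refl N e₀ v with hu
    have hu' : u = v - QuadraticMap.polar N v e₀ • e₀ := by
      rw [hu, p14Refl_apply, hNe, inv_one, one_mul]
    rw [p14Refl_apply, hNw, inv_one, one_mul] at hv
    -- `hv : u - polar N u w₁ • w₁ = v`
    have hv1 := congrFun hv 1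
    have hv0 := congrFun hv 0
    rw [hu'] at hv1 hv0
    simp only [Pi.sub_apply, Pi.smul_apply, smul_eq_mul, he₀, Matrix.cons_val_one, Matrix.cons_val_zero, mul_zero, sub_zero,
      mul_one] at hv1 hv0
    have hB1 : QuadraticMap.polar N u w₁ = 0 := by
      have : QuadraticMap.polar N u w₁ * w₁ 1 = 0 := by
        rw [hu']
        linear_combination -hv1
      exact (mul_eq_zero.mp this).resolve_right hw1
    rw [← hu'] at hv0
    have hB0 : QuadraticMap.polar N v e₀ = 0 := by
      rw [hB1] at hv0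
      linear_combination -hv0
    have huv : u = v := by rw [hu', hB0, zero_smul, sub_zero]
    rw [huv] at hB1
    -- `v ⊥ e₀, w₁`
    apply p14f_nondeg N a b hN hab hB0
    have hdec : w₁ = w₁ 0 • e₀ + w₁ 1 • ![0, 1] := by
      funext i
      fin_cases i <;> simp [he₀]
    rw [hdec, QuadraticMap.polar_add_right, QuadraticMap.polar_smul_right, QuadraticMap.polar_smul_right, hB0,
      smul_zero, zero_add, smul_eq_mul] at hB1
    exact (mul_eq_zero.mp hB1).resolve_left hw1
  have hsurj := LinearMap.injective_iff_surjective.mp hinj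
  intro w
  obtain ⟨v, hv⟩ := hsurj w
  exact ⟨v, by simpa using hv⟩

end binary

end Cfsg.Agent.CtRecM
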