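import Mathlib
import Cfsg.Agent.CtRecM.OmCextB
import Cfsg.Agent.CtRecM.OmRotF
import Cfsg.Agent.CtRecM.OmQF

set_option autoImplicit false
set_option linter.unusedSectionVars false
set_option linter.unusedVariables false

/-!
# S2099, work package P14 (helper7): the wrappers

* `rotW_of`: the rotation element `g = ws d w₁ * (ws d w₂)⁻¹` (`N w₂ = N w₁ ≠ 0`) is a `RotW`, once it is known to act as `r_{w₁} r_{w₂}`
  on the short root groups and trivially on the long ones (helper6's `OW.rot_conj`), and `r_{w₁} r_{w₂} - 1` is surjective.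
* `polarOnto_binary`, `polarOnto_minusN`: `PolarOnto` for the anisotropic binary forms over finite fields.
* `exists_OW_lift_minus_of`: **every `OW m (minusN a b)`-system lifts to every central extension** (`K` finite, `3 ≤ m`, all `q`), given
  the conjugation formulas of the rotation elements.
-/

namespace Cfsg.Agent.CtRecM

open Cfsg.Agent.CtRecD Cfsg.Agent.CtRecB Cfsg.Agent.Helper7.Sc

variable {m : ℕ} {K : Type*} [Field K] {W : Type*} [AddCommGroup W] [Module K W]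
  {N : QuadraticForm K W} {G E : Type*} [Group G] [Group E]

theorem p14Refl_eq_rW (N : QuadraticForm K W) (v : W) : p14Refl N v = rW N v := by
  apply LinearMap.ext
  intro w
  rw [p14Refl_apply, rW_apply]

/-- the rotation `r_{w₁} r_{w₂}` gives a `RotW`. -/
theorem rotW_of (Sg : OW m N G) {g : G} {w₁ w₂ : W} (h1 : N w₁ ≠ 0) (h12 : N w₂ = N w₁)
    (hsurj : ∀ w, ∃ v, rW N w₁ (rW N w₂ v) - v = w)
    (hgx : ∀ a b, Rt a b → ∀ t : K, g * Sg.x a b t * g⁻¹ = Sg.x a b t)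
    (hgy : ∀ (c : Idx m) (w : W), g * Sg.y c w * g⁻¹ = Sg.y c (rW N w₁ (rW N w₂ w))) :
    RotW Sg g ((rW N w₁).comp (rW N w₂)) where
  isom w := by
    rw [LinearMap.comp_apply, N_rW N h1, N_rW N (by rw [h12]; exact h1)]
  surj w := by
    obtain ⟨v, hv⟩ := hsurj w
    exact ⟨v, by rw [LinearMap.comp_apply]; exact hv⟩
  gx := hgx
  gy c w := by rw [LinearMap.comp_apply]; exact hgy c w

/-- `PolarOnto` for an anisotropic binary form over a finite field. -/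
theorem polarOnto_binary [Finite K] (N : QuadraticForm K (Fin 2 → K)) (a b : K)
    (hN : ∀ z : Fin 2 → K, N z = z 0 ^ 2 + a * z 0 * z 1 + b * z 1 ^ 2)
    (hab : ∀ z₁ z₂ : K, z₁ ^ 2 + a * z₁ * z₂ + b * z₂ ^ 2 = 0 → z₁ = 0 ∧ z₂ = 0) : PolarOnto N :=
  polarOnto_of_one (p14f_polar_one N a b hN hab)

theorem polarOnto_minusN [Finite K] {a b : K}
    (hab : ∀ z₁ z₂ : K, z₁ ^ 2 + a * z₁ * z₂ + b * z₂ ^ 2 = 0 → z₁ = 0 ∧ z₂ = 0) : PolarOnto (minusN a b) :=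
  polarOnto_binary (minusN a b) a b (minusN_apply a b) hab

/-- the rotation vectors, in terms of `rW`. -/
theorem exists_rot_binary [Finite K] (N : QuadraticForm K (Fin 2 → K)) (a b : K)
    (hN : ∀ z : Fin 2 → K, N z = z 0 ^ 2 + a * z 0 * z 1 + b * z 1 ^ 2)
    (hab : ∀ z₁ z₂ : K, z₁ ^ 2 + a * z₁ * z₂ + b * z₂ ^ 2 = 0 → z₁ = 0 ∧ z₂ = 0) :
    ∃ w₁ w₂ : Fin 2 → K, N w₁ ≠ 0 ∧ N w₂ = N w₁ ∧ ∀ w, ∃ v, rW N w₁ (rW N w₂ v) - v = w := by
  obtain ⟨w₁, w₂, h1, h2, h3⟩ := p14f_exists_rot N a b hN hab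
  refine ⟨w₁, w₂, h1, h2, ?_⟩
  intro w
  obtain ⟨v, hv⟩ := h3 w
  exact ⟨v, by rw [← p14Refl_eq_rW, ← p14Refl_eq_rW]; exact hv⟩

/-- **every system of type `²D_{m+1}` over a finite field lifts to every central extension** — given the conjugation formulas of the
rotation elements `ws d w₁ * (ws d w₂)⁻¹`. -/
theorem exists_OW_lift_binary_of [Finite K] (N : QuadraticForm K (Fin 2 → K)) (a b : K)
    (hN : ∀ z : Fin 2 → K, N z = z 0 ^ 2 + a * z 0 * z 1 + b * z 1 ^ 2)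
    (hab : ∀ z₁ z₂ : K, z₁ ^ 2 + a * z₁ * z₂ + b * z₂ ^ 2 = 0 → z₁ = 0 ∧ z₂ = 0) (hm : 3 ≤ m)
    (Sg : OW m N G) (C : CExt E G)
    (hrot : ∀ w₁ w₂ : Fin 2 → K, N w₁ ≠ 0 → N w₂ = N w₁ → ∃ g : G,
      (∀ a b, Rt a b → ∀ t : K, g * Sg.x a b t * g⁻¹ = Sg.x a b t) ∧
        ∀ (c : Idx m) (w : Fin 2 → K), g * Sg.y c w * g⁻¹ = Sg.y c (rW N w₁ (rW N w₂ w))) :
    ∃ SW : OW m N E, (∀ a b, Rt a b → ∀ t, C.ψ (SW.x a b t) = Sg.x a b t) ∧
      ∀ a w, C.ψ (SW.y a w) = Sg.y a w := by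
  obtain ⟨w₁, w₂, h1, h12, hsurj⟩ := exists_rot_binary N a b hN hab
  obtain ⟨g, hgx, hgy⟩ := hrot w₁ w₂ h1 h12
  exact exists_OW_lift Sg C (polarOnto_binary N a b hN hab) (rotW_of Sg h1 h12 hsurj hgx hgy) hm

theorem exists_OW_lift_minus_of [Finite K] {a b : K}
    (hab : ∀ z₁ z₂ : K, z₁ ^ 2 + a * z₁ * z₂ + b * z₂ ^ 2 = 0 → z₁ = 0 ∧ z₂ = 0) (hm : 3 ≤ m)
    (Sg : OW m (minusN a b) G) (C : CExt E G)
    (hrot : ∀ w₁ w₂ : Fin 2 → K, minusN a b w₁ ≠ 0 → minusN a b w₂ = minusN a b w₁ → ∃ g : G,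
      (∀ a' b', Rt a' b' → ∀ t : K, g * Sg.x a' b' t * g⁻¹ = Sg.x a' b' t) ∧
        ∀ (c : Idx m) (w : Fin 2 → K),
          g * Sg.y c w * g⁻¹ = Sg.y c (rW (minusN a b) w₁ (rW (minusN a b) w₂ w))) :
    ∃ SW : OW m (minusN a b) E, (∀ a' b', Rt a' b' → ∀ t, C.ψ (SW.x a' b' t) = Sg.x a' b' t) ∧
      ∀ a' w, C.ψ (SW.y a' w) = Sg.y a' w :=
  exists_OW_lift_binary_of (minusN a b) a b (minusN_apply a b) hab hm Sg C hrot

end Cfsg.Agent.CtRecM
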