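import Mathlib
import Cfsg.Agent.CtRecM.Defs
import Cfsg.Agent.CtRecD.SchSt

set_option autoImplicit false
set_option linter.unusedSectionVars false
set_option linter.unusedVariables false

/-!
# S2099, piece P9, abstract half (helper7): the Steinberg group of type `²D_{m+1}`

`StW m N` is the group presented by the relations of an `OW`-system: the relators of `StD m K` on the long root generators
(`Sum.inl`) and the four relations `yadd`, `yy`, `xy`, `xy_comm` involving the short root generators (`Sum.inr`, parameters in the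
quadratic space `(W, N)`).  It carries the universal `OW`-system `stOW`, is perfect (`m ≥ 3`), and every extension in which the
`OW`-system lifts splits.  (Port of the first half of `CtRecB/ObSt.lean`.)
-/

namespace Cfsg.Agent.CtRecM

open Cfsg.Agent.CtRecD

open scoped commutatorElement

section pres

variable (m : ℕ) {K : Type*} [Field K] {W : Type*} [AddCommGroup W] [Module K W] (N : QuadraticForm K W)

/-- the generators: long root elements `(a, b, t)` with `Rt a b`, and short root elements `(a, w)`. -/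
abbrev GenW (m : ℕ) (K : Type*) (W : Type*) : Type _ := (RtIdx m × K) ⊕ (Idx m × W)

/-- the long root generator in the free group. -/
def fgXw {m : ℕ} {K : Type*} (W : Type*) {a b : Idx m} (h : Rt a b) (t : K) : FreeGroup (GenW m K W) :=
  FreeGroup.of (Sum.inl ((⟨(a, b), h⟩ : RtIdx m), t))

/-- the short root generator in the free group. -/
def fgYw {m : ℕ} (K : Type*) {W : Type*} (a : Idx m) (w : W) : FreeGroup (GenW m K W) :=
  FreeGroup.of (Sum.inr (a, w))

/-- the Steinberg relators of type `²D_{m+1}`. -/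
def stRelsW : Set (FreeGroup (GenW m K W)) :=
  (FreeGroup.map Sum.inl '' stRelsD m K) ∪
  {g | ∃ (a : Idx m) (w w' : W), g = fgYw K a w * fgYw K a w' * (fgYw K a (w + w'))⁻¹} ∪
  {g | ∃ (a b : Idx m) (h : Rt a b) (w w' : W),
      g = fgYw K a w * fgYw K b w' * (fgYw K a w)⁻¹ * (fgYw K b w')⁻¹ *
        (fgXw W h.swap_right (-(QuadraticMap.polar N w w')))⁻¹} ∪
  {g | ∃ (a b : Idx m) (h : Rt a b) (t : K) (w : W),
      g = fgXw W h t * fgYw K b w * (fgXw W h t)⁻¹ * (fgYw K b w)⁻¹ *
        (fgYw K a (t • w) * fgXw W h.swap_right (t * N w))⁻¹} ∪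
  {g | ∃ (a b c : Idx m) (h : Rt a b) (t : K) (w : W), c ≠ b ∧ c ≠ a.swap ∧
      g = fgXw W h t * fgYw K c w * (fgYw K c w * fgXw W h t)⁻¹}

/-- **the Steinberg group of type `²D_{m+1}` for the quadratic space `(W, N)`.** -/
abbrev StW : Type _ := PresentedGroup (stRelsW m N)

/-- the homomorphism from the Steinberg group of type `D_m` (long roots). -/
noncomputable def stDtoW : StD m K →* StW m N :=
  PresentedGroup.map (FreeGroup.map Sum.inl) (s := stRelsD m K) (t := stRelsW m N)
    (fun r hr => Or.inl (Or.inl (Or.inl (Or.inl ⟨r, hr, rfl⟩))))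

theorem stDtoW_of (p : RtIdx m × K) :
    stDtoW m N (PresentedGroup.of p) = (PresentedGroup.of (Sum.inl p) : StW m N) := by
  show PresentedGroup.mk (stRelsW m N) (FreeGroup.map Sum.inl (FreeGroup.of p)) = _
  rw [FreeGroup.map.of]
  rfl

/-- the short root elements of the Steinberg group. -/
noncomputable def styW (a : Idx m) (w : W) : StW m N := PresentedGroup.of (Sum.inr (a, w))

theorem mk_fgXw {a b : Idx m} (h : Rt a b) (t : K) :
    PresentedGroup.mk (stRelsW m N) (fgXw W h t) = stDtoW m N ((stOD m K).x a b t) := by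
  rw [stOD_x_of m K h, stDtoW_of]
  rfl

theorem mk_fgYw (a : Idx m) (w : W) :
    PresentedGroup.mk (stRelsW m N) (fgYw K a w) = styW m N a w := rfl

/-- the Steinberg group carries the universal `OW`-system. -/
noncomputable def stOW : OW m N (StW m N) where
  toOD := (stOD m K).map (stDtoW m N)
  y := styW m N
  yadd := by
    intro a w w'
    have hm : fgYw K a w * fgYw K a w' * (fgYw K a (w + w'))⁻¹ ∈ stRelsW m N :=
      Or.inl (Or.inl (Or.inl (Or.inr ⟨a, w, w', rfl⟩)))
    have e := PresentedGroup.one_of_mem hm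
    rw [map_mul, map_mul, map_inv, mul_inv_eq_one, mk_fgYw, mk_fgYw, mk_fgYw] at e
    exact e
  yy := by
    intro a b h w w'
    have hm : fgYw K a w * fgYw K b w' * (fgYw K a w)⁻¹ * (fgYw K b w')⁻¹ *
        (fgXw W h.swap_right (-(QuadraticMap.polar N w w')))⁻¹ ∈ stRelsW m N :=
      Or.inl (Or.inl (Or.inr ⟨a, b, h, w, w', rfl⟩))
    have e := PresentedGroup.one_of_mem hm
    rw [map_mul, map_mul, map_mul, map_mul, map_inv, map_inv, map_inv, mul_inv_eq_one, mk_fgYw,
      mk_fgYw, mk_fgXw] at e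
    exact e
  xy := by
    intro a b h t w
    have hm : fgXw W h t * fgYw K b w * (fgXw W h t)⁻¹ * (fgYw K b w)⁻¹ *
        (fgYw K a (t • w) * fgXw W h.swap_right (t * N w))⁻¹ ∈ stRelsW m N :=
      Or.inl (Or.inr ⟨a, b, h, t, w, rfl⟩)
    have e := PresentedGroup.one_of_mem hm
    rw [map_mul, map_mul, map_mul, map_mul, map_inv, map_inv, map_inv, map_mul, mul_inv_eq_one,
      mk_fgYw, mk_fgYw, mk_fgXw, mk_fgXw] at e
    exact e
  xy_comm := by
    intro a b c h hcb hca t w
    have hm : fgXw W h t * fgYw K c w * (fgYw K c w * fgXw W h t)⁻¹ ∈ stRelsW m N :=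
      Or.inr ⟨a, b, c, h, t, w, hcb, hca, rfl⟩
    have e := PresentedGroup.one_of_mem hm
    rw [map_mul, map_mul, map_inv, map_mul, mul_inv_eq_one, mk_fgYw, mk_fgXw] at e
    exact e

theorem stOW_x (a b : Idx m) (t : K) :
    (stOW m N).x a b t = stDtoW m N ((stOD m K).x a b t) := rfl

theorem stOW_y (a : Idx m) (w : W) : (stOW m N).y a w = styW m N a w := rfl

theorem stOW_x_of {a b : Idx m} (h : Rt a b) (t : K) :
    (stOW m N).x a b t = (PresentedGroup.of (Sum.inl ((⟨(a, b), h⟩ : RtIdx m), t)) : StW m N) := by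
  rw [stOW_x, stOD_x_of m K h, stDtoW_of]

theorem stOW_y_of (a : Idx m) (w : W) :
    (stOW m N).y a w = (PresentedGroup.of (Sum.inr (a, w)) : StW m N) := rfl

/-- the root elements generate the Steinberg group. -/
theorem stOW_gens : Subgroup.closure (stOW m N).gensW = ⊤ := by
  rw [eq_top_iff, ← PresentedGroup.closure_range_of, Subgroup.closure_le]
  rintro _ ⟨(⟨⟨⟨a, b⟩, h⟩, t⟩ | ⟨a, w⟩), rfl⟩
  · apply Subgroup.subset_closure
    exact Or.inl ⟨a, b, t, h, (stOW_x_of m N h t).symm⟩
  · apply Subgroup.subset_closure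
    exact Or.inr ⟨a, w, rfl⟩

variable {m N}

/-- the images of the generators under the lift of an `OW`-system. -/
def stGenMapW {E : Type*} [Group E] (S : OW m N E) : GenW m K W → E :=
  Sum.elim (fun p : RtIdx m × K => S.x p.1.1.1 p.1.1.2 p.2) (fun q : Idx m × W => S.y q.1 q.2)

theorem stGenMapW_fgX {E : Type*} [Group E] (S : OW m N E) {a b : Idx m} (h : Rt a b) (t : K) :
    FreeGroup.lift (stGenMapW S) (fgXw W h t) = S.x a b t := by
  unfold fgXw
  rw [FreeGroup.lift_apply_of]
  rfl

theorem stGenMapW_fgY {E : Type*} [Group E] (S : OW m N E) (a : Idx m) (w : W) :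
    FreeGroup.lift (stGenMapW S) (fgYw K a w) = S.y a w := by
  unfold fgYw
  rw [FreeGroup.lift_apply_of]
  rfl

theorem stLiftW_rels {E : Type*} [Group E] (S : OW m N E) : ∀ r ∈ stRelsW m N,
    FreeGroup.lift (stGenMapW S) r = 1 := by
  intro r hr
  rcases hr with (((⟨r0, hr0, rfl⟩ | ⟨a, w, w', rfl⟩) | ⟨a, b, h, w, w', rfl⟩) |
    ⟨a, b, h, t, w, rfl⟩) | ⟨a, b, c, h, t, w, hcb, hca, rfl⟩
  · have e : (FreeGroup.lift (stGenMapW S)).comp (FreeGroup.map Sum.inl)
        = FreeGroup.lift (fun p : RtIdx m × K => S.toOD.x p.1.1.1 p.1.1.2 p.2) := by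
      apply FreeGroup.ext_hom
      intro p
      rw [MonoidHom.comp_apply, FreeGroup.map.of, FreeGroup.lift_apply_of, FreeGroup.lift_apply_of]
      rfl
    have e2 := stLift_rels S.toOD r0 hr0
    rw [← e] at e2
    exact e2
  · rw [map_mul, map_mul, map_inv, stGenMapW_fgY, stGenMapW_fgY, stGenMapW_fgY, mul_inv_eq_one]
    exact S.yadd a w w'
  · rw [map_mul, map_mul, map_mul, map_mul, map_inv, map_inv, map_inv, stGenMapW_fgY, stGenMapW_fgY,
      stGenMapW_fgX, mul_inv_eq_one]
    exact S.yy a b h w w'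
  · rw [map_mul, map_mul, map_mul, map_mul, map_inv, map_inv, map_inv, map_mul, stGenMapW_fgY,
      stGenMapW_fgY, stGenMapW_fgX, stGenMapW_fgX, mul_inv_eq_one]
    exact S.xy a b h t w
  · rw [map_mul, map_mul, map_inv, map_mul, stGenMapW_fgY, stGenMapW_fgX, mul_inv_eq_one]
    exact S.xy_comm a b c h hcb hca t w

/-- **the universal property of the Steinberg group of type `²D_{m+1}`.** -/
noncomputable def stLiftW {E : Type*} [Group E] (S : OW m N E) : StW m N →* E :=
  PresentedGroup.toGroup (stLiftW_rels S)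

theorem stLiftW_of {E : Type*} [Group E] (S : OW m N E) (p : GenW m K W) :
    stLiftW S (PresentedGroup.of p) = stGenMapW S p :=
  PresentedGroup.toGroup.of (stLiftW_rels S)

theorem stLiftW_x {E : Type*} [Group E] (S : OW m N E) {a b : Idx m} (h : Rt a b) (t : K) :
    stLiftW S ((stOW m N).x a b t) = S.x a b t := by
  rw [stOW_x_of m N h, stLiftW_of]
  rfl

theorem stLiftW_y {E : Type*} [Group E] (S : OW m N E) (a : Idx m) (w : W) :
    stLiftW S ((stOW m N).y a w) = S.y a w := by
  rw [stOW_y_of m N, stLiftW_of]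
  rfl

/-- two homomorphisms from the Steinberg group agreeing on the root elements are equal. -/
theorem stW_hom_ext {E : Type*} [Group E] {f g : StW m N →* E}
    (hx : ∀ a b, Rt a b → ∀ t, f ((stOW m N).x a b t) = g ((stOW m N).x a b t))
    (hy : ∀ a w, f ((stOW m N).y a w) = g ((stOW m N).y a w)) : f = g := by
  apply PresentedGroup.ext
  rintro (⟨⟨⟨a, b⟩, hab⟩, t⟩ | ⟨a, w⟩)
  · have := hx a b hab t
    rw [stOW_x_of m N hab] at this
    exact this
  · exact hy a w

end pres

variable {m : ℕ} {K : Type*} [Field K] {W : Type*} [AddCommGroup W] [Module K W] {N : QuadraticForm K W}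

/-- a group generated by an `OW`-system (`m ≥ 3`) is perfect. -/
theorem OW.perfect_of_gensW {Γ : Type*} [Group Γ] (S : OW m N Γ) (hm : 3 ≤ m)
    (hgen : Subgroup.closure S.gensW = ⊤) : commutator Γ = ⊤ := by
  have hx : ∀ (a c : Idx m) (t : K), Rt a c → S.x a c t ∈ commutator Γ := by
    intro a c t hac
    obtain ⟨k, hk1, hk2, hk3, hk4⟩ := OD.exists_oth hm a c
    have hak : Rt a k := ⟨hk1.symm, fun e => hk3 (by rw [e, Sum.swap_swap])⟩
    have hkc : Rt k c := ⟨hk2, hk4⟩
    have e := S.comm3 a k c hak hkc hac t 1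
    rw [mul_one] at e
    rw [← e, commutator_def, ← commutatorElement_def]
    exact Subgroup.commutator_mem_commutator (Subgroup.mem_top _) (Subgroup.mem_top _)
  rw [eq_top_iff, ← hgen, Subgroup.closure_le]
  rintro _ (⟨a, c, t, hac, rfl⟩ | ⟨a, w, rfl⟩)
  · exact hx a c t hac
  · obtain ⟨b, hb1, -, hb3, -⟩ := OD.exists_oth hm a a
    have hab : Rt a b := ⟨hb1.symm, fun e => hb3 (by rw [e, Sum.swap_swap])⟩
    have e := S.xy a b hab 1 w
    rw [one_smul, one_mul] at e
    have e2 : S.y a w = (S.x a b 1 * S.y b w * (S.x a b 1)⁻¹ * (S.y b w)⁻¹) *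
        (S.x a b.swap (N w))⁻¹ := by
      rw [e, mul_assoc, mul_inv_cancel, mul_one]
    rw [SetLike.mem_coe, e2]
    refine mul_mem ?_ (inv_mem (hx a b.swap (N w) hab.swap_right))
    rw [commutator_def, ← commutatorElement_def]
    exact Subgroup.commutator_mem_commutator (Subgroup.mem_top _) (Subgroup.mem_top _)

/-- the Steinberg group of type `²D_{m+1}` is perfect (`m ≥ 3`). -/
theorem stW_perfect (hm : 3 ≤ m) : commutator (StW m N) = ⊤ :=
  (stOW m N).perfect_of_gensW hm (stOW_gens m N)

/-- an extension of the Steinberg group in which the `OW`-system lifts splits. -/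
theorem stW_split_of_lift {E : Type*} [Group E] (ψ : E →* StW m N) (SE : OW m N E)
    (hx : ∀ a b, Rt a b → ∀ t, ψ (SE.x a b t) = (stOW m N).x a b t)
    (hy : ∀ a w, ψ (SE.y a w) = (stOW m N).y a w) :
    ∃ τ : StW m N →* E, ψ.comp τ = MonoidHom.id _ := by
  refine ⟨stLiftW SE, ?_⟩
  apply stW_hom_ext
  · intro a b h t
    rw [MonoidHom.comp_apply, stLiftW_x SE h, hx a b h, MonoidHom.id_apply]
  · intro a w
    rw [MonoidHom.comp_apply, stLiftW_y SE, hy a w, MonoidHom.id_apply]

end Cfsg.Agent.CtRecM
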