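import Mathlib
import Cfsg.Agent.CtRecM.OmCextC
import Cfsg.Agent.CtRecM.OmBa
import Cfsg.Agent.CtRecM.OmSt

set_option autoImplicit false
set_option linter.unusedSectionVars false
set_option linter.unusedVariables false

/-!
# S2099, work package P14 (helper7): the final statement

**Every system of type `²D_{m+1}` (`3 ≤ m`) over a finite field (all `q`, `q = 2, 3` included) lifts to every central extension.**
The rotation element is helper6's `OW.rot_conj` (`ws d w₁ * (ws d w₂)⁻¹`, `d` any index).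
-/

namespace Cfsg.Agent.CtRecM

open Cfsg.Agent.CtRecD Cfsg.Agent.CtRecB Cfsg.Agent.Helper7.Sc

variable {m : ℕ} {K : Type*} [Field K] {G E : Type*} [Group G] [Group E]

/-- the index `inl 0`. -/
def p14Idx0 (hm : 3 ≤ m) : Idx m := Sum.inl ⟨0, by omega⟩

theorem exists_OW_lift_binary [Finite K] (N : QuadraticForm K (Fin 2 → K)) (a b : K)
    (hN : ∀ z : Fin 2 → K, N z = z 0 ^ 2 + a * z 0 * z 1 + b * z 1 ^ 2)
    (hab : ∀ z₁ z₂ : K, z₁ ^ 2 + a * z₁ * z₂ + b * z₂ ^ 2 = 0 → z₁ = 0 ∧ z₂ = 0) (hm : 3 ≤ m)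
    (Sg : OW m N G) (C : CExt E G) :
    ∃ SW : OW m N E, (∀ a' b', Rt a' b' → ∀ t, C.ψ (SW.x a' b' t) = Sg.x a' b' t) ∧
      ∀ a' w, C.ψ (SW.y a' w) = Sg.y a' w :=
  exists_OW_lift_binary_of N a b hN hab hm Sg C
    (fun w₁ w₂ h1 h12 => ⟨_, Sg.rot_conj hm (p14Idx0 hm) h1 h12⟩)

/-- **P14**: every `OW m (minusN a b)`-system lifts to every central extension. -/
theorem exists_OW_lift_minus [Finite K] {a b : K}
    (hab : ∀ z₁ z₂ : K, z₁ ^ 2 + a * z₁ * z₂ + b * z₂ ^ 2 = 0 → z₁ = 0 ∧ z₂ = 0) (hm : 3 ≤ m)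
    (Sg : OW m (minusN a b) G) (C : CExt E G) :
    ∃ SW : OW m (minusN a b) E, (∀ a' b', Rt a' b' → ∀ t, C.ψ (SW.x a' b' t) = Sg.x a' b' t) ∧
      ∀ a' w, C.ψ (SW.y a' w) = Sg.y a' w :=
  exists_OW_lift_binary (minusN a b) a b (minusN_apply a b) hab hm Sg C

/-- **every central extension of the Steinberg group `StW m (minusN a b)` splits** (`K` finite, `3 ≤ m`). -/
theorem stW_minus_cext_split [Finite K] {a b : K}
    (hab : ∀ z₁ z₂ : K, z₁ ^ 2 + a * z₁ * z₂ + b * z₂ ^ 2 = 0 → z₁ = 0 ∧ z₂ = 0) (hm : 3 ≤ m)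
    (C : CExt E (StW m (minusN a b))) :
    ∃ τ : StW m (minusN a b) →* E, C.ψ.comp τ = MonoidHom.id _ := by
  obtain ⟨SW, hx, hy⟩ := exists_OW_lift_minus hab hm (stOW m (minusN a b)) C
  exact stW_split_of_lift C.ψ SW hx hy

end Cfsg.Agent.CtRecM
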