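import Mathlib
import Cfsg.Agent.CtRecM.OmCextD

set_option autoImplicit false
set_option linter.unusedSectionVars false
set_option linter.unusedVariables false

/-!
# S2099, work package P14 (helper7): the `hsplit` hypothesis of `schur_quot_center_minus_of`
-/

namespace Cfsg.Agent.CtRecM

open Cfsg.Agent.CtRecD Cfsg.Agent.Helper7.Sc

variable {m : ℕ} {K : Type*} [Field K]

/-- **every central extension of `StW m (minusN a b)` splits**, in the shape of the hypothesis `hsplit` of
`schur_quot_center_minus_of`. -/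
theorem stW_minus_hsplit [Finite K] {a b : K}
    (hab : ∀ z₁ z₂ : K, z₁ ^ 2 + a * z₁ * z₂ + b * z₂ ^ 2 = 0 → z₁ = 0 ∧ z₂ = 0) (hm : 3 ≤ m)
    (E : Type*) [Group E] (ψ : E →* StW m (minusN a b)) (hs : Function.Surjective ψ)
    (hc : ψ.ker ≤ Subgroup.center E) :
    ∃ τ : StW m (minusN a b) →* E, ψ.comp τ = MonoidHom.id (StW m (minusN a b)) :=
  stW_minus_cext_split hab hm ⟨ψ, hs, hc, stW_perfect hm⟩

end Cfsg.Agent.CtRecM
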