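import Mathlib
import Cfsg.Agent.CtRecM.OmA

set_option autoImplicit false
set_option linter.unusedSectionVars false
set_option linter.unusedVariables false

/-!
# S2099: subgroups generated by root elements of a system `OW` (helper5)

Port of the generic part of `CtRecB/ObD.lean` (`XB`, the inductions, `UtB_eq_XB`); used by P6 (`OmD`) and P7 (`OmE`).
-/

namespace Cfsg.Agent.CtRecM

open Cfsg.Agent.CtRecD Cfsg.Agent.CtRecB

variable {m : ℕ} {K : Type*} [Field K] {W : Type*} [AddCommGroup W] [Module K W]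
  {N : QuadraticForm K W} {Γ : Type*} [Group Γ] (S : OW m N Γ)

namespace OW

/-- the subgroup generated by the long root elements with `R a b` and the short root elements with `Q a`. -/
def XW (R : Idx m → Idx m → Prop) (Q : Idx m → Prop) : Subgroup Γ :=
  Subgroup.closure {g | (∃ (a b : Idx m) (t : K), Rt a b ∧ R a b ∧ g = S.x a b t) ∨
    ∃ (a : Idx m) (w : W), Q a ∧ g = S.y a w}

theorem x_mem_XW {R : Idx m → Idx m → Prop} {Q : Idx m → Prop} {a b : Idx m} (hab : Rt a b)
    (h : R a b) (t : K) : S.x a b t ∈ S.XW R Q :=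
  Subgroup.subset_closure (Or.inl ⟨a, b, t, hab, h, rfl⟩)

theorem y_mem_XW {R : Idx m → Idx m → Prop} {Q : Idx m → Prop} {a : Idx m} (h : Q a) (w : W) :
    S.y a w ∈ S.XW R Q :=
  Subgroup.subset_closure (Or.inr ⟨a, w, h, rfl⟩)

theorem XW_mono {R R' : Idx m → Idx m → Prop} {Q Q' : Idx m → Prop}
    (h : ∀ a b, Rt a b → R a b → R' a b) (h' : ∀ a, Q a → Q' a) : S.XW R Q ≤ S.XW R' Q' := by
  apply Subgroup.closure_mono
  rintro g (⟨a, b, t, hab, hR, rfl⟩ | ⟨a, w, hQ, rfl⟩)
  · exact Or.inl ⟨a, b, t, hab, h a b hab hR, rfl⟩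
  · exact Or.inr ⟨a, w, h' a hQ, rfl⟩

/-- the long root elements of the system of type `D_m` lie in `XW`. -/
theorem XR_le_XW (R : Idx m → Idx m → Prop) (Q : Idx m → Prop) : S.toOD.XR R ≤ S.XW R Q := by
  unfold OD.XR XW
  apply Subgroup.closure_mono
  rintro g ⟨a, b, t, hab, hR, rfl⟩
  exact Or.inl ⟨a, b, t, hab, hR, rfl⟩

/-- induction by multiplication on the left with root elements. -/
theorem XW_induction_left {R : Idx m → Idx m → Prop} {Q : Idx m → Prop} {P : Γ → Prop} (h1 : P 1)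
    (hx : ∀ (a b : Idx m) (t : K) (g : Γ), Rt a b → R a b → g ∈ S.XW R Q → P g → P (S.x a b t * g))
    (hy : ∀ (a : Idx m) (w : W) (g : Γ), Q a → g ∈ S.XW R Q → P g → P (S.y a w * g))
    {g : Γ} (hg : g ∈ S.XW R Q) : P g := by
  unfold XW at hg
  induction hg using Subgroup.closure_induction_left with
  | one => exact h1
  | mul_left a ha b hb ih =>
    rcases ha with ⟨i, j, t, hij, hR, rfl⟩ | ⟨i, w, hQ, rfl⟩
    · exact hx i j t b hij hR hb ih
    · exact hy i w b hQ hb ih
  | inv_mul_cancel a ha b hb ih =>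
    rcases ha with ⟨i, j, t, hij, hR, rfl⟩ | ⟨i, w, hQ, rfl⟩
    · rw [S.toOD.x_inv hij]
      exact hx i j (-t) b hij hR hb ih
    · rw [S.y_inv]
      exact hy i (-w) b hQ hb ih

/-- induction by multiplication on the right with root elements. -/
theorem XW_induction_right {R : Idx m → Idx m → Prop} {Q : Idx m → Prop} {P : Γ → Prop} (h1 : P 1)
    (hx : ∀ (a b : Idx m) (t : K) (g : Γ), Rt a b → R a b → g ∈ S.XW R Q → P g → P (g * S.x a b t))
    (hy : ∀ (a : Idx m) (w : W) (g : Γ), Q a → g ∈ S.XW R Q → P g → P (g * S.y a w))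
    {g : Γ} (hg : g ∈ S.XW R Q) : P g := by
  unfold XW at hg
  induction hg using Subgroup.closure_induction_right with
  | one => exact h1
  | mul_right a ha b hb ih =>
    rcases hb with ⟨i, j, t, hij, hR, rfl⟩ | ⟨i, w, hQ, rfl⟩
    · exact hx i j t a hij hR ha ih
    · exact hy i w a hQ ha ih
  | mul_inv_cancel a ha b hb ih =>
    rcases hb with ⟨i, j, t, hij, hR, rfl⟩ | ⟨i, w, hQ, rfl⟩
    · rw [S.toOD.x_inv hij]
      exact hx i j (-t) a hij hR ha ih
    · rw [S.y_inv]
      exact hy i (-w) a hQ ha ih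

theorem UtW_eq_XW : S.UtW = S.XW (fun a b => ord a < ord b) (fun a => ord a < m) := by
  apply le_antisymm
  · unfold UtW
    rw [Subgroup.closure_le]
    rintro g (⟨a, b, t, hab, hlt, rfl⟩ | ⟨i, w, rfl⟩)
    · exact S.x_mem_XW hab hlt t
    · exact S.y_mem_XW (show ord (Sum.inl i : Idx m) < m from i.isLt) w
  · unfold XW
    rw [Subgroup.closure_le]
    rintro g (⟨a, b, t, hab, hlt, rfl⟩ | ⟨a, w, ha, rfl⟩)
    · exact S.x_mem_UtW hab hlt t
    · rcases a with i | i
      · exact S.y_mem_UtW i w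
      · exfalso
        simp only [ord] at ha
        have := i.isLt
        omega

/-- `y_a(w) ∈ Ũ` for a positive index `a`. -/
theorem y_mem_UtW' {a : Idx m} (ha : ord a < m) (w : W) : S.y a w ∈ S.UtW := by
  rw [S.UtW_eq_XW]
  exact S.y_mem_XW ha w

end OW

end Cfsg.Agent.CtRecM
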