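import Mathlib
import Cfsg.Agent.CtRecM.OmXW
import Cfsg.Agent.CtRecD.OdD

set_option autoImplicit false
set_option linter.unusedSectionVars false
set_option linter.unusedVariables false

/-!
# S2099, piece P6: the subgroup generated by the positive root elements, type `²D` (helper3)

Port of `CtRecB/ObD.lean`.  The row of `a = inl i` consists of the long root elements `x a b t` (canonical names) and of
the short root element `y a w`, `w : W`; the homomorphism to the matrices is injective on `UtW` (the parameter `w` is read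
off the entries `(inr j, inl ā) = -w j`, no nondegeneracy needed), and the matrices of `UtW` are upper unitriangular for
the order `ordM`, with the `W × W` block equal to `1`.
-/

namespace Cfsg.Agent.CtRecM

open Matrix Cfsg.Agent.CtRecD

/-! ### the matrices -/

section mat

variable {m : ℕ} {K : Type*} [Field K] {ι : Type*} [Fintype ι] [DecidableEq ι]

theorem p6_bXW_eq (a b : Idx m) (t : K) :
    (bXW a b t : Matrix (Idx m ⊕ ι) (Idx m ⊕ ι) K) =
      1 + Matrix.single (Sum.inl a) (Sum.inl b) t - Matrix.single (Sum.inl b.swap) (Sum.inl a.swap) t := by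
  ext i j
  rcases i with i | i <;> rcases j with j | j <;>
    simp [bXW, oX, Matrix.single_apply, Matrix.one_apply]

theorem p6_single_mul (i j : Idx m ⊕ ι) (c : K) (M : Matrix (Idx m ⊕ ι) (Idx m ⊕ ι) K)
    (r s : Idx m ⊕ ι) : (Matrix.single i j c * M) r s = if r = i then c * M j s else 0 := by
  by_cases h : r = i
  · subst h
    rw [if_pos rfl, Matrix.single_mul_apply_same]
  · rw [if_neg h, Matrix.single_mul_apply_of_ne _ _ _ _ _ h]

theorem p6_bXW_mul_apply (a b : Idx m) (t : K) (M : Matrix (Idx m ⊕ ι) (Idx m ⊕ ι) K)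
    (r s : Idx m ⊕ ι) :
    ((bXW a b t : Matrix (Idx m ⊕ ι) (Idx m ⊕ ι) K) * M) r s =
      M r s + (if r = Sum.inl a then t * M (Sum.inl b) s else 0) -
      (if r = Sum.inl b.swap then t * M (Sum.inl a.swap) s else 0) := by
  rw [p6_bXW_eq, sub_mul, add_mul, one_mul, Matrix.sub_apply, Matrix.add_apply, p6_single_mul,
    p6_single_mul]

/-- the rows `inl i` of `bYW N a w * M`. -/
theorem p6_bYW_mul_apply_inl (N : QuadraticForm K (ι → K)) (a : Idx m) (w : ι → K)
    (M : Matrix (Idx m ⊕ ι) (Idx m ⊕ ι) K) (i : Idx m) (s : Idx m ⊕ ι) :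
    (bYW N a w * M) (Sum.inl i) s = M (Sum.inl i) s -
      (if i = a then N w * M (Sum.inl a.swap) s else 0) +
      (if i = a then ∑ j, QuadraticMap.polar N (Pi.single j 1) w * M (Sum.inr j) s else 0) := by
  rw [Matrix.mul_apply, Fintype.sum_sum_type]
  have e1 : ∑ x : Idx m, bYW N a w (Sum.inl i) (Sum.inl x) * M (Sum.inl x) s =
      M (Sum.inl i) s - (if i = a then N w * M (Sum.inl a.swap) s else 0) := by
    have : ∀ x : Idx m, bYW N a w (Sum.inl i) (Sum.inl x) * M (Sum.inl x) s =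
        (1 : Matrix (Idx m) (Idx m) K) i x * M (Sum.inl x) s -
          (if i = a then (if x = a.swap then N w * M (Sum.inl x) s else 0) else 0) := by
      intro x
      show (1 - Matrix.single a a.swap (N w)) i x * M (Sum.inl x) s = _
      rw [Matrix.sub_apply, sub_mul, Matrix.single_apply]
      by_cases h1 : i = a
      · by_cases h2 : x = a.swap
        · rw [if_pos ⟨h1.symm, h2.symm⟩, if_pos h1, if_pos h2]
        · rw [if_neg (fun h => h2 h.2.symm), if_pos h1, if_neg h2, zero_mul]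
      · rw [if_neg (fun h => h1 h.1.symm), if_neg h1, zero_mul]
    rw [Finset.sum_congr rfl (fun x _ => this x), Finset.sum_sub_distrib]
    congr 1
    · rw [Finset.sum_eq_single i]
      · rw [Matrix.one_apply_eq, one_mul]
      · intro b _ hb
        rw [Matrix.one_apply_ne hb.symm, zero_mul]
      · intro h
        exact absurd (Finset.mem_univ i) h
    · by_cases h1 : i = a
      · simp only [if_pos h1]
        rw [Finset.sum_ite_eq' Finset.univ a.swap, if_pos (Finset.mem_univ _)]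
      · simp only [if_neg h1]
        exact Finset.sum_const_zero
  have e2 : ∑ x : ι, bYW N a w (Sum.inl i) (Sum.inr x) * M (Sum.inr x) s =
      (if i = a then ∑ j, QuadraticMap.polar N (Pi.single j 1) w * M (Sum.inr j) s else 0) := by
    have : ∀ x : ι, bYW N a w (Sum.inl i) (Sum.inr x) * M (Sum.inr x) s =
        if i = a then QuadraticMap.polar N (Pi.single x 1) w * M (Sum.inr x) s else 0 := by
      intro x
      show (if i = a then QuadraticMap.polar N (Pi.single x 1) w else 0) * M (Sum.inr x) s = _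
      by_cases h1 : i = a
      · rw [if_pos h1, if_pos h1]
      · rw [if_neg h1, if_neg h1, zero_mul]
    rw [Finset.sum_congr rfl (fun x _ => this x)]
    by_cases h1 : i = a
    · simp only [if_pos h1]
    · simp only [if_neg h1]
      exact Finset.sum_const_zero
  rw [e1, e2]

/-- the rows `inr j` of `bYW N a w * M`. -/
theorem p6_bYW_mul_apply_inr (N : QuadraticForm K (ι → K)) (a : Idx m) (w : ι → K)
    (M : Matrix (Idx m ⊕ ι) (Idx m ⊕ ι) K) (j : ι) (s : Idx m ⊕ ι) :
    (bYW N a w * M) (Sum.inr j) s = M (Sum.inr j) s - w j * M (Sum.inl a.swap) s := by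
  rw [Matrix.mul_apply, Fintype.sum_sum_type]
  have e1 : ∑ x : Idx m, bYW N a w (Sum.inr j) (Sum.inl x) * M (Sum.inl x) s =
      -(w j * M (Sum.inl a.swap) s) := by
    have : ∀ x : Idx m, bYW N a w (Sum.inr j) (Sum.inl x) * M (Sum.inl x) s =
        if x = a.swap then -(w j * M (Sum.inl x) s) else 0 := by
      intro x
      show (if x = a.swap then -(w j) else 0) * M (Sum.inl x) s = _
      by_cases h : x = a.swap
      · rw [if_pos h, if_pos h, neg_mul]
      · rw [if_neg h, if_neg h, zero_mul]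
    rw [Finset.sum_congr rfl (fun x _ => this x), Finset.sum_ite_eq' Finset.univ a.swap,
      if_pos (Finset.mem_univ _)]
  have e2 : ∑ x : ι, bYW N a w (Sum.inr j) (Sum.inr x) * M (Sum.inr x) s = M (Sum.inr j) s := by
    have : ∀ x : ι, bYW N a w (Sum.inr j) (Sum.inr x) * M (Sum.inr x) s =
        (1 : Matrix ι ι K) j x * M (Sum.inr x) s := fun x => rfl
    rw [Finset.sum_congr rfl (fun x _ => this x), Finset.sum_eq_single j]
    · rw [Matrix.one_apply_eq, one_mul]
    · intro b _ hb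
      rw [Matrix.one_apply_ne hb.symm, zero_mul]
    · intro h
      exact absurd (Finset.mem_univ j) h
  rw [e1, e2]
  ring

/-- the column `inl c` (`c ≠ b`, `c ≠ ā`) of `bXW a b t` is a column of `1`. -/
theorem p6_bXW_col {a b c : Idx m} (hcb : c ≠ b) (hca : c ≠ a.swap) (t : K) (r : Idx m ⊕ ι) :
    (bXW a b t : Matrix (Idx m ⊕ ι) (Idx m ⊕ ι) K) r (Sum.inl c) =
      (1 : Matrix (Idx m ⊕ ι) (Idx m ⊕ ι) K) r (Sum.inl c) := by
  have h := p6_bXW_mul_apply (ι := ι) a b t 1 r (Sum.inl c)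
  rw [mul_one] at h
  rw [h, Matrix.one_apply_ne (show (Sum.inl b : Idx m ⊕ ι) ≠ Sum.inl c from fun e => hcb (Sum.inl.inj e).symm),
    Matrix.one_apply_ne (show (Sum.inl a.swap : Idx m ⊕ ι) ≠ Sum.inl c from
      fun e => hca (Sum.inl.inj e).symm), mul_zero, ite_self, ite_self, add_zero, sub_zero]

/-- the column `inl c` (`c ≠ ā`) of `bYW N a w` is a column of `1`. -/
theorem p6_bYW_col (N : QuadraticForm K (ι → K)) {a c : Idx m} (hca : c ≠ a.swap) (w : ι → K)
    (r : Idx m ⊕ ι) :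
    bYW N a w r (Sum.inl c) = (1 : Matrix (Idx m ⊕ ι) (Idx m ⊕ ι) K) r (Sum.inl c) := by
  have hne : (Sum.inl a.swap : Idx m ⊕ ι) ≠ Sum.inl c := fun e => hca (Sum.inl.inj e).symm
  rcases r with i | j
  · have h := p6_bYW_mul_apply_inl N a w 1 i (Sum.inl c)
    rw [mul_one] at h
    rw [h, Matrix.one_apply_ne hne, mul_zero, ite_self, sub_zero]
    have : ∑ j, QuadraticMap.polar N (Pi.single j 1) w *
        (1 : Matrix (Idx m ⊕ ι) (Idx m ⊕ ι) K) (Sum.inr j) (Sum.inl c) = 0 :=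
      Finset.sum_eq_zero (fun j _ => by rw [Matrix.one_apply_ne Sum.inr_ne_inl, mul_zero])
    rw [this, ite_self, add_zero]
  · have h := p6_bYW_mul_apply_inr N a w 1 j (Sum.inl c)
    rw [mul_one] at h
    rw [h, Matrix.one_apply_ne hne, mul_zero, sub_zero]

/-- the position of an index in the order `inl 0 < ⋯ < inl (m-1) < W < inr (m-1) < ⋯ < inr 0`. -/
def ordM : Idx m ⊕ ι → ℕ
  | Sum.inl a => if ord a < m then ord a else ord a + 1
  | Sum.inr _ => m

theorem ordM_inr (j : ι) : ordM (Sum.inr j : Idx m ⊕ ι) = m := rfl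

theorem ordM_inl (a : Idx m) :
    ordM (Sum.inl a : Idx m ⊕ ι) = if ord a < m then ord a else ord a + 1 := rfl

theorem ordM_lt_of_lt {a b : Idx m} (h : ord a < ord b) :
    ordM (Sum.inl a : Idx m ⊕ ι) < ordM (Sum.inl b : Idx m ⊕ ι) := by
  rw [ordM_inl, ordM_inl]
  split_ifs <;> omega

end mat


/-! ### the group-theoretic part (any `K`-module `W`) -/

section grp

variable {m : ℕ} {K : Type*} [Field K] {W : Type*} [AddCommGroup W] [Module K W] {N : QuadraticForm K W}
  {Γ : Type*} [Group Γ] (S : OW m N Γ)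

namespace OW

theorem p6_y_zero (a : Idx m) : S.y a 0 = 1 := by
  have h := S.yadd a 0 0
  rw [add_zero] at h
  exact mul_eq_left.mp h

theorem p6_y_inv (a : Idx m) (w : W) : (S.y a w)⁻¹ = S.y a (-w) := by
  apply inv_eq_of_mul_eq_one_right
  rw [S.yadd, add_neg_cancel, S.p6_y_zero]

theorem p6_ya_x {a b : Idx m} (hab : Rt a b) (w : W) (u : K) :
    S.y a w * S.x a b u = S.x a b u * S.y a w :=
  (S.xy_comm a b a hab hab.1 (ne_swap a) u w).symm

theorem p6_cj_yy {c a : Idx m} (hca : Rt c a) (s t : W) :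
    MulAut.conj (S.y c s) (S.y a t) = S.x c a.swap (-(QuadraticMap.polar N s t)) * S.y a t := by
  rw [MulAut.conj_apply, ← S.yy c a hca s t, inv_mul_cancel_right]

theorem p6_cj_yx {a b : Idx m} (hab : Rt a b) (u : W) (t : K) :
    MulAut.conj (S.y b u) (S.x a b t) =
      S.x a b t * (S.y a (-(t • u)) * S.x a b.swap (-(t * N u))) := by
  have e := S.xy a b hab (-t) u
  rw [← S.toOD.x_inv hab, inv_inv, neg_smul, neg_mul] at e
  rw [MulAut.conj_apply, ← e]
  group

/-! ### subgroups generated by root elements -/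

/-- the subgroup generated by the positive root elements in the rows from the `k`-th on. -/
def HrW (k : ℕ) : Subgroup Γ := S.XW (OD.PosC k) (fun a => k ≤ ord a ∧ ord a < m)

/-- the subgroup generated by the positive root elements in the row `a` and the columns in `T`
(the marker `inl ()` stands for the short root elements `y a w`, the marker `inr b` for the column of `b`). -/
def NrW (a : Idx m) (T : Finset (Unit ⊕ Idx m)) : Subgroup Γ :=
  S.XW (fun a' b => a' = a ∧ (Sum.inr b : Unit ⊕ Idx m) ∈ T ∧ ord a < ord b ∧ ord a + ord b + 1 < 2 * m)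
    (fun a' => a' = a ∧ (Sum.inl () : Unit ⊕ Idx m) ∈ T)

theorem UtW_eq_HrW : S.UtW = S.HrW 0 := by
  rw [S.UtW_eq_XW]
  apply le_antisymm
  · unfold XW
    rw [Subgroup.closure_le]
    rintro g (⟨a, b, t, hab, hlt, rfl⟩ | ⟨a, t, ha, rfl⟩)
    · have h1 := ord_swap a
      have h2 := ord_swap b
      have h3 := ord_lt a
      have h4 := ord_lt b
      by_cases hc : ord a + ord b + 1 < 2 * m
      · exact S.x_mem_XW hab ⟨Nat.zero_le _, hlt, hc⟩ t
      · rw [S.xbar a b hab]
        refine S.x_mem_XW hab.bar ⟨Nat.zero_le _, by omega, ?_⟩ _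
        have hne : ord a + ord b + 1 ≠ 2 * m := by
          intro e
          apply hab.2
          apply ord_injective
          rw [h2]
          omega
        omega
    · exact S.y_mem_XW ⟨Nat.zero_le _, ha⟩ t
  · exact S.XW_mono (fun a b _ h => h.2.1) (fun a h => h.2)

theorem NrW_step_x {a b₀ : Idx m} {T : Finset (Unit ⊕ Idx m)} (hb₀ : (Sum.inr b₀ : Unit ⊕ Idx m) ∉ T)
    (hab₀ : Rt a b₀) {g : Γ} (hg : g ∈ S.NrW a (insert (Sum.inr b₀) T)) :
    ∃ (t : K) (y : Γ), y ∈ S.NrW a T ∧ g = S.x a b₀ t * y := by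
  refine S.XW_induction_left (P := fun g => ∃ (t : K) (y : Γ), y ∈ S.NrW a T ∧
    g = S.x a b₀ t * y) ?_ ?_ ?_ hg
  · exact ⟨0, 1, one_mem _, by rw [S.toOD.x_zero hab₀, one_mul]⟩
  · rintro a' b s g hab ⟨rfl, hbT, h1, h2⟩ hg ⟨t, y, hy, rfl⟩
    rw [Finset.mem_insert] at hbT
    rcases hbT with hb | hbT
    · have hb' : b = b₀ := Sum.inr.inj hb
      subst hb'
      exact ⟨s + t, y, hy, by rw [← mul_assoc, S.add _ _ hab]⟩
    · refine ⟨t, S.x a' b s * y, mul_mem (S.x_mem_XW hab ⟨rfl, hbT, h1, h2⟩ s) hy, ?_⟩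
      rw [← mul_assoc, S.toOD.row_comm hab hab₀, mul_assoc]
  · rintro a' s g ⟨rfl, h0⟩ hg ⟨t, y, hy, rfl⟩
    rw [Finset.mem_insert] at h0
    rcases h0 with h0 | h0
    · exact absurd h0 Sum.inl_ne_inr
    · refine ⟨t, S.y a' s * y, mul_mem (S.y_mem_XW ⟨rfl, h0⟩ s) hy, ?_⟩
      rw [← mul_assoc, S.p6_ya_x hab₀, mul_assoc]

theorem NrW_step_y {a : Idx m} {T : Finset (Unit ⊕ Idx m)} (h0 : (Sum.inl () : Unit ⊕ Idx m) ∉ T)
    {g : Γ} (hg : g ∈ S.NrW a (insert (Sum.inl ()) T)) :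
    ∃ (w : W) (y : Γ), y ∈ S.NrW a T ∧ g = S.y a w * y := by
  refine S.XW_induction_left (P := fun g => ∃ (w : W) (y : Γ), y ∈ S.NrW a T ∧
    g = S.y a w * y) ?_ ?_ ?_ hg
  · exact ⟨0, 1, one_mem _, by rw [S.p6_y_zero, one_mul]⟩
  · rintro a' b s g hab ⟨rfl, hbT, h1, h2⟩ hg ⟨t, y, hy, rfl⟩
    rw [Finset.mem_insert] at hbT
    rcases hbT with hb | hbT
    · exact absurd hb Sum.inr_ne_inl
    · refine ⟨t, S.x a' b s * y, mul_mem (S.x_mem_XW hab ⟨rfl, hbT, h1, h2⟩ s) hy, ?_⟩
      rw [← mul_assoc, ← S.p6_ya_x hab, mul_assoc]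
  · rintro a' s g ⟨rfl, _⟩ hg ⟨t, y, hy, rfl⟩
    exact ⟨s + t, y, hy, by rw [← mul_assoc, S.yadd]⟩

theorem NrW_conj_x {a c d : Idx m} (hcd : Rt c d) (hac : ord a < ord c) (hpos : OD.PosC 0 c d) (s : K)
    {y : Γ} (hy : y ∈ S.NrW a Finset.univ) :
    MulAut.conj (S.x c d s) y ∈ S.NrW a Finset.univ := by
  obtain ⟨_, hcd1, hcd2⟩ := hpos
  have o1 := ord_swap a
  have o2 := ord_swap c
  have o3 := ord_swap d
  refine S.XW_induction_left (P := fun y => MulAut.conj (S.x c d s) y ∈ S.NrW a Finset.univ)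
    ?_ ?_ ?_ hy
  · rw [map_one]
    exact one_mem _
  · rintro a' b t g hab ⟨rfl, _, h1, h2⟩ hg ih
    rw [map_mul]
    refine mul_mem ?_ ih
    have o4 := ord_swap b
    have hself : S.x a' b t ∈ S.NrW a' Finset.univ :=
      S.x_mem_XW hab ⟨rfl, Finset.mem_univ _, h1, h2⟩ t
    by_cases hbc : b = c
    · subst hbc
      have had : Rt a' d := by
        refine ⟨fun e => ?_, fun e => ?_⟩
        · rw [e] at hac; omega
        · rw [e] at hac; omega
      rw [S.toOD.cj_two hab hcd had]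
      refine mul_mem (S.x_mem_XW had ⟨rfl, Finset.mem_univ _, by omega, by omega⟩ _) hself
    · by_cases hdb : d = b.swap
      · subst hdb
        have hbc' : Rt b c.swap := by
          have := hcd.bar
          rwa [Sum.swap_swap] at this
        have hac' : Rt a' c.swap := by
          refine ⟨fun e => ?_, fun e => ?_⟩
          · rw [e] at hac; omega
          · rw [e, Sum.swap_swap] at hac; omega
        rw [S.xbar c b.swap hcd, Sum.swap_swap, S.toOD.cj_two hab hbc' hac']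
        refine mul_mem (S.x_mem_XW hac' ⟨rfl, Finset.mem_univ _, by omega, by omega⟩ _) hself
      · rw [S.toOD.cj_comm hcd hab (fun e => by rw [e] at hcd1; omega) (fun e => hbc e.symm)
          (fun e => by rw [e] at hac; omega) (fun e => hdb (by rw [e, Sum.swap_swap]))]
        exact hself
  · rintro a' t g ⟨rfl, _⟩ hg ih
    rw [map_mul]
    refine mul_mem ?_ ih
    have e : MulAut.conj (S.x c d s) (S.y a' t) = S.y a' t := by
      rw [MulAut.conj_apply, S.xy_comm c d a' hcd (fun e => by rw [e] at hac; omega)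
        (fun e => by rw [e] at hac; omega) s t, mul_inv_cancel_right]
    rw [e]
    exact S.y_mem_XW ⟨rfl, Finset.mem_univ _⟩ t

theorem NrW_conj_y {a c : Idx m} (hac : ord a < ord c) (hc : ord c < m) (s : W)
    {y : Γ} (hy : y ∈ S.NrW a Finset.univ) :
    MulAut.conj (S.y c s) y ∈ S.NrW a Finset.univ := by
  have o1 := ord_swap a
  have o2 := ord_swap c
  have hca : Rt c a := by
    refine ⟨fun e => ?_, fun e => ?_⟩
    · rw [e] at hac; omega
    · rw [e] at hac hc; omega
  have hacs : Rt a c.swap := by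
    refine ⟨fun e => ?_, fun e => ?_⟩
    · rw [e] at hac; omega
    · rw [e, Sum.swap_swap] at hac; omega
  have hmem : ∀ u : K, S.x a c.swap u ∈ S.NrW a Finset.univ :=
    fun u => S.x_mem_XW hacs ⟨rfl, Finset.mem_univ _, by omega, by omega⟩ u
  refine S.XW_induction_left (P := fun y => MulAut.conj (S.y c s) y ∈ S.NrW a Finset.univ)
    ?_ ?_ ?_ hy
  · rw [map_one]
    exact one_mem _
  · rintro a' b t g hab ⟨rfl, _, h1, h2⟩ hg ih
    rw [map_mul]
    refine mul_mem ?_ ih
    have hself : S.x a' b t ∈ S.NrW a' Finset.univ :=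
      S.x_mem_XW hab ⟨rfl, Finset.mem_univ _, h1, h2⟩ t
    by_cases hbc : b = c
    · subst hbc
      rw [S.p6_cj_yx hab]
      exact mul_mem hself (mul_mem (S.y_mem_XW ⟨rfl, Finset.mem_univ _⟩ _) (hmem _))
    · have e : MulAut.conj (S.y c s) (S.x a' b t) = S.x a' b t := by
        rw [MulAut.conj_apply, ← S.xy_comm a' b c hab (fun e => hbc e.symm)
          (fun e => by rw [e] at hac hc; omega) t s, mul_inv_cancel_right]
      rw [e]
      exact hself
  · rintro a' t g ⟨rfl, _⟩ hg ih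
    rw [map_mul]
    refine mul_mem ?_ ih
    rw [S.p6_cj_yy hca]
    refine mul_mem ?_ (S.y_mem_XW ⟨rfl, Finset.mem_univ _⟩ t)
    have hcas : Rt c a'.swap := hca.swap_right
    rw [S.xbar c a'.swap hcas, Sum.swap_swap]
    exact hmem _

theorem HrW_step {k : ℕ} (hk : k < m) {g : Γ} (hg : g ∈ S.HrW k) :
    ∃ (h y : Γ), h ∈ S.HrW (k + 1) ∧ y ∈ S.NrW (Sum.inl ⟨k, hk⟩) Finset.univ ∧ g = h * y := by
  refine S.XW_induction_right (P := fun g => ∃ (h y : Γ), h ∈ S.HrW (k + 1) ∧
    y ∈ S.NrW (Sum.inl ⟨k, hk⟩) Finset.univ ∧ g = h * y) ?_ ?_ ?_ hg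
  · exact ⟨1, 1, one_mem _, one_mem _, (mul_one 1).symm⟩
  · rintro a b t g hab ⟨h0, h1, h2⟩ hg ⟨h, y, hh, hy, rfl⟩
    by_cases ha : ord a = k
    · have : a = Sum.inl ⟨k, hk⟩ := ord_injective (by rw [ha]; rfl)
      subst this
      exact ⟨h, y * S.x _ b t, hh,
        mul_mem hy (S.x_mem_XW hab ⟨rfl, Finset.mem_univ _, h1, h2⟩ t), by rw [mul_assoc]⟩
    · have ha' : k + 1 ≤ ord a := by omega
      refine ⟨h * S.x a b t, MulAut.conj (S.x a b (-t)) y,
        mul_mem hh (S.x_mem_XW hab ⟨ha', h1, h2⟩ t), ?_, ?_⟩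
      · exact S.NrW_conj_x (a := Sum.inl ⟨k, hk⟩) hab (show k < ord a by omega)
          ⟨Nat.zero_le _, h1, h2⟩ _ hy
      · rw [MulAut.conj_apply, ← S.toOD.x_inv hab]
        group
  · rintro a t g ⟨h0, h1⟩ hg ⟨h, y, hh, hy, rfl⟩
    by_cases ha : ord a = k
    · have : a = Sum.inl ⟨k, hk⟩ := ord_injective (by rw [ha]; rfl)
      subst this
      exact ⟨h, y * S.y _ t, hh,
        mul_mem hy (S.y_mem_XW ⟨rfl, Finset.mem_univ _⟩ t), by rw [mul_assoc]⟩
    · have ha' : k + 1 ≤ ord a := by omega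
      refine ⟨h * S.y a t, MulAut.conj (S.y a (-t)) y,
        mul_mem hh (S.y_mem_XW ⟨ha', h1⟩ t), ?_, ?_⟩
      · exact S.NrW_conj_y (a := Sum.inl ⟨k, hk⟩) (show k < ord a by omega) h1 _ hy
      · rw [MulAut.conj_apply, ← S.p6_y_inv]
        group

end OW

end grp


/-! ### the homomorphism to the matrices (`W = ι → K`) -/

section phi

variable {m : ℕ} {K : Type*} [Field K] {ι : Type*} [Fintype ι] [DecidableEq ι]
  {N : QuadraticForm K (ι → K)} {Γ : Type*} [Group Γ] (S : OW m N Γ)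
  (φ : Γ →* Matrix (Idx m ⊕ ι) (Idx m ⊕ ι) K) (hφ : S.IsMatW φ)

/-- the marker of the column of a matrix index. -/
def colM : Idx m ⊕ ι → Unit ⊕ Idx m
  | Sum.inl b => Sum.inr b
  | Sum.inr _ => Sum.inl ()

namespace OW

include hφ in
theorem NrW_shape {a : Idx m} {T : Finset (Unit ⊕ Idx m)} {y : Γ} (hy : y ∈ S.NrW a T) :
    (∀ r s : Idx m ⊕ ι, r ≠ Sum.inl a → s ≠ Sum.inl a.swap →
        φ y r s = (1 : Matrix (Idx m ⊕ ι) (Idx m ⊕ ι) K) r s) ∧
      (∀ s : Idx m ⊕ ι, colM s ∉ T → s ≠ Sum.inl a → s ≠ Sum.inl a.swap → φ y (Sum.inl a) s = 0) ∧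
      φ y (Sum.inl a) (Sum.inl a) = 1 ∧
      ((Sum.inl () : Unit ⊕ Idx m) ∉ T → ∀ (j : ι) (s : Idx m ⊕ ι),
        φ y (Sum.inr j) s = (1 : Matrix (Idx m ⊕ ι) (Idx m ⊕ ι) K) (Sum.inr j) s) ∧
      φ y (Sum.inl a.swap) (Sum.inl a.swap) = 1 := by
  have hna : (Sum.inl a.swap : Idx m ⊕ ι) ≠ Sum.inl a := fun e => ne_swap a (Sum.inl.inj e).symm
  refine S.XW_induction_left (P := fun y =>
    (∀ r s : Idx m ⊕ ι, r ≠ Sum.inl a → s ≠ Sum.inl a.swap →
        φ y r s = (1 : Matrix (Idx m ⊕ ι) (Idx m ⊕ ι) K) r s) ∧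
      (∀ s : Idx m ⊕ ι, colM s ∉ T → s ≠ Sum.inl a → s ≠ Sum.inl a.swap → φ y (Sum.inl a) s = 0) ∧
      φ y (Sum.inl a) (Sum.inl a) = 1 ∧
      ((Sum.inl () : Unit ⊕ Idx m) ∉ T → ∀ (j : ι) (s : Idx m ⊕ ι),
        φ y (Sum.inr j) s = (1 : Matrix (Idx m ⊕ ι) (Idx m ⊕ ι) K) (Sum.inr j) s) ∧
      φ y (Sum.inl a.swap) (Sum.inl a.swap) = 1) ?_ ?_ ?_ hy
  · rw [map_one]
    exact ⟨fun _ _ _ _ => rfl, fun s _ hs _ => Matrix.one_apply_ne hs.symm, Matrix.one_apply_eq _,
      fun _ _ _ => rfl, Matrix.one_apply_eq _⟩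
  · rintro a' b t g hab ⟨rfl, hbT, h1, h2⟩ hg ⟨i1, i2, i3, i4, i5⟩
    rw [map_mul, hφ.x a' b hab]
    have hba : (Sum.inl b : Idx m ⊕ ι) ≠ Sum.inl a' := fun e => hab.1 (Sum.inl.inj e).symm
    have hab' : (Sum.inl a' : Idx m ⊕ ι) ≠ Sum.inl b.swap := fun e => hab.2 (Sum.inl.inj e)
    have hab'' : (Sum.inl a'.swap : Idx m ⊕ ι) ≠ Sum.inl b.swap :=
      fun e => hab.1 (swap_inj.mp (Sum.inl.inj e))
    refine ⟨?_, ?_, ?_, ?_, ?_⟩
    · intro r s hr hs
      rw [p6_bXW_mul_apply, if_neg hr, add_zero, i1 r s hr hs, i1 _ s hna hs,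
        Matrix.one_apply_ne (fun e => hs e.symm), mul_zero, ite_self, sub_zero]
    · intro s hsT hsa hsa'
      have hsb : (Sum.inl b : Idx m ⊕ ι) ≠ s := fun e => hsT (by rw [← e]; exact hbT)
      rw [p6_bXW_mul_apply, if_pos rfl, if_neg hab', sub_zero, i2 s hsT hsa hsa', i1 _ s hba hsa',
        Matrix.one_apply_ne hsb, mul_zero, zero_add]
    · rw [p6_bXW_mul_apply, if_pos rfl, if_neg hab', sub_zero, i3, i1 _ _ hba hna.symm,
        Matrix.one_apply_ne hba, mul_zero, add_zero]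
    · intro h0 j s
      rw [p6_bXW_mul_apply, if_neg Sum.inr_ne_inl, if_neg Sum.inr_ne_inl, add_zero, sub_zero,
        i4 h0 j s]
    · rw [p6_bXW_mul_apply, if_neg hna, if_neg hab'', add_zero, sub_zero, i5]
  · rintro a' w g ⟨rfl, h0T⟩ hg ⟨i1, i2, i3, i4, i5⟩
    rw [map_mul, hφ.y a']
    refine ⟨?_, ?_, ?_, ?_, ?_⟩
    · intro r s hr hs
      rcases r with i | j
      · have hi : i ≠ a' := fun e => hr (by rw [e])
        rw [p6_bYW_mul_apply_inl, if_neg hi, if_neg hi, sub_zero, add_zero, i1 _ s hr hs]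
      · rw [p6_bYW_mul_apply_inr, i1 _ s hr hs, i1 _ s hna hs,
          Matrix.one_apply_ne (fun e => hs e.symm), mul_zero, sub_zero]
    · intro s hsT hsa hsa'
      rw [p6_bYW_mul_apply_inl, if_pos rfl, if_pos rfl, i2 s hsT hsa hsa', i1 _ s hna hsa',
        Matrix.one_apply_ne (fun e => hsa' e.symm), mul_zero, sub_zero, zero_add]
      apply Finset.sum_eq_zero
      intro j _
      have hjs : (Sum.inr j : Idx m ⊕ ι) ≠ s := by
        intro e
        apply hsT
        rw [← e]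
        exact h0T
      rw [i1 _ s Sum.inr_ne_inl hsa', Matrix.one_apply_ne hjs, mul_zero]
    · rw [p6_bYW_mul_apply_inl, if_pos rfl, if_pos rfl, i3, i1 _ _ hna hna.symm,
        Matrix.one_apply_ne hna, mul_zero, sub_zero]
      have : ∑ j, QuadraticMap.polar N (Pi.single j 1) w * φ g (Sum.inr j) (Sum.inl a') = 0 := by
        apply Finset.sum_eq_zero
        intro j _
        rw [i1 _ _ Sum.inr_ne_inl hna.symm, Matrix.one_apply_ne Sum.inr_ne_inl, mul_zero]
      rw [this, add_zero]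
    · intro h0
      exact absurd h0T h0
    · rw [p6_bYW_mul_apply_inl, if_neg (ne_swap a').symm, if_neg (ne_swap a').symm, sub_zero,
        add_zero, i5]

include hφ in
theorem NrW_inj {a : Idx m} : ∀ (T : Finset (Unit ⊕ Idx m)) (y : Γ), y ∈ S.NrW a T →
    (∀ s, φ y (Sum.inl a) s = (1 : Matrix (Idx m ⊕ ι) (Idx m ⊕ ι) K) (Sum.inl a) s) →
    (∀ j : ι, φ y (Sum.inr j) (Sum.inl a.swap) = 0) → y = 1 := by
  have hna : (Sum.inl a.swap : Idx m ⊕ ι) ≠ Sum.inl a := fun e => ne_swap a (Sum.inl.inj e).symm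
  intro T
  induction T using Finset.induction_on with
  | empty =>
    intro y hy _ _
    refine S.XW_induction_left (P := fun y => y = 1) rfl ?_ ?_ hy
    · rintro a' b s g hab ⟨_, hb, _⟩ _ _
      exact absurd hb (Finset.notMem_empty _)
    · rintro a' s g ⟨_, hb⟩ _ _
      exact absurd hb (Finset.notMem_empty _)
  | insert b₀ T hb₀ ih =>
    intro y hy hrow hcol
    rcases b₀ with ⟨⟩ | b₀
    · obtain ⟨w, y', hy', rfl⟩ := S.NrW_step_y hb₀ hy
      obtain ⟨i1, i2, i3, i4, i5⟩ := S.NrW_shape φ hφ hy'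
      have hw : w = 0 := by
        funext j
        have e := hcol j
        rw [map_mul, hφ.y a, p6_bYW_mul_apply_inr, i4 hb₀ j, Matrix.one_apply_ne Sum.inr_ne_inl, i5,
          mul_one, zero_sub, neg_eq_zero] at e
        exact e
      rw [hw, S.p6_y_zero, one_mul] at hrow hcol ⊢
      exact ih y' hy' hrow hcol
    · by_cases hgood : Rt a b₀
      · obtain ⟨t, y', hy', rfl⟩ := S.NrW_step_x hb₀ hgood hy
        obtain ⟨i1, i2, i3, i4, i5⟩ := S.NrW_shape φ hφ hy'
        have hba : (Sum.inl b₀ : Idx m ⊕ ι) ≠ Sum.inl a := fun e => hgood.1 (Sum.inl.inj e).symm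
        have hba' : (Sum.inl b₀ : Idx m ⊕ ι) ≠ Sum.inl a.swap :=
          fun e => hgood.2 (by rw [Sum.inl.inj e, Sum.swap_swap])
        have hab' : (Sum.inl a : Idx m ⊕ ι) ≠ Sum.inl b₀.swap := fun e => hgood.2 (Sum.inl.inj e)
        have e := hrow (Sum.inl b₀)
        rw [map_mul, hφ.x a b₀ hgood, p6_bXW_mul_apply, if_pos rfl, if_neg hab', sub_zero,
          i2 (Sum.inl b₀) hb₀ hba hba', i1 _ _ hba hba', Matrix.one_apply_eq, Matrix.one_apply_ne hba.symm,
          zero_add, mul_one] at e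
        rw [e, S.toOD.x_zero hgood, one_mul] at hrow hcol ⊢
        exact ih y' hy' hrow hcol
      · apply ih y _ hrow hcol
        have : S.NrW a (insert (Sum.inr b₀) T) ≤ S.NrW a T := by
          apply S.XW_mono
          · rintro a' b hab ⟨rfl, hbT, h1, h2'⟩
            rw [Finset.mem_insert] at hbT
            rcases hbT with hb | hbT
            · rw [Sum.inr.inj hb] at hab
              exact absurd hab hgood
            · exact ⟨rfl, hbT, h1, h2'⟩
          · rintro a' ⟨rfl, h0⟩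
            rw [Finset.mem_insert] at h0
            rcases h0 with h0 | h0
            · exact absurd h0 Sum.inl_ne_inr
            · exact ⟨rfl, h0⟩
        exact this hy

include hφ in
/-- the rows `inl r`, `ord r ≤ k`, of the matrices of `HrW (k + 1)` are rows of `1`. -/
theorem HrW_shape {k : ℕ} {h : Γ} (hh : h ∈ S.HrW (k + 1)) :
    ∀ (r : Idx m) (s : Idx m ⊕ ι), ord r ≤ k →
      φ h (Sum.inl r) s = (1 : Matrix (Idx m ⊕ ι) (Idx m ⊕ ι) K) (Sum.inl r) s := by
  refine S.XW_induction_left (P := fun h => ∀ (r : Idx m) (s : Idx m ⊕ ι), ord r ≤ k →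
    φ h (Sum.inl r) s = (1 : Matrix (Idx m ⊕ ι) (Idx m ⊕ ι) K) (Sum.inl r) s) ?_ ?_ ?_ hh
  · intro r s _
    rw [map_one]
  · rintro a b t g hab ⟨h0, h1, h2⟩ hg ih r s hr
    have o1 := ord_swap b
    have hra : (Sum.inl r : Idx m ⊕ ι) ≠ Sum.inl a := fun e => by
      rw [Sum.inl.inj e] at hr; omega
    have hrb : (Sum.inl r : Idx m ⊕ ι) ≠ Sum.inl b.swap := fun e => by
      rw [Sum.inl.inj e] at hr; omega
    rw [map_mul, hφ.x a b hab, p6_bXW_mul_apply, if_neg hra, if_neg hrb, add_zero, sub_zero,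
      ih r s hr]
  · rintro a w g ⟨h0, h1⟩ hg ih r s hr
    have hra : r ≠ a := fun e => by
      rw [e] at hr; omega
    rw [map_mul, hφ.y a, p6_bYW_mul_apply_inl, if_neg hra, if_neg hra, sub_zero, add_zero,
      ih r s hr]

include hφ in
/-- the columns `inl c̄`, `ord c ≤ k`, of the matrices of `HrW (k + 1)` are columns of `1`. -/
theorem HrW_shape_col {k : ℕ} {h : Γ} (hh : h ∈ S.HrW (k + 1)) :
    ∀ (r : Idx m ⊕ ι) (c : Idx m), ord c ≤ k →
      φ h r (Sum.inl c.swap) = (1 : Matrix (Idx m ⊕ ι) (Idx m ⊕ ι) K) r (Sum.inl c.swap) := by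
  refine S.XW_induction_right (P := fun h => ∀ (r : Idx m ⊕ ι) (c : Idx m), ord c ≤ k →
    φ h r (Sum.inl c.swap) = (1 : Matrix (Idx m ⊕ ι) (Idx m ⊕ ι) K) r (Sum.inl c.swap)) ?_ ?_ ?_ hh
  · intro r c _
    rw [map_one]
  · rintro a b t g hab ⟨h0, h1, h2⟩ hg ih r c hc
    have o1 := ord_swap b
    have o2 := ord_swap c
    have o3 := ord_swap a
    have hcb : c.swap ≠ b := fun e => by
      rw [← e] at h1 h2; omega
    have hca : c.swap ≠ a.swap := fun e => by
      rw [swap_inj.mp e] at hc; omega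
    rw [map_mul, hφ.x a b hab, Matrix.mul_apply,
      Finset.sum_congr rfl (fun x _ => by rw [p6_bXW_col hcb hca t x]), ← Matrix.mul_apply,
      mul_one, ih r c hc]
  · rintro a w g ⟨h0, h1⟩ hg ih r c hc
    have hca : c.swap ≠ a.swap := fun e => by
      rw [swap_inj.mp e] at hc; omega
    rw [map_mul, hφ.y a, Matrix.mul_apply,
      Finset.sum_congr rfl (fun x _ => by rw [p6_bYW_col N hca w x]), ← Matrix.mul_apply,
      mul_one, ih r c hc]

include hφ in
theorem HrW_inj : ∀ (j k : ℕ), k + j = m → ∀ g ∈ S.HrW k, φ g = 1 → g = 1 := by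
  intro j
  induction j with
  | zero =>
    intro k hk g hg _
    refine S.XW_induction_left (P := fun y => y = 1) rfl ?_ ?_ hg
    · rintro a b s g hab ⟨h0, h1, h2'⟩ _ _
      omega
    · rintro a s g ⟨h0, h1⟩ _ _
      omega
  | succ j ih =>
    intro k hk g hg hφg
    have hk' : k < m := by omega
    obtain ⟨h, y, hh, hy, rfl⟩ := S.HrW_step hk' hg
    have h4 := S.HrW_shape φ hφ hh
    -- `φ y = φ h⁻¹`
    have hyh : φ y = φ h⁻¹ := by
      have : y = h⁻¹ * (h * y) := by rw [inv_mul_cancel_left]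
      rw [this, map_mul, hφg, mul_one]
    have hcol : ∀ j' : ι, φ y (Sum.inr j') (Sum.inl (Sum.inl ⟨k, hk'⟩ : Idx m).swap) = 0 := by
      intro j'
      rw [hyh, S.HrW_shape_col φ hφ (inv_mem hh) (Sum.inr j') (Sum.inl ⟨k, hk'⟩) (le_refl _),
        Matrix.one_apply_ne Sum.inr_ne_inl]
    rw [map_mul] at hφg
    have hrow : ∀ s, φ y (Sum.inl (Sum.inl ⟨k, hk'⟩)) s =
        (1 : Matrix (Idx m ⊕ ι) (Idx m ⊕ ι) K) (Sum.inl (Sum.inl ⟨k, hk'⟩)) s := by
      intro s
      have e := congrFun (congrFun hφg (Sum.inl (Sum.inl ⟨k, hk'⟩))) s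
      rw [Matrix.mul_apply] at e
      have e2 : ∑ b, φ h (Sum.inl (Sum.inl ⟨k, hk'⟩)) b * φ y b s =
          ∑ b, (1 : Matrix (Idx m ⊕ ι) (Idx m ⊕ ι) K) (Sum.inl (Sum.inl ⟨k, hk'⟩)) b * φ y b s := by
        apply Finset.sum_congr rfl
        intro b _
        rw [h4 (Sum.inl ⟨k, hk'⟩) b (le_refl _)]
      rw [e2, ← Matrix.mul_apply, Matrix.one_mul] at e
      exact e
    have hy2 := S.NrW_inj φ hφ Finset.univ y hy hrow hcol
    subst hy2
    rw [map_one, mul_one] at hφg
    rw [mul_one]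
    exact ih (k + 1) (by omega) h hh hφg

include hφ in
/-- **the homomorphism to the matrices is injective on the positive part.** -/
theorem UtW_inj {g : Γ} (hg : g ∈ S.UtW) (h : φ g = 1) : g = 1 := by
  rw [S.UtW_eq_HrW] at hg
  exact S.HrW_inj φ hφ m 0 (zero_add m) g hg h

include hφ in
/-- the matrices of the positive part are upper unitriangular, and their `W × W` block is `1`. -/
theorem UtW_shape {g : Γ} (hg : g ∈ S.UtW) :
    (∀ i : Idx m ⊕ ι, φ g i i = 1) ∧
      (∀ i j : Idx m ⊕ ι, ordM j < ordM i → φ g i j = 0) ∧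
      ∀ j j' : ι, φ g (Sum.inr j) (Sum.inr j') = (1 : Matrix ι ι K) j j' := by
  rw [S.UtW_eq_XW] at hg
  refine S.XW_induction_left (P := fun g => (∀ i : Idx m ⊕ ι, φ g i i = 1) ∧
    (∀ i j : Idx m ⊕ ι, ordM j < ordM i → φ g i j = 0) ∧
    ∀ j j' : ι, φ g (Sum.inr j) (Sum.inr j') = (1 : Matrix ι ι K) j j') ?_ ?_ ?_ hg
  · rw [map_one]
    refine ⟨fun a => Matrix.one_apply_eq a,
      fun a c hca => Matrix.one_apply_ne (fun e => by rw [e] at hca; exact lt_irrefl _ hca), ?_⟩
    intro j j'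
    by_cases h : j = j'
    · rw [h, Matrix.one_apply_eq, Matrix.one_apply_eq]
    · rw [Matrix.one_apply_ne h, Matrix.one_apply_ne (fun e => h (Sum.inr.inj e))]
  · rintro a b t g hab hlt hg ⟨h1, h2, h3⟩
    have o1 := ord_swap a
    have o2 := ord_swap b
    have o3 := ord_lt a
    have o4 := ord_lt b
    have l1 : ordM (Sum.inl a : Idx m ⊕ ι) < ordM (Sum.inl b : Idx m ⊕ ι) := ordM_lt_of_lt hlt
    have l2 : ordM (Sum.inl b.swap : Idx m ⊕ ι) < ordM (Sum.inl a.swap : Idx m ⊕ ι) :=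
      ordM_lt_of_lt (by omega)
    rw [map_mul, hφ.x a b hab]
    refine ⟨fun i => ?_, fun i j hji => ?_, fun j j' => ?_⟩
    · rw [p6_bXW_mul_apply, h1]
      have e1 : (if i = Sum.inl a then t * φ g (Sum.inl b) i else 0) = 0 := by
        by_cases hi : i = Sum.inl a
        · rw [if_pos hi, h2 _ i (by rw [hi]; exact l1), mul_zero]
        · rw [if_neg hi]
      have e2 : (if i = Sum.inl b.swap then t * φ g (Sum.inl a.swap) i else 0) = 0 := by
        by_cases hi : i = Sum.inl b.swap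
        · rw [if_pos hi, h2 _ i (by rw [hi]; exact l2), mul_zero]
        · rw [if_neg hi]
      rw [e1, e2, add_zero, sub_zero]
    · rw [p6_bXW_mul_apply, h2 i j hji]
      have e1 : (if i = Sum.inl a then t * φ g (Sum.inl b) j else 0) = 0 := by
        by_cases hi : i = Sum.inl a
        · rw [if_pos hi, h2 _ j (by rw [hi] at hji; exact lt_trans hji l1), mul_zero]
        · rw [if_neg hi]
      have e2 : (if i = Sum.inl b.swap then t * φ g (Sum.inl a.swap) j else 0) = 0 := by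
        by_cases hi : i = Sum.inl b.swap
        · rw [if_pos hi, h2 _ j (by rw [hi] at hji; exact lt_trans hji l2), mul_zero]
        · rw [if_neg hi]
      rw [e1, e2, add_zero, sub_zero]
    · rw [p6_bXW_mul_apply, if_neg Sum.inr_ne_inl, if_neg Sum.inr_ne_inl, add_zero, sub_zero, h3]
  · rintro a w g ha hg ⟨h1, h2, h3⟩
    have o1 := ord_swap a
    have l1 : ∀ j : ι, ordM (Sum.inl a : Idx m ⊕ ι) < ordM (Sum.inr j : Idx m ⊕ ι) := by
      intro j
      rw [ordM_inl, ordM_inr, if_pos ha]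
      exact ha
    have l2 : ∀ j : ι, ordM (Sum.inr j : Idx m ⊕ ι) < ordM (Sum.inl a.swap : Idx m ⊕ ι) := by
      intro j
      rw [ordM_inl, ordM_inr, if_neg (by omega)]
      omega
    have l3 : ordM (Sum.inl a : Idx m ⊕ ι) < ordM (Sum.inl a.swap : Idx m ⊕ ι) := by
      rw [ordM_inl, ordM_inl, if_pos ha, if_neg (by omega)]
      omega
    rw [map_mul, hφ.y a]
    refine ⟨fun i => ?_, fun i j hji => ?_, fun j j' => ?_⟩
    · rcases i with i | j
      · rw [p6_bYW_mul_apply_inl, h1]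
        by_cases hi : i = a
        · rw [if_pos hi, if_pos hi, hi, h2 _ _ l3, mul_zero, sub_zero]
          have : ∑ j, QuadraticMap.polar N (Pi.single j 1) w * φ g (Sum.inr j) (Sum.inl a) = 0 :=
            Finset.sum_eq_zero (fun j _ => by rw [h2 _ _ (l1 j), mul_zero])
          rw [this, add_zero]
        · rw [if_neg hi, if_neg hi, sub_zero, add_zero]
      · rw [p6_bYW_mul_apply_inr, h1, h2 _ _ (l2 j), mul_zero, sub_zero]
    · rcases i with i | j₀
      · rw [p6_bYW_mul_apply_inl, h2 _ j hji]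
        by_cases hi : i = a
        · rw [hi] at hji
          rw [if_pos hi, if_pos hi, h2 _ j (lt_trans hji l3), mul_zero, sub_zero]
          have : ∑ j', QuadraticMap.polar N (Pi.single j' 1) w * φ g (Sum.inr j') j = 0 :=
            Finset.sum_eq_zero (fun j' _ => by rw [h2 _ j (lt_trans hji (l1 j')), mul_zero])
          rw [this, add_zero]
        · rw [if_neg hi, if_neg hi, sub_zero, add_zero]
      · rw [p6_bYW_mul_apply_inr, h2 _ j hji, h2 _ j (lt_trans hji (l2 j₀)), mul_zero, sub_zero]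
    · rw [p6_bYW_mul_apply_inr, h3, h2 _ _ (l2 j'), mul_zero, sub_zero]

end OW

end phi

end Cfsg.Agent.CtRecM
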