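import Mathlib
import Cfsg.Agent.CtRecM.OmC
import Cfsg.Agent.CtRecM.OmXW
import Cfsg.Agent.CtRecD.OdE

set_option autoImplicit false
set_option linter.unusedSectionVars false
set_option linter.unusedVariables false

/-!
# S2099, piece P7 (helper5): the Bruhat decomposition of a group with the Steinberg relations `OW`

Port of `CtRecB/ObE.lean`.  Simple roots: the long roots `(inl i, inl (i+1))` and the short root `ε_p`,
`p = inl (m-1)`.  The statements of piece P4 enter through `H : S.P4Hyp`; the quadratic space `(W, N)` is anisotropic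
(`hani`), so that every `y_p(t)`, `t ≠ 0`, can be written with `w_p(v)`.
-/

namespace Cfsg.Agent.CtRecM

open Cfsg.Agent.CtRecD Cfsg.Agent.CtRecB
open Cfsg.Agent.CtRecB.OB (sB sB_a sB_abar sB_oth sB_swap sB_sB)

variable {m : ℕ} {K : Type*} [Field K] {W : Type*} [AddCommGroup W] [Module K W]
  {N : QuadraticForm K W} {Γ : Type*} [Group Γ] (S : OW m N Γ)

theorem p7w_ord_sB_lt {p k l : Idx m} (hp : ord p + 1 = m) (hkl : Rt k l) (hlt : ord k < ord l) :
    ord (sB p k) < ord (sB p l) := by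
  have o1 := ord_swap p
  by_cases hk1 : k = p
  · have hl1 : l ≠ p := fun e => hkl.1 (by rw [hk1, e])
    have hl2 : l ≠ p.swap := fun e => hkl.2 (by rw [hk1, e, Sum.swap_swap])
    rw [hk1, sB_a, sB_oth hl1 hl2]
    have h3 : ord l ≠ ord p.swap := fun e => hl2 (ord_injective e)
    rw [hk1] at hlt
    omega
  by_cases hk2 : k = p.swap
  · have hl1 : l ≠ p := fun e => hkl.2 (by rw [hk2, e])
    have hl2 : l ≠ p.swap := fun e => hkl.1 (by rw [hk2, e])
    rw [hk2, sB_abar, sB_oth hl1 hl2]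
    rw [hk2] at hlt
    omega
  rw [sB_oth hk1 hk2]
  by_cases hl1 : l = p
  · rw [hl1, sB_a]
    rw [hl1] at hlt
    omega
  by_cases hl2 : l = p.swap
  · rw [hl2, sB_abar]
    rw [hl2] at hlt
    have h3 : ord k ≠ ord p := fun e => hk1 (ord_injective e)
    omega
  rw [sB_oth hl1 hl2]
  exact hlt

namespace OW

/-! ### generalities -/

variable {S}

theorem MonW.x_mul' {g : Γ} {σ : Equiv.Perm (Idx m)} {a : Idx m → K} {τ : W ≃ₗ[K] W}
    (h : S.MonW g σ a τ) {i j : Idx m} (hij : Rt i j) (c : K) :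
    ∃ c' : K, S.x i j c * g = g * S.x (σ⁻¹ i) (σ⁻¹ j) c' := by
  have e := h.inv.conj_x hij c
  refine ⟨(a (σ⁻¹ i))⁻¹ * ((a (σ⁻¹ j))⁻¹)⁻¹ * c, ?_⟩
  rw [← e, MulAut.conj_apply, inv_inv, mul_assoc, mul_inv_cancel_left]

theorem MonW.y_mul' {g : Γ} {σ : Equiv.Perm (Idx m)} {a : Idx m → K} {τ : W ≃ₗ[K] W}
    (h : S.MonW g σ a τ) (i : Idx m) (c : W) : ∃ c' : W, S.y i c * g = g * S.y (σ⁻¹ i) c' := by
  have e := h.inv.conj_y i c
  refine ⟨(a (σ⁻¹ i))⁻¹ • τ.symm c, ?_⟩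
  rw [← e, MulAut.conj_apply, inv_inv, mul_assoc, mul_inv_cancel_left]

variable (S)

/-! ### the long simple roots `(p, q) = (inl i, inl (i+1))` -/

/-- the positive root elements other than those of the long root `(p, q)`. -/
def UpW (p q : Idx m) : Subgroup Γ :=
  S.XW (fun k l => ord k < ord l ∧ ¬ (k = p ∧ l = q) ∧ ¬ (k = q.swap ∧ l = p.swap))
    (fun a => ord a < m)

theorem p7_Up_le_UpW (p q : Idx m) : S.toOD.Up p q ≤ S.UpW p q := S.XR_le_XW _ _

theorem UpW_le_UtW (p q : Idx m) : S.UpW p q ≤ S.UtW := by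
  rw [S.UtW_eq_XW]
  exact S.XW_mono (fun i j _ h => h.1) (fun a h => h)

theorem UpW_cj_y {p q c : Idx m} (hpq : Rt p q) (hlt : ord p < ord q) (hq : ord q < m)
    (hc : ord c < m) (t : K) (s : W) : MulAut.conj (S.x p q t) (S.y c s) ∈ S.UpW p q := by
  have o1 := ord_swap p
  have o2 := ord_swap q
  have hself : S.y c s ∈ S.UpW p q := S.y_mem_XW hc s
  by_cases h1 : c = q
  · subst h1
    rw [S.cj_xy hpq]
    refine mul_mem (mul_mem (S.y_mem_XW (by omega) _) (S.x_mem_XW hpq.swap_right ⟨by omega, ?_, ?_⟩ _))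
      hself
    · exact fun e => ne_swap c e.2.symm
    · exact fun e => hpq.2 e.1
  · have h2 : c ≠ p.swap := by
      intro e
      rw [e] at hc
      omega
    rw [S.cj_xy_comm hpq h1 h2]
    exact hself

theorem UtW_split {p q : Idx m} (hs : IsSimp p q) (hq : ord q < m) {g : Γ} (hg : g ∈ S.UtW) :
    ∃ (u₁ : Γ) (t : K), u₁ ∈ S.UpW p q ∧ g = u₁ * S.x p q t := by
  obtain ⟨hpq, hlt, -⟩ := hs
  rw [S.UtW_eq_XW] at hg
  refine S.XW_induction_right
    (P := fun g => ∃ (u₁ : Γ) (t : K), u₁ ∈ S.UpW p q ∧ g = u₁ * S.x p q t) ?_ ?_ ?_ hg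
  · exact ⟨1, 0, one_mem _, by rw [S.toOD.x_zero hpq, mul_one]⟩
  · rintro k l s g hkl hklt hg ⟨u₁, t, hu₁, rfl⟩
    by_cases hsame : k = p ∧ l = q
    · obtain ⟨rfl, rfl⟩ := hsame
      exact ⟨u₁, t + s, hu₁, by rw [mul_assoc, S.add _ _ hkl]⟩
    · by_cases hsame' : k = q.swap ∧ l = p.swap
      · obtain ⟨rfl, rfl⟩ := hsame'
        refine ⟨u₁, t + -s, hu₁, ?_⟩
        rw [S.xbar q.swap p.swap hkl, Sum.swap_swap, Sum.swap_swap, mul_assoc, S.add _ _ hpq]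
      · have key : ∃ y ∈ S.UpW p q, S.x p q t * S.x k l s = y * S.x p q t :=
          ⟨MulAut.conj (S.x p q t) (S.x k l s),
            S.p7_Up_le_UpW p q (S.toOD.Up_cj hpq hlt hkl hklt hsame hsame' t s),
            by rw [MulAut.conj_apply, inv_mul_cancel_right]⟩
        obtain ⟨y, hy, e⟩ := key
        exact ⟨u₁ * y, t, mul_mem hu₁ hy, by rw [mul_assoc, e, mul_assoc]⟩
  · rintro c s g hc hg ⟨u₁, t, hu₁, rfl⟩
    have key : ∃ y ∈ S.UpW p q, S.x p q t * S.y c s = y * S.x p q t :=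
      ⟨MulAut.conj (S.x p q t) (S.y c s), S.UpW_cj_y hpq hlt hq hc t s,
        by rw [MulAut.conj_apply, inv_mul_cancel_right]⟩
    obtain ⟨y, hy, e⟩ := key
    exact ⟨u₁ * y, t, mul_mem hu₁ hy, by rw [mul_assoc, e, mul_assoc]⟩

theorem UpW_conj (hm : 3 ≤ m) (H : S.P4Hyp) {i j : Fin m} (hij : j.val = i.val + 1) {v : K}
    (hv : v ≠ 0) {u₁ : Γ} (hu₁ : u₁ ∈ S.UpW (Sum.inl i) (Sum.inl j)) :
    MulAut.conj (S.w (Sum.inl i) (Sum.inl j) v) u₁ ∈ S.UtW := by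
  obtain ⟨hpq, hlt, hsimp⟩ := isSimp_A (n := m) hij
  refine S.XW_induction_left
    (P := fun u₁ => MulAut.conj (S.w (Sum.inl i) (Sum.inl j) v) u₁ ∈ S.UtW) ?_ ?_ ?_ hu₁
  · rw [map_one]
    exact one_mem _
  · rintro k l s g hkl ⟨hklt, hsame, hsame'⟩ hg ih
    rw [map_mul, S.toOD.w_conj hpq hv hm hkl]
    exact mul_mem (S.x_mem_UtW (OD.Rt_sD hkl) (hsimp k l hkl hklt hsame hsame') _) ih
  · rintro c s g hc hg ih
    rw [map_mul, H.w_conj_y hpq hv]
    refine mul_mem (S.y_mem_UtW' ?_ _) ih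
    rcases c with x | x
    · rw [sD_ll_l]
      exact (Equiv.swap i j x).isLt
    · exfalso
      simp only [ord] at hc
      have := x.isLt
      omega

/-- the set of the products `u w u'`. -/
def BrW : Set Γ := {g | ∃ u ∈ S.UtW, ∃ w ∈ S.WtW, ∃ u' ∈ S.UtW, g = u * w * u'}

theorem one_mem_BrW : (1 : Γ) ∈ S.BrW :=
  ⟨1, one_mem _, 1, one_mem _, 1, one_mem _, by rw [mul_one, mul_one]⟩

theorem BrW_ut_mul {a g : Γ} (ha : a ∈ S.UtW) (hg : g ∈ S.BrW) : a * g ∈ S.BrW := by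
  obtain ⟨u, hu, w, hw, u', hu', rfl⟩ := hg
  exact ⟨a * u, mul_mem ha hu, w, hw, u', hu', by simp only [mul_assoc]⟩

theorem BrW_w_mul (hm : 3 ≤ m) (H : S.P4Hyp) {i j : Fin m} (hij : j.val = i.val + 1) {v : K}
    (hv : v ≠ 0) {g : Γ} (hg : g ∈ S.BrW) : S.w (Sum.inl i) (Sum.inl j) v * g ∈ S.BrW := by
  have hs := isSimp_A (n := m) hij
  obtain ⟨p, hp⟩ : ∃ p : Idx m, p = Sum.inl i := ⟨_, rfl⟩
  obtain ⟨q, hq'⟩ : ∃ q : Idx m, q = Sum.inl j := ⟨_, rfl⟩
  have hu₂' := fun {u₁ : Γ} (h : u₁ ∈ S.UpW (Sum.inl i) (Sum.inl j)) => S.UpW_conj hm H hij hv h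
  have hq : ord (Sum.inl j : Idx m) < m := j.isLt
  rw [← hp] at hs hu₂' ⊢
  rw [← hq'] at hs hu₂' hq ⊢
  have hpq : Rt p q := hs.1
  have hlt : ord p < ord q := hs.2.1
  obtain ⟨u, hu, wn, hwn, u', hu', rfl⟩ := hg
  obtain ⟨u₁, t, hu₁, rfl⟩ := S.UtW_split hs hq hu
  obtain ⟨σ, a, τ, hM⟩ := S.exists_monW_of_mem_WtW_of hm H hwn
  have hw : S.w p q v ∈ S.WtW := S.w_mem_WtW hpq hv
  have hu₂ := hu₂' hu₁
  have e0 : S.w p q v * u₁ = MulAut.conj (S.w p q v) u₁ * S.w p q v := by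
    rw [MulAut.conj_apply, inv_mul_cancel_right]
  have hσrt : Rt (σ⁻¹ p) (σ⁻¹ q) := hM.inv.rt hpq
  have hσne : ord (σ⁻¹ p) ≠ ord (σ⁻¹ q) := fun e => hσrt.1 (ord_injective e)
  rcases lt_or_gt_of_ne hσne with hcase | hcase
  · -- the root stays positive
    obtain ⟨c', e1⟩ := hM.x_mul' hpq t
    refine ⟨MulAut.conj (S.w p q v) u₁, hu₂, S.w p q v * wn, mul_mem hw hwn,
      S.x (σ⁻¹ p) (σ⁻¹ q) c' * u', mul_mem (S.x_mem_UtW hσrt hcase _) hu', ?_⟩
    calc S.w p q v * (u₁ * S.x p q t * wn * u')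
        = (S.w p q v * u₁) * (S.x p q t * wn) * u' := by simp only [mul_assoc]
      _ = _ := by rw [e0, e1]; simp only [mul_assoc]
  · by_cases ht : t = 0
    · subst ht
      refine ⟨MulAut.conj (S.w p q v) u₁, hu₂, S.w p q v * wn, mul_mem hw hwn, u', hu', ?_⟩
      rw [S.toOD.x_zero hpq, mul_one]
      calc S.w p q v * (u₁ * wn * u') = (S.w p q v * u₁) * wn * u' := by simp only [mul_assoc]
        _ = _ := by rw [e0]; simp only [mul_assoc]
    · have e1 : S.w p q v * S.x p q t = S.x q p (cD p q v p * (cD p q v q)⁻¹ * t) * S.w p q v := by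
        have := S.toOD.w_conj hpq hv hm hpq t
        rw [sD_k hpq, sD_l hpq] at this
        rw [← this, MulAut.conj_apply, inv_mul_cancel_right]
      have hs' : cD p q v p * (cD p q v q)⁻¹ * t ≠ 0 :=
        mul_ne_zero (mul_ne_zero (cD_ne_zero p q hv p) (inv_ne_zero (cD_ne_zero p q hv q))) ht
      obtain ⟨s, hsdef⟩ : ∃ s : K, s = cD p q v p * (cD p q v q)⁻¹ * t := ⟨_, rfl⟩
      rw [← hsdef] at e1 hs'
      have e2 := S.toOD.x_neg_eq hpq hs'
      have hM₁ := (S.monW_w_of hm H hpq hv).mul hM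
      obtain ⟨c', e3⟩ := hM₁.x_mul' hpq s⁻¹
      have e4 : (sD p q * σ)⁻¹ p = σ⁻¹ q := by
        rw [mul_inv_rev, Equiv.Perm.mul_apply]
        congr 1
        rw [Equiv.Perm.inv_eq_iff_eq, sD_l hpq]
      have e5 : (sD p q * σ)⁻¹ q = σ⁻¹ p := by
        rw [mul_inv_rev, Equiv.Perm.mul_apply]
        congr 1
        rw [Equiv.Perm.inv_eq_iff_eq, sD_k hpq]
      rw [e4, e5] at e3
      refine ⟨MulAut.conj (S.w p q v) u₁ * S.x p q s⁻¹, mul_mem hu₂ (S.x_mem_UtW hpq hlt _),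
        S.w p q (-s⁻¹) * (S.w p q v * wn),
        mul_mem (S.w_mem_WtW hpq (neg_ne_zero.mpr (inv_ne_zero hs'))) (mul_mem hw hwn),
        S.x (σ⁻¹ q) (σ⁻¹ p) c' * u', mul_mem (S.x_mem_UtW hσrt.symm hcase _) hu', ?_⟩
      calc S.w p q v * (u₁ * S.x p q t * wn * u')
          = (S.w p q v * u₁) * (S.w p q v)⁻¹ * (S.w p q v * S.x p q t) * wn * u' := by group
        _ = MulAut.conj (S.w p q v) u₁ * S.x p q s⁻¹ * S.w p q (-s⁻¹) *
              (S.x p q s⁻¹ * (S.w p q v * wn)) * u' := by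
            rw [e0, e1, e2]; group
        _ = _ := by rw [e3]; simp only [mul_assoc]

/-! ### the short simple root `ε_p`, `p = inl (m - 1)` -/

/-- the positive root elements other than those of the short root `ε_p`. -/
def UpSW (p : Idx m) : Subgroup Γ :=
  S.XW (fun k l => ord k < ord l) (fun a => ord a < m ∧ a ≠ p)

theorem UpSW_le_UtW (p : Idx m) : S.UpSW p ≤ S.UtW := by
  rw [S.UtW_eq_XW]
  exact S.XW_mono (fun i j _ h => h) (fun a h => h.1)

theorem UpSW_cj_x_a {p k : Idx m} (hp : ord p + 1 = m) (hkp : Rt k p) (hlt : ord k < ord p)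
    (t : W) (s : K) : MulAut.conj (S.y p t) (S.x k p s) ∈ S.UpSW p := by
  have o1 := ord_swap p
  rw [S.cj_yx hkp]
  exact mul_mem (mul_mem (S.x_mem_XW hkp.swap_right (by omega) _)
    (S.y_mem_XW ⟨by omega, hkp.1⟩ _)) (S.x_mem_XW hkp hlt _)

theorem UpSW_cj_x {p k l : Idx m} (hp : ord p + 1 = m) (hkl : Rt k l) (hlt : ord k < ord l)
    (t : W) (s : K) : MulAut.conj (S.y p t) (S.x k l s) ∈ S.UpSW p := by
  have o1 := ord_swap p
  have o2 := ord_swap k
  have o3 := ord_swap l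
  have o4 := ord_lt l
  by_cases h1 : l = p
  · subst h1
    exact S.UpSW_cj_x_a hp hkl hlt t s
  by_cases h2 : k = p.swap
  · subst h2
    rw [S.xbar p.swap l hkl, Sum.swap_swap]
    have hlp : Rt l.swap p := by
      have := hkl.bar
      rwa [Sum.swap_swap] at this
    exact S.UpSW_cj_x_a hp hlp (by omega) t (-s)
  · rw [S.cj_yx_comm hkl (fun e => h1 e.symm) (fun e => h2 (by rw [e, Sum.swap_swap]))]
    exact S.x_mem_XW hkl hlt s

theorem UpSW_cj_y {p c : Idx m} (hp : ord p + 1 = m) (hc : ord c < m) (hcp : c ≠ p) (t s : W) :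
    MulAut.conj (S.y p t) (S.y c s) ∈ S.UpSW p := by
  have o1 := ord_swap c
  have hpc : Rt p c := by
    refine ⟨fun e => hcp e.symm, fun e => ?_⟩
    rw [e] at hp
    omega
  rw [S.cj_yy hpc]
  exact mul_mem (S.x_mem_XW hpc.swap_right (by omega) _) (S.y_mem_XW ⟨hc, hcp⟩ _)

theorem UtW_splitS {p : Idx m} (hp : ord p + 1 = m) {g : Γ} (hg : g ∈ S.UtW) :
    ∃ (u₁ : Γ) (t : W), u₁ ∈ S.UpSW p ∧ g = u₁ * S.y p t := by
  rw [S.UtW_eq_XW] at hg
  refine S.XW_induction_right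
    (P := fun g => ∃ (u₁ : Γ) (t : W), u₁ ∈ S.UpSW p ∧ g = u₁ * S.y p t) ?_ ?_ ?_ hg
  · exact ⟨1, 0, one_mem _, by rw [S.y_zero, mul_one]⟩
  · rintro k l s g hkl hklt hg ⟨u₁, t, hu₁, rfl⟩
    have key : ∃ y ∈ S.UpSW p, S.y p t * S.x k l s = y * S.y p t :=
      ⟨MulAut.conj (S.y p t) (S.x k l s), S.UpSW_cj_x hp hkl hklt t s,
        by rw [MulAut.conj_apply, inv_mul_cancel_right]⟩
    obtain ⟨y, hy, e⟩ := key
    exact ⟨u₁ * y, t, mul_mem hu₁ hy, by rw [mul_assoc, e, mul_assoc]⟩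
  · rintro c s g hc hg ⟨u₁, t, hu₁, rfl⟩
    by_cases hcp : c = p
    · subst hcp
      exact ⟨u₁, t + s, hu₁, by rw [mul_assoc, S.yadd]⟩
    · have key : ∃ y ∈ S.UpSW p, S.y p t * S.y c s = y * S.y p t :=
        ⟨MulAut.conj (S.y p t) (S.y c s), S.UpSW_cj_y hp hc hcp t s,
          by rw [MulAut.conj_apply, inv_mul_cancel_right]⟩
      obtain ⟨y, hy, e⟩ := key
      exact ⟨u₁ * y, t, mul_mem hu₁ hy, by rw [mul_assoc, e, mul_assoc]⟩

theorem UpSW_conj (H : S.P4Hyp) {p : Idx m} (hp : ord p + 1 = m) {v : W} (hv : N v ≠ 0) {u₁ : Γ}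
    (hu₁ : u₁ ∈ S.UpSW p) : MulAut.conj (S.ws p v) u₁ ∈ S.UtW := by
  have hM := S.monW_ws_of H p hv
  refine S.XW_induction_left (P := fun u₁ => MulAut.conj (S.ws p v) u₁ ∈ S.UtW) ?_ ?_ ?_ hu₁
  · rw [map_one]
    exact one_mem _
  · rintro k l s g hkl hklt hg ih
    rw [map_mul, hM.conj_x hkl]
    exact mul_mem (S.x_mem_UtW (hM.rt hkl) (p7w_ord_sB_lt hp hkl hklt) _) ih
  · rintro c s g ⟨hc, hcp⟩ hg ih
    rw [map_mul, hM.conj_y]
    have hcp' : c ≠ p.swap := by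
      intro e
      rw [e, ord_swap] at hc
      omega
    rw [sB_oth hcp hcp']
    exact mul_mem (S.y_mem_UtW' hc _) ih

theorem BrW_ws_mul (hm : 3 ≤ m) (hani : ∀ w : W, N w = 0 → w = 0) (H : S.P4Hyp) {p : Idx m}
    (hp : ord p + 1 = m) {v : W} (hv : N v ≠ 0) {g : Γ} (hg : g ∈ S.BrW) : S.ws p v * g ∈ S.BrW := by
  have o1 := ord_swap p
  have hpm : ord p < m := by omega
  obtain ⟨u, hu, wn, hwn, u', hu', rfl⟩ := hg
  obtain ⟨u₁, t, hu₁, rfl⟩ := S.UtW_splitS hp hu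
  obtain ⟨σ, a, τ, hM⟩ := S.exists_monW_of_mem_WtW_of hm H hwn
  have hw : S.ws p v ∈ S.WtW := S.ws_mem_WtW p hv
  have hu₂ := S.UpSW_conj H hp hv hu₁
  have e0 : S.ws p v * u₁ = MulAut.conj (S.ws p v) u₁ * S.ws p v := by
    rw [MulAut.conj_apply, inv_mul_cancel_right]
  by_cases hcase : ord (σ⁻¹ p) < m
  · -- the root stays positive
    obtain ⟨c', e1⟩ := hM.y_mul' p t
    refine ⟨MulAut.conj (S.ws p v) u₁, hu₂, S.ws p v * wn, mul_mem hw hwn,
      S.y (σ⁻¹ p) c' * u', mul_mem (S.y_mem_UtW' hcase _) hu', ?_⟩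
    calc S.ws p v * (u₁ * S.y p t * wn * u')
        = (S.ws p v * u₁) * (S.y p t * wn) * u' := by simp only [mul_assoc]
      _ = _ := by rw [e0, e1]; simp only [mul_assoc]
  · by_cases ht : t = 0
    · subst ht
      refine ⟨MulAut.conj (S.ws p v) u₁, hu₂, S.ws p v * wn, mul_mem hw hwn, u', hu', ?_⟩
      rw [S.y_zero, mul_one]
      calc S.ws p v * (u₁ * wn * u') = (S.ws p v * u₁) * wn * u' := by simp only [mul_assoc]
        _ = _ := by rw [e0]; simp only [mul_assoc]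
    · have hMw := S.monW_ws_of H p hv
      have e1 : S.ws p v * S.y p t = S.y p.swap (cW N p v p • rWe N v hv t) * S.ws p v := by
        have := hMw.mul_y p t
        rwa [sB_a] at this
      obtain ⟨s, hsdef⟩ : ∃ s : W, s = cW N p v p • rWe N v hv t := ⟨_, rfl⟩
      have hs0 : s ≠ 0 := by
        rw [hsdef]
        intro e
        rcases smul_eq_zero.mp e with e' | e'
        · exact cW_ne_zero p hv p e'
        · exact ht ((LinearEquiv.map_eq_zero_iff _).mp e')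
      have hs' : N s ≠ 0 := fun e => hs0 (hani s e)
      rw [← hsdef] at e1
      obtain ⟨v', hv'def⟩ : ∃ v' : W, v' = (N s)⁻¹ • s := ⟨_, rfl⟩
      have hv' : N v' ≠ 0 := by
        rw [hv'def, QuadraticMap.map_smul, smul_eq_mul]
        exact mul_ne_zero (mul_ne_zero (inv_ne_zero hs') (inv_ne_zero hs')) hs'
      have e2 := S.y_neg_eq_of p hs'
      rw [← hv'def] at e2
      have hM₁ := hMw.mul hM
      obtain ⟨c', e3⟩ := hM₁.y_mul' p (-v')
      have e4 : (sB p * σ)⁻¹ p = (σ⁻¹ p).swap := by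
        rw [mul_inv_rev, Equiv.Perm.mul_apply]
        have e5 : (sB p)⁻¹ p = p.swap := by
          rw [Equiv.Perm.inv_eq_iff_eq, sB_abar]
        rw [e5, hM.inv.sigma_swap]
      rw [e4] at e3
      have hpos : ord (σ⁻¹ p).swap < m := by
        have := ord_swap (σ⁻¹ p)
        have := ord_lt (σ⁻¹ p)
        omega
      refine ⟨MulAut.conj (S.ws p v) u₁ * S.y p (-v'), mul_mem hu₂ (S.y_mem_UtW' hpm _),
        S.ws p v' * (S.ws p v * wn),
        mul_mem (S.ws_mem_WtW p hv') (mul_mem hw hwn),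
        S.y (σ⁻¹ p).swap c' * u', mul_mem (S.y_mem_UtW' hpos _) hu', ?_⟩
      calc S.ws p v * (u₁ * S.y p t * wn * u')
          = (S.ws p v * u₁) * (S.ws p v)⁻¹ * (S.ws p v * S.y p t) * wn * u' := by group
        _ = MulAut.conj (S.ws p v) u₁ * S.y p (-v') * S.ws p v' *
              (S.y p (-v') * (S.ws p v * wn)) * u' := by
            rw [e0, e1, e2]; group
        _ = _ := by rw [e3]; simp only [mul_assoc]

/-! ### the stabiliser of the set of the products `u w u'` -/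

/-- the elements whose left multiplication preserves the set of the products `u w u'`. -/
def BrStabW : Subgroup Γ where
  carrier := {a | (∀ g ∈ S.BrW, a * g ∈ S.BrW) ∧ ∀ g ∈ S.BrW, a⁻¹ * g ∈ S.BrW}
  one_mem' := by
    refine ⟨fun g hg => ?_, fun g hg => ?_⟩
    · rw [one_mul]; exact hg
    · rw [inv_one, one_mul]; exact hg
  mul_mem' := by
    rintro a b ⟨ha1, ha2⟩ ⟨hb1, hb2⟩
    refine ⟨fun g hg => ?_, fun g hg => ?_⟩
    · rw [mul_assoc]; exact ha1 _ (hb1 _ hg)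
    · rw [mul_inv_rev, mul_assoc]; exact hb2 _ (ha2 _ hg)
  inv_mem' := by
    rintro a ⟨ha1, ha2⟩
    refine ⟨ha2, fun g hg => ?_⟩
    rw [inv_inv]; exact ha1 g hg

theorem UtW_le_BrStabW : S.UtW ≤ S.BrStabW := by
  intro a ha
  exact ⟨fun g hg => S.BrW_ut_mul ha hg, fun g hg => S.BrW_ut_mul (inv_mem ha) hg⟩

theorem w_mem_BrStabW (hm : 3 ≤ m) (H : S.P4Hyp) {i j : Fin m} (hij : j.val = i.val + 1) {v : K}
    (hv : v ≠ 0) : S.w (Sum.inl i) (Sum.inl j) v ∈ S.BrStabW := by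
  refine ⟨fun g hg => S.BrW_w_mul hm H hij hv hg, fun g hg => ?_⟩
  rw [S.toOD.w_inv (isSimp_A (n := m) hij).1]
  exact S.BrW_w_mul hm H hij (neg_ne_zero.mpr hv) hg

theorem ws_mem_BrStabW (hm : 3 ≤ m) (hani : ∀ w : W, N w = 0 → w = 0) (H : S.P4Hyp) {p : Idx m}
    (hp : ord p + 1 = m) {v : W} (hv : N v ≠ 0) : S.ws p v ∈ S.BrStabW := by
  refine ⟨fun g hg => S.BrW_ws_mul hm hani H hp hv hg, fun g hg => ?_⟩
  rw [S.ws_inv]
  exact S.BrW_ws_mul hm hani H hp (by rw [QuadraticMap.map_neg]; exact hv) hg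

/-- the long root elements of the pair `(i, j)` lie in the subgroup `M`. -/
def RInW (M : Subgroup Γ) (i j : Idx m) : Prop := Rt i j ∧ ∀ t : K, S.x i j t ∈ M

/-- the short root elements of the index `a` lie in the subgroup `M`. -/
def YInW (M : Subgroup Γ) (a : Idx m) : Prop := ∀ w : W, S.y a w ∈ M

variable {S}

theorem MonW.rinW {g : Γ} {σ : Equiv.Perm (Idx m)} {a : Idx m → K} {τ : W ≃ₗ[K] W} (h : S.MonW g σ a τ)
    {M : Subgroup Γ} (hg : g ∈ M) {i j : Idx m} (hij : S.RInW M i j) : S.RInW M (σ i) (σ j) := by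
  refine ⟨h.rt hij.1, fun t => ?_⟩
  have e := h.conj_x hij.1 ((a i * (a j)⁻¹)⁻¹ * t)
  have hne : a i * (a j)⁻¹ ≠ 0 := mul_ne_zero (h.1 i) (inv_ne_zero (h.1 j))
  rw [mul_inv_cancel_left₀ hne] at e
  rw [← e, MulAut.conj_apply]
  exact mul_mem (mul_mem hg (hij.2 _)) (inv_mem hg)

theorem MonW.yinW {g : Γ} {σ : Equiv.Perm (Idx m)} {a : Idx m → K} {τ : W ≃ₗ[K] W} (h : S.MonW g σ a τ)
    {M : Subgroup Γ} (hg : g ∈ M) {i : Idx m} (hi : S.YInW M i) : S.YInW M (σ i) := by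
  intro w
  have e := h.conj_y i ((a i)⁻¹ • τ.symm w)
  rw [map_smul, LinearEquiv.apply_symm_apply, smul_smul, mul_inv_cancel₀ (h.1 i), one_smul] at e
  rw [← e, MulAut.conj_apply]
  exact mul_mem (mul_mem hg (hi _)) (inv_mem hg)

variable (S)

theorem rinW_pos {i j : Idx m} (hij : Rt i j) (hlt : ord i < ord j) : S.RInW S.BrStabW i j :=
  ⟨hij, fun t => S.UtW_le_BrStabW (S.x_mem_UtW hij hlt t)⟩

theorem rinW_ll_lower (hm : 3 ≤ m) (H : S.P4Hyp) :
    ∀ (d : ℕ) (i j : Fin m), i.val = j.val + d + 1 →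
      S.RInW S.BrStabW (Sum.inl i) (Sum.inl j) := by
  intro d
  induction d with
  | zero =>
    intro i j hij
    have hs : IsSimp (Sum.inl j : Idx m) (Sum.inl i) := isSimp_A (by omega)
    have hw := S.w_mem_BrStabW hm H (i := j) (j := i) (by omega) (one_ne_zero (α := K))
    have h := (S.monW_w_of hm H hs.1 (one_ne_zero (α := K))).rinW hw (S.rinW_pos hs.1 hs.2.1)
    rwa [sD_k hs.1, sD_l hs.1] at h
  | succ d ih =>
    intro i j hij
    have hi : i.val - 1 < m := by omega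
    have hs : IsSimp (Sum.inl ⟨i.val - 1, hi⟩ : Idx m) (Sum.inl i) := isSimp_A (by simp only; omega)
    have hw := S.w_mem_BrStabW hm H (i := ⟨i.val - 1, hi⟩) (j := i) (by simp only; omega)
      (one_ne_zero (α := K))
    have h := (S.monW_w_of hm H hs.1 (one_ne_zero (α := K))).rinW hw
      (ih ⟨i.val - 1, hi⟩ j (by simp only; omega))
    have hj : Oth (Sum.inl ⟨i.val - 1, hi⟩ : Idx m) (Sum.inl i) (Sum.inl j) := by
      refine ⟨fun e => ?_, fun e => ?_, by simp, by simp⟩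
      · have := congrArg Fin.val (Sum.inl.inj e)
        simp only at this
        omega
      · have := congrArg Fin.val (Sum.inl.inj e)
        omega
    rwa [sD_k hs.1, sD_oth hj] at h

theorem rinW_ll (hm : 3 ≤ m) (H : S.P4Hyp) {i j : Fin m} (hij : i ≠ j) :
    S.RInW S.BrStabW (Sum.inl i) (Sum.inl j) := by
  have hrt : Rt (Sum.inl i : Idx m) (Sum.inl j) := ⟨fun e => hij (Sum.inl.inj e), by simp⟩
  rcases lt_or_gt_of_ne hij with h | h
  · exact S.rinW_pos hrt (Fin.lt_def.mp h)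
  · have h' := Fin.lt_def.mp h
    exact S.rinW_ll_lower hm H (i.val - j.val - 1) i j (by omega)

theorem w_ll_mem_W (hm : 3 ≤ m) (H : S.P4Hyp) {i j : Fin m} (hij : i ≠ j) (v : K) :
    S.w (Sum.inl i) (Sum.inl j) v ∈ S.BrStabW := by
  unfold OD.w
  exact mul_mem (mul_mem ((S.rinW_ll hm H hij).2 _) ((S.rinW_ll hm H hij.symm).2 _))
    ((S.rinW_ll hm H hij).2 _)

theorem yinW_pos (i : Fin m) : S.YInW S.BrStabW (Sum.inl i) :=
  fun w => S.UtW_le_BrStabW (S.y_mem_UtW i w)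

theorem yinW_neg (hm : 3 ≤ m) (hani : ∀ w : W, N w = 0 → w = 0) (H : S.P4Hyp) {v₀ : W}
    (hv₀ : N v₀ ≠ 0) (i : Fin m) : S.YInW S.BrStabW (Sum.inr i) := by
  have h1 : m - 1 < m := by omega
  have hp : ord (Sum.inl ⟨m - 1, h1⟩ : Idx m) + 1 = m := by
    simp only [ord]
    omega
  have hw := S.ws_mem_BrStabW hm hani H hp hv₀
  have h0 := (S.monW_ws_of H (Sum.inl ⟨m - 1, h1⟩) hv₀).yinW hw
    (S.yinW_pos ⟨m - 1, h1⟩)
  rw [sB_a, Sum.swap_inl] at h0
  by_cases hi : i = ⟨m - 1, h1⟩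
  · rw [hi]
    exact h0
  · have hrt : Rt (Sum.inl i : Idx m) (Sum.inl ⟨m - 1, h1⟩) :=
      ⟨fun e => hi (Sum.inl.inj e), by simp⟩
    have h' := (S.monW_w_of hm H hrt (one_ne_zero (α := K))).yinW (S.w_ll_mem_W hm H hi 1) h0
    rwa [sD_ll_r, Equiv.swap_apply_right] at h'

theorem ws_all_mem_W (hm : 3 ≤ m) (hani : ∀ w : W, N w = 0 → w = 0) (H : S.P4Hyp) {v₀ : W}
    (hv₀ : N v₀ ≠ 0) (a : Idx m) (v : W) : S.ws a v ∈ S.BrStabW := by
  have hy : ∀ (b : Idx m) (w : W), S.y b w ∈ S.BrStabW := by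
    intro b w
    rcases b with i | i
    · exact S.yinW_pos i w
    · exact S.yinW_neg hm hani H hv₀ i w
  unfold ws
  exact mul_mem (mul_mem (hy _ _) (hy _ _)) (hy _ _)

theorem rinW_rl (hm : 3 ≤ m) (hani : ∀ w : W, N w = 0 → w = 0) (H : S.P4Hyp) {v₀ : W}
    (hv₀ : N v₀ ≠ 0) {i j : Fin m} (hij : i ≠ j) :
    S.RInW S.BrStabW (Sum.inr i) (Sum.inl j) := by
  have h := (S.monW_ws_of H (Sum.inl i) hv₀).rinW
    (S.ws_all_mem_W hm hani H hv₀ (Sum.inl i) v₀) (S.rinW_ll hm H hij)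
  have e : sB (Sum.inl i : Idx m) (Sum.inl j) = Sum.inl j :=
    sB_oth (fun e => hij (Sum.inl.inj e).symm) (by simp)
  rwa [sB_a, Sum.swap_inl, e] at h

/-- **the Bruhat decomposition** (given piece P4); `(W, N)` anisotropic and non-zero. -/
theorem bruhatW_of (hm : 3 ≤ m) (hani : ∀ w : W, N w = 0 → w = 0) (H : S.P4Hyp) {v₀ : W}
    (hv₀ : N v₀ ≠ 0) (hgen : Subgroup.closure S.gensW = ⊤) (g : Γ) :
    ∃ u ∈ S.UtW, ∃ w ∈ S.WtW, ∃ u' ∈ S.UtW, g = u * w * u' := by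
  have h1 : S.BrStabW = ⊤ := by
    rw [eq_top_iff, ← hgen, Subgroup.closure_le]
    rintro _ (⟨a, b, t, hab, rfl⟩ | ⟨a, w, rfl⟩)
    · rcases a with i | i <;> rcases b with j | j
      · exact (S.rinW_ll hm H (fun e => hab.1 (by rw [e]))).2 t
      · refine S.UtW_le_BrStabW (S.x_mem_UtW hab ?_ t)
        have := i.isLt
        have := j.isLt
        simp only [ord]
        omega
      · exact (S.rinW_rl hm hani H hv₀ (fun e => hab.2 (by rw [e]; rfl))).2 t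
      · rw [S.xbar _ _ hab]
        exact (S.rinW_ll hm H (fun e => hab.1 (by rw [e]))).2 _
    · rcases a with i | i
      · exact S.yinW_pos i w
      · exact S.yinW_neg hm hani H hv₀ i w
  have h2 : g ∈ S.BrStabW := by rw [h1]; exact Subgroup.mem_top g
  have := h2.1 1 S.one_mem_BrW
  rwa [mul_one] at this

end OW

end Cfsg.Agent.CtRecM
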