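import Mathlib
import Cfsg.Agent.CtRecM.OmC
import Cfsg.Agent.CtRecB.ObG
import Cfsg.Agent.CtRecD.OdD

set_option autoImplicit false
set_option linter.unusedSectionVars false
set_option linter.unusedVariables false

/-!
# S2099, piece P8: the kernel of the homomorphism to the matrices is central, systems `OW` (helper5)

Port of `CtRecB/ObG.lean`.  Here `W = ι → K`; the matrices have the index type `Idx m ⊕ ι` (hyperbolic part first).
The Bruhat decomposition (P7), the statements on `UtW` (P6: diagonal `1` and the `W × W` block is `1`) and the statements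
of piece P4 are hypotheses of `OW.ker_central_W_of`.
The hypothesis `2 ≠ 0` of type `B_m` is replaced by `polar N ≠ 0`.
-/

namespace Cfsg.Agent.CtRecM

open Matrix Cfsg.Agent.CtRecD Cfsg.Agent.CtRecB

variable {m : ℕ} {K : Type*} [Field K] {ι : Type*} [Fintype ι] [DecidableEq ι]

/-- `polar N ≠ 0` gives a basis vector `e_j` and a vector `w` with `B(e_j, w) ≠ 0`. -/
theorem p8w_hpol_of {N : QuadraticForm K (ι → K)} (h : ∃ w w' : ι → K, QuadraticMap.polar N w w' ≠ 0) :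
    ∃ (j : ι) (w : ι → K), QuadraticMap.polar N (Pi.single j 1) w ≠ 0 := by
  obtain ⟨w, w', hww⟩ := h
  by_contra hcon
  push Not at hcon
  apply hww
  have e : ((QuadraticMap.polarBilin N).flip w') = 0 := by
    apply LinearMap.pi_ext
    intro j x
    have e1 : (Pi.single j x : ι → K) = x • (Pi.single j 1 : ι → K) := by
      rw [← Pi.single_smul, smul_eq_mul, mul_one]
    rw [e1, map_smul, LinearMap.zero_apply, LinearMap.flip_apply, QuadraticMap.polarBilin_apply_apply,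
      hcon j w', smul_zero]
  have e2 := congrArg (fun f => f w) e
  simp only [LinearMap.flip_apply, QuadraticMap.polarBilin_apply_apply, LinearMap.zero_apply] at e2
  exact e2

/-- the blocks of the short roots. -/
theorem p8w_block_Y {N : QuadraticForm K (ι → K)} (hm : 2 ≤ m)
    (hpol : ∃ (j : ι) (w : ι → K), QuadraticMap.polar N (Pi.single j 1) w ≠ 0)
    (B : Matrix (Idx m) ι K) (C : Matrix ι (Idx m) K) (s : Idx m → (ι → K) → (ι → K))
    (hrel : ∀ (i : Idx m) (w : ι → K),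
      (Matrix.fromBlocks 1 B C 1 : Matrix (Idx m ⊕ ι) (Idx m ⊕ ι) K) * bYW N i w =
        bYW N i (s i w) * Matrix.fromBlocks 1 B C 1) : (∀ i w, s i w = w) ∧ B = 0 ∧ C = 0 := by
  have hne : ∀ r : Idx m, ∃ i : Idx m, r ≠ i := by
    intro r
    have : (⟨0, by omega⟩ : Fin m) ≠ ⟨1, by omega⟩ := by
      intro e
      have := congrArg Fin.val e
      simp at this
    by_cases h : r = Sum.inl ⟨0, by omega⟩
    · exact ⟨Sum.inl ⟨1, by omega⟩, by rw [h]; intro e; exact this (Sum.inl.inj e)⟩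
    · exact ⟨_, h⟩
  -- the block `B` vanishes
  have hB : ∀ (r : Idx m) (j : ι), B r j = 0 := by
    intro r j
    obtain ⟨i, hri⟩ := hne r
    have e := hrel i (Pi.single j 1)
    unfold bYW at e
    rw [Matrix.fromBlocks_multiply, Matrix.fromBlocks_multiply, Matrix.fromBlocks_inj] at e
    obtain ⟨h11, -, -, -⟩ := e
    have e2 := congrFun (congrFun h11 r) i.swap
    simp [Matrix.mul_apply, Matrix.sub_apply, hri, Ne.symm hri, Pi.single_apply] at e2
    exact e2
  have hB0 : B = 0 := by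
    ext r j
    exact hB r j
  subst hB0
  -- the block `C` vanishes
  obtain ⟨j₀, w₀, hjw⟩ := hpol
  have hC : ∀ (j : ι) (i : Idx m), C j i = 0 := by
    intro j i
    have e := hrel i w₀
    unfold bYW at e
    rw [Matrix.fromBlocks_multiply, Matrix.fromBlocks_multiply, Matrix.fromBlocks_inj] at e
    obtain ⟨-, -, -, h22⟩ := e
    have e2 := congrFun (congrFun h22 j) j₀
    simp [Matrix.mul_apply] at e2
    rcases e2 with e2 | e2
    · exact e2
    · exact absurd e2 hjw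
  have hC0 : C = 0 := by
    ext j i
    exact hC j i
  subst hC0
  refine ⟨fun i w => ?_, rfl, rfl⟩
  have e := hrel i w
  unfold bYW at e
  rw [Matrix.fromBlocks_multiply, Matrix.fromBlocks_multiply, Matrix.fromBlocks_inj] at e
  obtain ⟨-, -, h21, -⟩ := e
  funext j
  have e2 := congrFun (congrFun h21 j) i.swap
  simp at e2
  exact e2.symm

/-- a matrix with diagonal `1` and `W × W` block `1` which intertwines the root matrices monomially is `1`, and the monomial data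
are trivial. -/
theorem p8w_mat {N : QuadraticForm K (ι → K)} (hm : 3 ≤ m)
    (hpol : ∃ (j : ι) (w : ι → K), QuadraticMap.polar N (Pi.single j 1) w ≠ 0)
    (M : Matrix (Idx m ⊕ ι) (Idx m ⊕ ι) K) (σ : Equiv.Perm (Idx m))
    (a : Idx m → K) (s : Idx m → (ι → K) → (ι → K))
    (hrelX : ∀ i j, Rt i j → M * (bXW i j 1 : Matrix (Idx m ⊕ ι) (Idx m ⊕ ι) K) = (bXW (σ i) (σ j) (a i * (a j)⁻¹ * 1) : Matrix (Idx m ⊕ ι) (Idx m ⊕ ι) K) * M)
    (hrelY : ∀ i w, M * bYW N i w = bYW N (σ i) (s i w) * M)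
    (hb1 : ∀ i : Idx m, M (Sum.inl i) (Sum.inl i) = 1)
    (hT : ∀ j j' : ι, M (Sum.inr j) (Sum.inr j') = (1 : Matrix ι ι K) j j') :
    (∀ i, σ i = i) ∧ (∀ i j, Rt i j → a i * (a j)⁻¹ = 1) ∧ (∀ i w, s i w = w) ∧ M = 1 := by
  have hM : M = Matrix.fromBlocks M.toBlocks₁₁ M.toBlocks₁₂ M.toBlocks₂₁ M.toBlocks₂₂ :=
    (Matrix.fromBlocks_toBlocks M).symm
  have hD := p8_block_D hm M.toBlocks₁₁ σ a (by
    intro i j hij
    have e := hrelX i j hij
    rw [hM] at e
    unfold bXW at e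
    rw [Matrix.fromBlocks_multiply, Matrix.fromBlocks_multiply, Matrix.fromBlocks_inj] at e
    obtain ⟨h11, -, -, -⟩ := e
    rw [Matrix.mul_zero, Matrix.zero_mul, add_zero, add_zero] at h11
    exact h11) (fun i => hb1 i)
  obtain ⟨hσ, hcoef, hD1⟩ := hD
  have hT1 : M.toBlocks₂₂ = 1 := by
    ext j j'
    exact hT j j'
  rw [hT1, hD1] at hM
  have hY := p8w_block_Y (by omega) hpol M.toBlocks₁₂ M.toBlocks₂₁ s (by
    intro i w
    have e := hrelY i w
    rw [hσ i] at e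
    rw [← hM]
    exact e)
  obtain ⟨hs, hB, hC⟩ := hY
  refine ⟨hσ, hcoef, hs, ?_⟩
  rw [hM, hB, hC, Matrix.fromBlocks_one]

variable {N : QuadraticForm K (ι → K)} {Γ : Type*} [Group Γ] (S : OW m N Γ)

namespace OW

/-- a monomial element with trivial permutation and coefficients is central. -/
theorem MonW.central (hgen : Subgroup.closure S.gensW = ⊤) {w : Γ} {σ : Equiv.Perm (Idx m)}
    {a : Idx m → K} {τ : (ι → K) ≃ₗ[K] (ι → K)} (hM : S.MonW w σ a τ) (hσ : ∀ i, σ i = i)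
    (ha : ∀ i j, Rt i j → a i * (a j)⁻¹ = 1) (hτ : ∀ i v, a i • τ v = v) (g : Γ) : g * w = w * g := by
  apply S.central_of_commute_gensW hgen
  · intro i j hij t
    have e := hM.mul_x hij t
    rw [hσ i, hσ j, ha i j hij, one_mul] at e
    exact e
  · intro i v
    have e := hM.mul_y i v
    rw [hσ i, hτ i v] at e
    exact e

/-- a monomial element whose matrix has diagonal `1` and `W × W` block `1` is central and in the kernel. -/
theorem monW_ker_of_diag (hm : 3 ≤ m) (hpol : ∃ w w' : ι → K, QuadraticMap.polar N w w' ≠ 0)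
    (hgen : Subgroup.closure S.gensW = ⊤)
    (φ : Γ →* Matrix (Idx m ⊕ ι) (Idx m ⊕ ι) K)
    (hφ : S.IsMatW φ)
    {w : Γ} {σ : Equiv.Perm (Idx m)} {a : Idx m → K} {τ : (ι → K) ≃ₗ[K] (ι → K)}
    (hM : S.MonW w σ a τ) (hb1 : ∀ i : Idx m, φ w (Sum.inl i) (Sum.inl i) = 1)
    (hT : ∀ j j' : ι, φ w (Sum.inr j) (Sum.inr j') = (1 : Matrix ι ι K) j j') :
    (∀ g, g * w = w * g) ∧ φ w = 1 ∧ (∀ i, σ i = i) ∧ (∀ i j, Rt i j → a i * (a j)⁻¹ = 1) ∧
      ∀ i v, a i • τ v = v := by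
  have hrelX : ∀ i j, Rt i j → φ w * (bXW i j 1 : Matrix (Idx m ⊕ ι) (Idx m ⊕ ι) K) = (bXW (σ i) (σ j) (a i * (a j)⁻¹ * 1) : Matrix (Idx m ⊕ ι) (Idx m ⊕ ι) K) * φ w := by
    intro i j hij
    have e := congrArg φ (hM.mul_x hij 1)
    rw [map_mul, map_mul, hφ.x i j hij, hφ.x _ _ (hM.rt hij)] at e
    exact e
  have hrelY : ∀ i v, φ w * bYW N i v = bYW N (σ i) (a i • τ v) * φ w := by
    intro i v
    have e := congrArg φ (hM.mul_y i v)
    rw [map_mul, map_mul, hφ.y, hφ.y] at e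
    exact e
  obtain ⟨hσ, hcoef, hs, h1⟩ :=
    p8w_mat hm (p8w_hpol_of hpol) (φ w) σ a (fun i v => a i • τ v) hrelX hrelY hb1 hT
  exact ⟨hM.central S hgen hσ hcoef hs, h1, hσ, hcoef, hs⟩

/-- **the kernel of the homomorphism to the matrices is central, contained in `W̃` and monomial with trivial permutation**, given the
Bruhat decomposition (P7), the unipotent subgroup (P6) and the monomial action of the Weyl elements (P4). -/
theorem ker_central_W_of (hm : 3 ≤ m) (hpol : ∃ w w' : ι → K, QuadraticMap.polar N w w' ≠ 0)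
    (hgen : Subgroup.closure S.gensW = ⊤)
    (φ : Γ →* Matrix (Idx m ⊕ ι) (Idx m ⊕ ι) K)
    (hφ : S.IsMatW φ) (H : S.P4Hyp)
    (hbruhat : ∀ g : Γ, ∃ u ∈ S.UtW, ∃ w ∈ S.WtW, ∃ u' ∈ S.UtW, g = u * w * u')
    (hdiag : ∀ g ∈ S.UtW, (∀ i : Idx m, φ g (Sum.inl i) (Sum.inl i) = 1) ∧
      ∀ j j' : ι, φ g (Sum.inr j) (Sum.inr j') = (1 : Matrix ι ι K) j j')
    (hinj : ∀ g ∈ S.UtW, φ g = 1 → g = 1) {c : Γ} (hc : φ c = 1) :
    c ∈ S.WtW ∧ (∀ g, g * c = c * g) ∧
      ∃ (a : Idx m → K) (τ : (ι → K) ≃ₗ[K] (ι → K)), S.MonW c 1 a τ ∧ ∀ i v, a i • τ v = v := by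
  obtain ⟨u, hu, wn, hwn, u', hu', rfl⟩ := hbruhat c
  obtain ⟨σ, a, τ, hM⟩ := S.exists_monW_of_mem_WtW_of hm H hwn
  have hv : u⁻¹ * u'⁻¹ ∈ S.UtW := mul_mem (inv_mem hu) (inv_mem hu')
  have hw : φ wn = φ (u⁻¹ * u'⁻¹) := by
    have e : wn = u⁻¹ * (u * wn * u') * u'⁻¹ := by group
    rw [e, map_mul, map_mul, hc, mul_one, ← map_mul]
  have hb1 : ∀ i : Idx m, φ wn (Sum.inl i) (Sum.inl i) = 1 := by
    intro i
    rw [hw]
    exact (hdiag _ hv).1 i
  have hT : ∀ j j' : ι, φ wn (Sum.inr j) (Sum.inr j') = (1 : Matrix ι ι K) j j' := by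
    intro j j'
    rw [hw]
    exact (hdiag _ hv).2 j j'
  obtain ⟨hcen, hw1, hσ, _, hτ⟩ := S.monW_ker_of_diag hm hpol hgen φ hφ hM hb1 hT
  have e1 : u * wn * u' = wn * (u * u') := by
    rw [hcen u, mul_assoc]
  have e2 : φ (u * u') = 1 := by
    rw [e1, map_mul, hw1, one_mul] at hc
    exact hc
  have e3 := hinj _ (mul_mem hu hu') e2
  rw [e1, e3, mul_one]
  exact ⟨hwn, hcen, a, τ, hM.congr (Equiv.ext hσ) (fun _ => rfl) (fun _ => rfl), hτ⟩

end OW

end Cfsg.Agent.CtRecM
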