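import Mathlib
import Cfsg.Agent.CtRecM.Defs2
import Cfsg.Agent.Helper8.OmegaSimple
import Cfsg.Agent.Helper8.StdForms

set_option autoImplicit false
set_option linter.unusedSectionVars false
set_option linter.unusedVariables false

/-!
# S2099, piece P2 (helper8): `Ω⁻_{2m+2}(K)` is generated by the root elements `bXW`, `bYW`; scalar matrices commuting with them

The matrices `bXW a b t`, `bYW N a w` are the Siegel transformations `ρ_{e_a, t e_b̄}`, `ρ_{e_a, (0, w)}` of the quadratic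
form `∑ x_i y_i + N z`, `N z = z₀² + a z₀ z₁ + b z₁²` anisotropic; the group generated by all Siegel transformations is `Ω`
(`Helper8.OmegaSimple.map_Omega`, finite fields, no restriction on the characteristic).
-/

namespace Cfsg.Agent.CtRecM

open Matrix Cfsg.Agent.CtRecD
open Cfsg.Agent.Helper8.QuadForm Cfsg.Agent.Helper8.OrthOrder Cfsg.Agent.Helper8.Siegel
  Cfsg.Agent.Helper8.SiegelGroup Cfsg.Agent.Helper8.StdForms Cfsg.Agent.Helper8.ReflMatrix
  Cfsg.Agent.Helper8.WittQuad

/-- the index set of the quadratic space of dimension `2m + 2`. -/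
abbrev IdxM (m : ℕ) : Type := Idx m ⊕ Fin 2

variable {m : ℕ} {K : Type*} [Field K] {a b : K}

/-- the vector `(0, w)`. -/
def g2_inrV (m : ℕ) (w : Fin 2 → K) : IdxM m → K := Sum.elim 0 w

theorem g2_inrV_inl (w : Fin 2 → K) (c : Idx m) : g2_inrV m w (Sum.inl c) = 0 := rfl

theorem g2_inrV_inr (w : Fin 2 → K) (j : Fin 2) : g2_inrV m w (Sum.inr j) = w j := rfl

section Forms


/-! ### the standard form on basis vectors -/

theorem g2_polar_N (N : QuadraticForm K (Fin 2 → K))
    (hN : ∀ z : Fin 2 → K, N z = z 0 ^ 2 + a * z 0 * z 1 + b * z 1 ^ 2) (z w : Fin 2 → K) :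
    QuadraticMap.polar N z w = 2 * z 0 * w 0 + a * (z 0 * w 1 + w 0 * z 1) + 2 * b * z 1 * w 1 := by
  unfold QuadraticMap.polar
  rw [hN, hN, hN]
  simp only [Pi.add_apply]
  ring

theorem g2_polar_inl (x : IdxM m → K) (c : Idx m) (s : K) :
    QuadraticMap.polar (minusForm K m a b) x (Pi.single (Sum.inl c) s) = s * x (Sum.inl c.swap) := by
  classical
  rw [polar_minusForm]
  rcases c with c | c
  · simp [Pi.single_apply]
  · simp [Pi.single_apply, mul_comm]

theorem g2_polar_inrV (N : QuadraticForm K (Fin 2 → K))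
    (hN : ∀ z : Fin 2 → K, N z = z 0 ^ 2 + a * z 0 * z 1 + b * z 1 ^ 2) (x : IdxM m → K) (w : Fin 2 → K) :
    QuadraticMap.polar (minusForm K m a b) x (g2_inrV m w) =
      QuadraticMap.polar N (fun j => x (Sum.inr j)) w := by
  classical
  rw [polar_minusForm, g2_polar_N N hN]
  simp only [g2_inrV_inl, g2_inrV_inr, mul_zero, zero_mul, Finset.sum_const_zero, add_zero, zero_add]

theorem g2_Q_inl (c : Idx m) (s : K) : minusForm K m a b (Pi.single (Sum.inl c) s) = 0 := by
  classical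
  rw [minusForm_apply]
  unfold Cfsg.quadFormMinus
  rcases c with c | c <;> simp

theorem g2_Q_inrV (N : QuadraticForm K (Fin 2 → K))
    (hN : ∀ z : Fin 2 → K, N z = z 0 ^ 2 + a * z 0 * z 1 + b * z 1 ^ 2) (w : Fin 2 → K) : minusForm K m a b (g2_inrV m w) = N w := by
  classical
  rw [minusForm_apply, hN]
  unfold Cfsg.quadFormMinus
  simp only [g2_inrV_inl, g2_inrV_inr, mul_zero, Finset.sum_const_zero, zero_add]

theorem g2_polar_e (a' : Idx m) (w : IdxM m → K) :
    QuadraticMap.polar (minusForm K m a b) (Pi.single (Sum.inl a') 1) w = w (Sum.inl a'.swap) := by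
  rw [QuadraticMap.polar_comm, g2_polar_inl, one_mul]

/-! ### the root Siegel transformations generate the Siegel group -/

/-- the Siegel transformations `ρ_{e_a, s e_c}` (`c ≠ a, ā`) and `ρ_{e_a, (0, w)}`. -/
def g2_rootSet (m : ℕ) (K : Type*) [Field K] (a b : K) : Set ↥(Isom (minusForm K m a b)) :=
  {g | (∃ (a' c : Idx m) (s : K), c ≠ a' ∧ c ≠ a'.swap ∧
      g = siegG (minusForm K m a b) (Pi.single (Sum.inl a') 1) (Pi.single (Sum.inl c) s)) ∨
    ∃ (a' : Idx m) (w : Fin 2 → K),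
      g = siegG (minusForm K m a b) (Pi.single (Sum.inl a') 1) (g2_inrV m w)}

/-- the parameters `w ⊥ e_a` whose Siegel transformation at `e_a` is a product of root elements. -/
def g2_A (a b : K) (a' : Idx m) : AddSubgroup (IdxM m → K) where
  carrier := {w | w (Sum.inl a'.swap) = 0 ∧
    siegG (minusForm K m a b) (Pi.single (Sum.inl a') 1) w ∈ Subgroup.closure (g2_rootSet m K a b)}
  zero_mem' := ⟨rfl, by rw [siegG_zero]; exact one_mem _⟩
  add_mem' := by
    rintro w w' ⟨h1, h2⟩ ⟨h1', h2'⟩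
    refine ⟨by rw [Pi.add_apply, h1, h1', add_zero], ?_⟩
    rw [← siegG_mul _ (g2_Q_inl a' 1) (by rw [g2_polar_e, h1]) (by rw [g2_polar_e, h1'])]
    exact mul_mem h2 h2'
  neg_mem' := by
    rintro w ⟨h1, h2⟩
    refine ⟨by rw [Pi.neg_apply, h1, neg_zero], ?_⟩
    rw [← siegG_inv _ (g2_Q_inl a' 1) (by rw [g2_polar_e, h1])]
    exact inv_mem h2

theorem g2_single_inr (j : Fin 2) (s : K) :
    (Pi.single (Sum.inr j) s : IdxM m → K) = g2_inrV m (Pi.single j s) := by
  classical
  funext k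
  rcases k with k | k
  · simp [g2_inrV_inl]
  · rw [g2_inrV_inr]
    by_cases h : k = j
    · subst h; simp
    · simp [h]

theorem g2_single_mem_A (a' : Idx m) (k : IdxM m) (s : K) (hk : k = Sum.inl a'.swap → s = 0) :
    (Pi.single k s : IdxM m → K) ∈ g2_A (m := m) a b a' := by
  classical
  rcases k with c | j
  · by_cases hca' : c = a'.swap
    · subst hca'
      rw [hk rfl, Pi.single_zero]
      exact (g2_A a b a').zero_mem
    · refine ⟨by simp [hca'], ?_⟩
      by_cases hca : c = a'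
      · subst hca
        have h0 := siegE_smul_add (minusForm K m a b) (u := Pi.single (Sum.inl c) (1 : K)) (w := 0)
          (g2_Q_inl c 1) (QuadraticMap.polar_zero_right _ _) s
        have e : (Pi.single (Sum.inl c) s : IdxM m → K)
            = 0 + s • Pi.single (Sum.inl c) (1 : K) := by
          rw [zero_add, ← Pi.single_smul, smul_eq_mul, mul_one]
        have : siegG (minusForm K m a b) (Pi.single (Sum.inl c) 1) (Pi.single (Sum.inl c) s) = 1 := by
          apply Subtype.ext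
          rw [siegG_val, e, h0, siegE_zero]
          rfl
        rw [this]
        exact one_mem _
      · exact Subgroup.subset_closure (Or.inl ⟨a', c, s, hca, hca', rfl⟩)
  · refine ⟨by simp, ?_⟩
    rw [g2_single_inr]
    exact Subgroup.subset_closure (Or.inr ⟨a', _, rfl⟩)

theorem g2_siegG_mem (a' : Idx m) (w : IdxM m → K)
    (hw : QuadraticMap.polar (minusForm K m a b) (Pi.single (Sum.inl a') 1) w = 0) :
    siegG (minusForm K m a b) (Pi.single (Sum.inl a') 1) w ∈
      Subgroup.closure (g2_rootSet m K a b) := by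
  classical
  rw [g2_polar_e] at hw
  have hsum : w = ∑ k, Pi.single k (w k) := (Finset.univ_sum_single w).symm
  have hmem : w ∈ g2_A (m := m) a b a' := by
    rw [hsum]
    apply AddSubgroup.sum_mem
    intro k _
    apply g2_single_mem_A
    intro hk
    rw [hk, hw]
  exact hmem.2

theorem g2_rootSet_le_SG :
    Subgroup.closure (g2_rootSet m K a b) ≤ SG (minusForm K m a b) := by
  rw [Subgroup.closure_le]
  rintro g (⟨a', c, s, hca, hca', rfl⟩ | ⟨a', w, rfl⟩)
  · apply siegG_mem_SG _ (g2_Q_inl a' 1)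
    rw [g2_polar_e]
    classical
    simp [hca']
  · apply siegG_mem_SG _ (g2_Q_inl a' 1)
    rw [g2_polar_e]
    rfl

theorem g2_SG_le (hab : ∀ z₁ z₂ : K, z₁ ^ 2 + a * z₁ * z₂ + b * z₂ ^ 2 = 0 → z₁ = 0 ∧ z₂ = 0) :
    SG (minusForm K m a b) ≤ Subgroup.closure (g2_rootSet m K a b) := by
  classical
  unfold SG SGW
  rw [Subgroup.closure_le]
  rintro g ⟨c, -, w, -, hc, hcw, rfl⟩
  by_cases hc0 : c = 0
  · subst hc0
    rw [siegG_zero_left]
    exact one_mem _
  obtain ⟨d, hd⟩ : ∃ d : Idx m, c (Sum.inl d) ≠ 0 := by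
    by_contra hcon
    push Not at hcon
    apply hc0
    have h0 : c (Sum.inr 0) = 0 ∧ c (Sum.inr 1) = 0 := by
      apply hab
      have h := hc
      rw [minusForm_apply] at h
      unfold Cfsg.quadFormMinus at h
      simpa [hcon] using h
    funext k
    rcases k with k | k
    · exact hcon k
    · fin_cases k
      · exact h0.1
      · exact h0.2
  set Q := minusForm K m a b with hQdef
  set cd : K := c (Sum.inl d) with hcd
  have hmove := sieg_move Q (u := Pi.single (Sum.inl d.swap) (1 : K)) (a := cd⁻¹ • c)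
    (a' := Pi.single (Sum.inl d) (1 : K)) (g2_Q_inl d.swap 1)
    (by rw [QuadraticMap.map_smul, hc, smul_zero, g2_Q_inl])
    (by rw [g2_polar_e, Sum.swap_swap, Pi.smul_apply, smul_eq_mul, inv_mul_cancel₀ hd])
    (by rw [g2_polar_e, Sum.swap_swap, Pi.single_eq_same])
  set h : ↥(Isom Q) := siegG Q (Pi.single (Sum.inl d.swap) 1) (cd⁻¹ • c - Pi.single (Sum.inl d) 1)
    with hh
  have hhmem : h ∈ Subgroup.closure (g2_rootSet m K a b) := g2_siegG_mem d.swap _ hmove.1
  have hhc : (h : (IdxM m → K) ≃ₗ[K] (IdxM m → K)) c = cd • Pi.single (Sum.inl d) (1 : K) := by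
    have e : c = cd • (cd⁻¹ • c) := by rw [smul_smul, mul_inv_cancel₀ hd, one_smul]
    have h1 : (h : (IdxM m → K) ≃ₗ[K] (IdxM m → K)) (cd⁻¹ • c) = Pi.single (Sum.inl d) (1 : K) :=
      hmove.2
    calc (h : (IdxM m → K) ≃ₗ[K] (IdxM m → K)) c
        = (h : (IdxM m → K) ≃ₗ[K] (IdxM m → K)) (cd • (cd⁻¹ • c)) := by rw [← e]
      _ = cd • Pi.single (Sum.inl d) (1 : K) := by rw [map_smul, h1]
  have hconj := siegG_conj Q h c w
  have hpol : QuadraticMap.polar Q (Pi.single (Sum.inl d) (1 : K))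
      ((h : (IdxM m → K) ≃ₗ[K] (IdxM m → K)) w) = 0 := by
    have h1 : QuadraticMap.polar Q ((h : (IdxM m → K) ≃ₗ[K] (IdxM m → K)) c)
        ((h : (IdxM m → K) ≃ₗ[K] (IdxM m → K)) w) = 0 := by
      rw [polar_isometry Q h h.2, hcw]
    rw [hhc, QuadraticMap.polar_smul_left, smul_eq_mul] at h1
    rcases mul_eq_zero.mp h1 with h1 | h1
    · exact absurd h1 hd
    · exact h1
  have hsm : siegG Q (cd • Pi.single (Sum.inl d) (1 : K))
      ((h : (IdxM m → K) ≃ₗ[K] (IdxM m → K)) w)
      = siegG Q (Pi.single (Sum.inl d) (1 : K))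
        (cd • (h : (IdxM m → K) ≃ₗ[K] (IdxM m → K)) w) := by
    apply Subtype.ext
    exact siegE_smul_left Q (g2_Q_inl d 1) hpol cd
  have hfin : siegG Q c w = h⁻¹ * siegG Q (Pi.single (Sum.inl d) (1 : K))
      (cd • (h : (IdxM m → K) ≃ₗ[K] (IdxM m → K)) w) * h := by
    rw [← hsm, ← hhc, ← hconj]
    group
  rw [hfin]
  refine mul_mem (mul_mem (inv_mem hhmem) (g2_siegG_mem d _ ?_)) hhmem
  rw [QuadraticMap.polar_smul_right, hpol, smul_zero]

theorem g2_SG_eq (hab : ∀ z₁ z₂ : K, z₁ ^ 2 + a * z₁ * z₂ + b * z₂ ^ 2 = 0 → z₁ = 0 ∧ z₂ = 0) :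
    SG (minusForm K m a b) = Subgroup.closure (g2_rootSet m K a b) :=
  le_antisymm (g2_SG_le hab) g2_rootSet_le_SG

/-! ### the matrices `bXW`, `bYW` are Siegel transformations -/

theorem g2_bXW_mulVec (a' b' : Idx m) (t : K) (v : IdxM m → K) :
    (bXW (ι := Fin 2) a' b' t).mulVec v =
      sieg (minusForm K m a b) (Pi.single (Sum.inl a') 1) (Pi.single (Sum.inl b'.swap) t) v := by
  classical
  rw [sieg_apply, g2_polar_inl, g2_polar_inl, g2_Q_inl, Sum.swap_swap, one_mul, zero_mul,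
    zero_smul, sub_zero]
  unfold bXW
  have hv : v = Sum.elim (fun i => v (Sum.inl i)) (fun j => v (Sum.inr j)) := by
    funext k; rcases k with k | k <;> rfl
  rw [hv, Matrix.fromBlocks_mulVec]
  funext k
  rcases k with k | k
  · simp [oX, Matrix.add_mulVec, Matrix.sub_mulVec, Matrix.single_mulVec, Function.update_apply,
      Pi.single_apply, eq_comm]
    split_ifs <;> ring
  · simp

theorem g2_bYW_mulVec (N : QuadraticForm K (Fin 2 → K))
    (hN : ∀ z : Fin 2 → K, N z = z 0 ^ 2 + a * z 0 * z 1 + b * z 1 ^ 2) (a' : Idx m) (w : Fin 2 → K) (v : IdxM m → K) :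
    (bYW N a' w).mulVec v =
      sieg (minusForm K m a b) (Pi.single (Sum.inl a') 1) (g2_inrV m w) v := by
  classical
  rw [sieg_apply, g2_polar_inrV N hN, g2_polar_inl, g2_Q_inrV N hN, one_mul]
  unfold bYW
  have hv : v = Sum.elim (fun i => v (Sum.inl i)) (fun j => v (Sum.inr j)) := by
    funext k; rcases k with k | k <;> rfl
  have hpol : QuadraticMap.polar N (fun j => v (Sum.inr j)) w =
      ∑ j : Fin 2, QuadraticMap.polar N (Pi.single j 1) w * v (Sum.inr j) := by
    rw [Fin.sum_univ_two, g2_polar_N N hN, g2_polar_N N hN, g2_polar_N N hN]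
    simp
    ring
  rw [hpol]
  conv_lhs => rw [hv, Matrix.fromBlocks_mulVec]
  funext k
  rcases k with k | k
  · simp [Matrix.sub_mulVec, Matrix.single_mulVec, Function.update_apply,
      Pi.single_apply, eq_comm, Matrix.mulVec, dotProduct, g2_inrV_inl]
    split_ifs <;> ring
  · simp [Matrix.mulVec, dotProduct, g2_inrV_inr]
    ring

/-- explicit form of the action of `bXW`. -/
theorem g2_bXW_mulVec' (a' b' : Idx m) (t : K) (v : IdxM m → K) :
    (bXW (ι := Fin 2) a' b' t).mulVec v =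
      v + (t * v (Sum.inl b')) • Pi.single (Sum.inl a') (1 : K)
        - v (Sum.inl a'.swap) • Pi.single (Sum.inl b'.swap) t := by
  rw [g2_bXW_mulVec (a := (0 : K)) (b := (0 : K)), sieg_apply, g2_polar_inl, g2_polar_inl, g2_Q_inl,
    Sum.swap_swap, one_mul, zero_mul, zero_smul, sub_zero]

/-- explicit form of the action of `bYW`. -/
theorem g2_bYW_mulVec' (N : QuadraticForm K (Fin 2 → K))
    (hN : ∀ z : Fin 2 → K, N z = z 0 ^ 2 + a * z 0 * z 1 + b * z 1 ^ 2)
    (a' : Idx m) (w : Fin 2 → K) (v : IdxM m → K) :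
    (bYW N a' w).mulVec v =
      v + QuadraticMap.polar N (fun j => v (Sum.inr j)) w • Pi.single (Sum.inl a') (1 : K)
        - v (Sum.inl a'.swap) • g2_inrV m w
        - (N w * v (Sum.inl a'.swap)) • Pi.single (Sum.inl a') (1 : K) := by
  rw [g2_bYW_mulVec N hN, sieg_apply, g2_polar_inrV N hN, g2_polar_inl, g2_Q_inrV N hN, one_mul]

/-- the composite `Isom Q ≃ O(Q) ≤ GL`. -/
noncomputable def g2_psi (m : ℕ) (K : Type*) [Field K] (a b : K) :
    ↥(Isom (minusForm K m a b)) →* GL (IdxM m) K :=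
  (Cfsg.isometryGroup K ⇑(minusForm K m a b)).subtype.comp
    (isomEquiv (minusForm K m a b)).symm.toMonoidHom

theorem g2_psi_mulVec (k : ↥(Isom (minusForm K m a b))) (v : IdxM m → K) :
    ((g2_psi m K a b k : GL (IdxM m) K) : Matrix (IdxM m) (IdxM m) K).mulVec v = k.1 v := by
  have h := isomEquiv_apply (minusForm K m a b) ((isomEquiv (minusForm K m a b)).symm k) v
  rw [MulEquiv.apply_symm_apply] at h
  exact h.symm

theorem g2_psi_isomEquiv (g : ↥(Cfsg.isometryGroup K ⇑(minusForm K m a b))) :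
    g2_psi m K a b (isomEquiv (minusForm K m a b) g) = g.1 := by
  show ((isomEquiv (minusForm K m a b)).symm (isomEquiv (minusForm K m a b) g)).1 = g.1
  rw [MulEquiv.symm_apply_apply]

theorem g2_psi_X {a' b' : Idx m} (hab : Rt a' b') (t : K) :
    ((g2_psi m K a b (siegG (minusForm K m a b) (Pi.single (Sum.inl a') 1)
      (Pi.single (Sum.inl b'.swap) t)) : GL (IdxM m) K) : Matrix (IdxM m) (IdxM m) K)
      = bXW a' b' t := by
  classical
  apply matrix_ext
  intro v
  have hne : a'.swap ≠ b'.swap := fun e => hab.1 (Sum.swap_leftInverse.injective e)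
  rw [g2_psi_mulVec, g2_bXW_mulVec (a := a) (b := b), siegG_val, siegE_apply _ (g2_Q_inl a' 1)
    (by rw [g2_polar_e]; simp [hne])]

theorem g2_psi_Y (N : QuadraticForm K (Fin 2 → K))
    (hN : ∀ z : Fin 2 → K, N z = z 0 ^ 2 + a * z 0 * z 1 + b * z 1 ^ 2) (a' : Idx m) (w : Fin 2 → K) :
    ((g2_psi m K a b (siegG (minusForm K m a b) (Pi.single (Sum.inl a') 1)
      (g2_inrV m w)) : GL (IdxM m) K) : Matrix (IdxM m) (IdxM m) K)
      = bYW N a' w := by
  classical
  apply matrix_ext
  intro v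
  rw [g2_psi_mulVec, g2_bYW_mulVec N hN, siegG_val, siegE_apply _ (g2_Q_inl a' 1)
    (by rw [g2_polar_e]; rfl)]

/-! ### the theorems of the piece -/

theorem g2_card_IdxM (m : ℕ) : Fintype.card (IdxM m) = 2 * m + 2 := by
  rw [Fintype.card_sum, Fintype.card_sum, Fintype.card_fin, Fintype.card_fin]
  omega

/-- **`Ω⁻_{2m+2}(K)` is generated by the root elements `bXW a b t`, `bYW N a w`** (finite `K`, any characteristic). -/
theorem omegaMinus_eq_closure [Fintype K] (hm : 3 ≤ m)
    (hab : ∀ z₁ z₂ : K, z₁ ^ 2 + a * z₁ * z₂ + b * z₂ ^ 2 = 0 → z₁ = 0 ∧ z₂ = 0)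
    (N : QuadraticForm K (Fin 2 → K))
    (hN : ∀ z : Fin 2 → K, N z = z 0 ^ 2 + a * z 0 * z 1 + b * z 1 ^ 2) :
    (Cfsg.Omega K (Cfsg.quadFormMinus m K a b)).map
        (Cfsg.isometryGroup K (Cfsg.quadFormMinus m K a b)).subtype =
      Subgroup.closure {g : GL (IdxM m) K |
        (∃ (a' b' : Idx m) (t : K), Rt a' b' ∧ (g : Matrix (IdxM m) (IdxM m) K) = bXW a' b' t) ∨
          ∃ (a' : Idx m) (w : Fin 2 → K), (g : Matrix (IdxM m) (IdxM m) K) = bYW N a' w} := by
  have hQeq : Cfsg.quadFormMinus m K a b = ⇑(minusForm K m a b) :=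
    funext (fun v => (minusForm_apply K m a b v).symm)
  rw [hQeq]
  have hmap := Cfsg.Agent.Helper8.OmegaSimple.map_Omega (minusForm K m a b)
    (minusForm_nondeg K m hab) (by rw [g2_card_IdxM]; omega)
  have h1 : (Cfsg.Omega K ⇑(minusForm K m a b)).map
        (Cfsg.isometryGroup K ⇑(minusForm K m a b)).subtype
      = ((Cfsg.Omega K ⇑(minusForm K m a b)).map (isomEquiv (minusForm K m a b)).toMonoidHom).map
        (g2_psi m K a b) := by
    rw [Subgroup.map_map]
    congr 1
    refine MonoidHom.ext fun g => ?_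
    exact (g2_psi_isomEquiv g).symm
  rw [h1, hmap, g2_SG_eq hab, MonoidHom.map_closure]
  congr 1
  ext g
  constructor
  · rintro ⟨k, (⟨a', c, s, hca, hca', rfl⟩ | ⟨a', w, rfl⟩), rfl⟩
    · left
      have hab' : Rt a' c.swap := by
        refine ⟨fun e => hca' ?_, fun e => hca ?_⟩
        · rw [e, Sum.swap_swap]
        · rw [e, Sum.swap_swap]
      have h := g2_psi_X (a := a) (b := b) hab' s
      rw [Sum.swap_swap] at h
      exact ⟨a', c.swap, s, hab', h⟩
    · right
      exact ⟨a', w, g2_psi_Y N hN a' w⟩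
  · rintro (⟨a', b', t, hab', hg⟩ | ⟨a', w, hg⟩)
    · refine ⟨siegG (minusForm K m a b) (Pi.single (Sum.inl a') 1) (Pi.single (Sum.inl b'.swap) t),
        Or.inl ⟨a', b'.swap, t, fun e => hab'.2 e.symm, fun e => hab'.1 ?_, rfl⟩, ?_⟩
      · exact (Sum.swap_leftInverse.injective e).symm
      · apply Units.ext
        rw [hg]
        exact g2_psi_X hab' t
    · refine ⟨siegG (minusForm K m a b) (Pi.single (Sum.inl a') 1) (g2_inrV m w),
        Or.inr ⟨a', w, rfl⟩, ?_⟩
      apply Units.ext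
      rw [hg]
      exact g2_psi_Y N hN a' w

end Forms

end Cfsg.Agent.CtRecM
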