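import Mathlib
import Cfsg.Agent.CtRecM.OmGen
import Cfsg.Agent.CtRecM.OmQF

set_option autoImplicit false
set_option linter.unusedSectionVars false
set_option linter.unusedVariables false

/-!
# S2099, piece P2, second part (helper8): the centre of `Ω⁻_{2m+2}(K)`

A matrix commuting with all root matrices `bXW a b 1`, `bYW N a w` is scalar; hence the centre of `Ω⁻` consists of the
elements with matrix `1` or `-1`.  Also the generation theorem in the form with `minusN a b` and `[Finite K]`.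
-/

namespace Cfsg.Agent.CtRecM

open Matrix Cfsg.Agent.CtRecD
open Cfsg.Agent.Helper8.QuadForm Cfsg.Agent.Helper8.OrthOrder Cfsg.Agent.Helper8.Siegel
  Cfsg.Agent.Helper8.SiegelGroup Cfsg.Agent.Helper8.StdForms Cfsg.Agent.Helper8.ReflMatrix
  Cfsg.Agent.Helper8.WittQuad

variable {m : ℕ} {K : Type*} [Field K] {a b : K}

/-- **generation of `Ω⁻`**, in the form with `minusN a b` and `[Finite K]`. -/
theorem omegaMinus_eq_closure_of_finite [Finite K] (hm : 3 ≤ m)
    (hab : ∀ z₁ z₂ : K, z₁ ^ 2 + a * z₁ * z₂ + b * z₂ ^ 2 = 0 → z₁ = 0 ∧ z₂ = 0) :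
    (Cfsg.Omega K (Cfsg.quadFormMinus m K a b)).map
        (Cfsg.isometryGroup K (Cfsg.quadFormMinus m K a b)).subtype =
      Subgroup.closure {g : GL (Idx m ⊕ Fin 2) K |
        (∃ (a' b' : Idx m) (t : K), Rt a' b' ∧
            (g : Matrix (Idx m ⊕ Fin 2) (Idx m ⊕ Fin 2) K) = bXW a' b' t) ∨
          ∃ (a' : Idx m) (w : Fin 2 → K),
            (g : Matrix (Idx m ⊕ Fin 2) (Idx m ⊕ Fin 2) K) = bYW (minusN a b) a' w} := by
  have := Fintype.ofFinite K
  exact omegaMinus_eq_closure hm hab (minusN a b) (minusN_apply a b)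

/-! ### matrices commuting with the root matrices -/

theorem g2_exists_fin_ne (hm : 3 ≤ m) (i i₀ : Fin m) : ∃ j : Fin m, j ≠ i ∧ j ≠ i₀ := by
  classical
  by_contra h
  push Not at h
  have huniv : ({i, i₀} : Finset (Fin m)) = Finset.univ := by
    rw [Finset.eq_univ_iff_forall]
    intro j
    by_cases hj : j = i
    · simp [hj]
    · simp [h j hj]
  have h1 := congrArg Finset.card huniv
  rw [Finset.card_univ, Fintype.card_fin] at h1
  have h2 : ({i, i₀} : Finset (Fin m)).card ≤ 2 := Finset.card_le_two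
  omega

/-- the underlying index in `Fin m`. -/
def g2_ix : Idx m → Fin m := Sum.elim id id

theorem g2_rt_inl {a' : Idx m} {j : Fin m} (h : j ≠ g2_ix a') : Rt a' (Sum.inl j) := by
  rcases a' with i | i
  · exact ⟨fun e => h (Sum.inl.inj e).symm, fun e => by simp [Sum.swap] at e⟩
  · exact ⟨fun e => by simp at e, fun e => h (by simpa [Sum.swap, g2_ix] using e.symm)⟩

theorem g2_comm_scalar (hm : 3 ≤ m) (N : QuadraticForm K (Fin 2 → K))
    (hN : ∀ z : Fin 2 → K, N z = z 0 ^ 2 + a * z 0 * z 1 + b * z 1 ^ 2)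
    (M : Matrix (IdxM m) (IdxM m) K)
    (hX : ∀ a' b', Rt a' b' → M * bXW a' b' 1 = bXW a' b' 1 * M)
    (hY : ∀ a' w, M * bYW N a' w = bYW N a' w * M) :
    ∃ c : K, M = c • (1 : Matrix (IdxM m) (IdxM m) K) := by
  classical
  -- the basis vectors
  set e : Idx m → IdxM m → K := fun i => Pi.single (Sum.inl i) (1 : K) with he
  have he_same : ∀ i : Idx m, e i (Sum.inl i) = 1 := fun i => by simp [he]
  have he_ne : ∀ i j : Idx m, j ≠ i → e i (Sum.inl j) = 0 := fun i j hji => by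
    simp [he, hji]
  have he_inr : ∀ (i : Idx m) (j : Fin 2), e i (Sum.inr j) = 0 := fun i j => by simp [he]
  -- Step 1
  have hS1 : ∀ a' b', Rt a' b' → M *ᵥ e a' =
      (M *ᵥ e b') (Sum.inl b') • e a' - (M *ᵥ e b') (Sum.inl a'.swap) • e b'.swap := by
    intro a' b' hab'
    have hba : b' ≠ a'.swap := fun h => hab'.2 (by rw [h, Sum.swap_swap])
    have h1 : (bXW (ι := Fin 2) a' b' (1 : K)) *ᵥ e b' = e b' + e a' := by
      rw [g2_bXW_mulVec', he_same, he_ne b' a'.swap (Ne.symm hba), one_mul, one_smul, zero_smul, sub_zero]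
    have h2 : (M * bXW a' b' 1) *ᵥ e b' = (bXW a' b' 1 * M) *ᵥ e b' := by rw [hX a' b' hab']
    rw [← Matrix.mulVec_mulVec, ← Matrix.mulVec_mulVec] at h2
    rw [h1, Matrix.mulVec_add, g2_bXW_mulVec', one_mul] at h2
    -- `M e_b + M e_a = M e_b + ... `
    have h3 : M *ᵥ e a' = (M *ᵥ e b') (Sum.inl b') • Pi.single (Sum.inl a') (1 : K)
        - (M *ᵥ e b') (Sum.inl a'.swap) • Pi.single (Sum.inl b'.swap) (1 : K) := by
      rw [add_sub_assoc] at h2
      exact add_left_cancel h2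
    exact h3
  -- Step 2
  have hS2 : ∀ a' b₁ b₂, Rt a' b₁ → Rt a' b₂ → b₁ ≠ b₂ →
      M *ᵥ e a' = (M *ᵥ e a') (Sum.inl a') • e a' ∧
        (M *ᵥ e a') (Sum.inl a') = (M *ᵥ e b₁) (Sum.inl b₁) := by
    intro a' b₁ b₂ h1 h2 h12
    have e1 := hS1 a' b₁ h1
    have e2 := hS1 a' b₂ h2
    have hb1a : b₁.swap ≠ a' := fun h => h1.2 h.symm
    have hb12 : b₁.swap ≠ b₂.swap := fun h => h12 (Sum.swap_leftInverse.injective h)
    -- evaluate at `inl b₁.swap`
    have hβ : (M *ᵥ e b₁) (Sum.inl a'.swap) = 0 := by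
      have v1 := congrFun e1 (Sum.inl b₁.swap)
      have v2 := congrFun e2 (Sum.inl b₁.swap)
      simp only [Pi.sub_apply, Pi.smul_apply, smul_eq_mul] at v1 v2
      rw [he_ne a' b₁.swap hb1a, he_same, mul_zero, mul_one, zero_sub] at v1
      rw [he_ne a' b₁.swap hb1a, he_ne b₂.swap b₁.swap hb12, mul_zero, mul_zero, sub_zero] at v2
      rw [v2] at v1
      exact neg_eq_zero.mp v1.symm
    rw [hβ, zero_smul, sub_zero] at e1
    have hα : (M *ᵥ e a') (Sum.inl a') = (M *ᵥ e b₁) (Sum.inl b₁) := by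
      have v1 := congrFun e1 (Sum.inl a')
      simp only [Pi.smul_apply, smul_eq_mul] at v1
      rw [he_same, mul_one] at v1
      exact v1
    refine ⟨?_, hα⟩
    rw [hα]
    exact e1
  -- the scalar
  have hm0 : 0 < m := by omega
  set i₀ : Fin m := ⟨0, hm0⟩ with hi₀
  set c : K := (M *ᵥ e (Sum.inl i₀)) (Sum.inl (Sum.inl i₀)) with hc
  have hall : ∀ a' : Idx m, M *ᵥ e a' = c • e a' := by
    intro a'
    obtain ⟨j, hj1, hj2⟩ := g2_exists_fin_ne hm (g2_ix a') i₀
    obtain ⟨k, hk1, hk2⟩ := g2_exists_fin_ne hm (g2_ix a') j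
    obtain ⟨k', hk'1, hk'2⟩ := g2_exists_fin_ne hm i₀ j
    have hjk : (Sum.inl j : Idx m) ≠ Sum.inl k := fun h => hk2 (Sum.inl.inj h).symm
    have hjk' : (Sum.inl j : Idx m) ≠ Sum.inl k' := fun h => hk'2 (Sum.inl.inj h).symm
    obtain ⟨h1, h2⟩ := hS2 a' (Sum.inl j) (Sum.inl k) (g2_rt_inl hj1) (g2_rt_inl hk1) hjk
    obtain ⟨-, h3⟩ := hS2 (Sum.inl i₀) (Sum.inl j) (Sum.inl k') (g2_rt_inl (a' := Sum.inl i₀) hj2)
      (g2_rt_inl (a' := Sum.inl i₀) hk'1) hjk'
    rw [h1, h2, ← h3]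
  -- Step 3: the anisotropic part
  have hW : ∀ w : Fin 2 → K, M *ᵥ g2_inrV m w = c • g2_inrV m w := by
    intro w
    set a' : Idx m := Sum.inl i₀ with ha'
    have h1 : (bYW N a' w) *ᵥ e a'.swap = e a'.swap - g2_inrV m w - N w • e a' := by
      rw [g2_bYW_mulVec' N hN, he_same]
      have h0 : (fun j => e a'.swap (Sum.inr j)) = (0 : Fin 2 → K) := by
        funext j; exact he_inr _ j
      rw [h0, QuadraticMap.polar_zero_left, zero_smul, add_zero, one_smul, mul_one]
    have h2 : (M * bYW N a' w) *ᵥ e a'.swap = (bYW N a' w * M) *ᵥ e a'.swap := by rw [hY a' w]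
    rw [← Matrix.mulVec_mulVec, ← Matrix.mulVec_mulVec] at h2
    rw [h1, Matrix.mulVec_sub, Matrix.mulVec_sub, Matrix.mulVec_smul, hall, hall, Matrix.mulVec_smul,
      h1] at h2
    -- `c e - M(0,w) - N w c e_a = c (e - (0,w) - N w e_a)`
    have h3 : M *ᵥ g2_inrV m w = c • e a'.swap - N w • c • e a'
        - c • (e a'.swap - g2_inrV m w - N w • e a') := by
      rw [← h2]; abel
    rw [h3, smul_sub, smul_sub, smul_comm (N w) c]
    abel
  -- conclusion
  refine ⟨c, ?_⟩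
  have hcol : ∀ k : IdxM m, M *ᵥ Pi.single k (1 : K) = c • Pi.single k (1 : K) := by
    intro k
    rcases k with k | k
    · exact hall k
    · rw [g2_single_inr]; exact hW _
  ext i k
  have h1 := congrFun (hcol k) i
  rw [Matrix.mulVec_single_one] at h1
  rw [Matrix.smul_apply, Matrix.one_apply, smul_eq_mul]
  simp only [Pi.smul_apply, smul_eq_mul, Pi.single_apply] at h1
  exact h1

/-! ### the centre -/

/-- **the centre of `Ω⁻_{2m+2}(K)`** consists of the elements with matrix `±1` (finite `K`, any characteristic). -/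
theorem omegaMinus_center_iff [Finite K] (hm : 3 ≤ m)
    (hab : ∀ z₁ z₂ : K, z₁ ^ 2 + a * z₁ * z₂ + b * z₂ ^ 2 = 0 → z₁ = 0 ∧ z₂ = 0)
    (g : ↥(Cfsg.Omega K (Cfsg.quadFormMinus m K a b))) :
    g ∈ Subgroup.center ↥(Cfsg.Omega K (Cfsg.quadFormMinus m K a b)) ↔
      (((g : ↥(Cfsg.isometryGroup K (Cfsg.quadFormMinus m K a b))) : GL (Idx m ⊕ Fin 2) K) :
          Matrix (Idx m ⊕ Fin 2) (Idx m ⊕ Fin 2) K) = 1 ∨
      (((g : ↥(Cfsg.isometryGroup K (Cfsg.quadFormMinus m K a b))) : GL (Idx m ⊕ Fin 2) K) :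
          Matrix (Idx m ⊕ Fin 2) (Idx m ⊕ Fin 2) K) = -1 := by
  classical
  set M : Matrix (Idx m ⊕ Fin 2) (Idx m ⊕ Fin 2) K :=
    (((g : ↥(Cfsg.isometryGroup K (Cfsg.quadFormMinus m K a b))) : GL (Idx m ⊕ Fin 2) K) :
      Matrix (Idx m ⊕ Fin 2) (Idx m ⊕ Fin 2) K) with hM
  constructor
  · intro hg
    rw [Subgroup.mem_center_iff] at hg
    have hgen := omegaMinus_eq_closure_of_finite (m := m) (K := K) (a := a) (b := b) hm hab
    have hkey : ∀ T : GL (Idx m ⊕ Fin 2) K,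
        ((∃ (a' b' : Idx m) (t : K), Rt a' b' ∧
            (T : Matrix (Idx m ⊕ Fin 2) (Idx m ⊕ Fin 2) K) = bXW a' b' t) ∨
          ∃ (a' : Idx m) (w : Fin 2 → K),
            (T : Matrix (Idx m ⊕ Fin 2) (Idx m ⊕ Fin 2) K) = bYW (minusN a b) a' w) →
        M * (T : Matrix (Idx m ⊕ Fin 2) (Idx m ⊕ Fin 2) K) =
          (T : Matrix (Idx m ⊕ Fin 2) (Idx m ⊕ Fin 2) K) * M := by
      intro T hT
      have hmem : T ∈ (Cfsg.Omega K (Cfsg.quadFormMinus m K a b)).map
          (Cfsg.isometryGroup K (Cfsg.quadFormMinus m K a b)).subtype := by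
        rw [hgen]
        exact Subgroup.subset_closure hT
      obtain ⟨h, hh, rfl⟩ := hmem
      have h1 := hg ⟨h, hh⟩
      have h2 := congrArg (fun x : ↥(Cfsg.Omega K (Cfsg.quadFormMinus m K a b)) =>
        (((x : ↥(Cfsg.isometryGroup K (Cfsg.quadFormMinus m K a b))) : GL (Idx m ⊕ Fin 2) K) :
          Matrix (Idx m ⊕ Fin 2) (Idx m ⊕ Fin 2) K)) h1
      simp only [Subgroup.coe_mul, Units.val_mul] at h2
      exact h2.symm
    have hX : ∀ a' b', Rt a' b' → M * bXW a' b' 1 = bXW a' b' 1 * M := by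
      intro a' b' hab'
      have h1 := g2_psi_X (a := a) (b := b) hab' (1 : K)
      have h2 := hkey (g2_psi m K a b (siegG (minusForm K m a b) (Pi.single (Sum.inl a') 1)
        (Pi.single (Sum.inl b'.swap) 1))) (Or.inl ⟨a', b', 1, hab', h1⟩)
      rw [h1] at h2
      exact h2
    have hY : ∀ a' w, M * bYW (minusN a b) a' w = bYW (minusN a b) a' w * M := by
      intro a' w
      have h1 := g2_psi_Y (minusN a b) (minusN_apply a b) a' w
      have h2 := hkey (g2_psi m K a b (siegG (minusForm K m a b) (Pi.single (Sum.inl a') 1)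
        (g2_inrV m w))) (Or.inr ⟨a', w, h1⟩)
      rw [h1] at h2
      exact h2
    obtain ⟨c, hc⟩ := g2_comm_scalar hm (minusN a b) (minusN_apply a b) M hX hY
    -- `c ^ 2 = 1`
    have hiso := (g : ↥(Cfsg.isometryGroup K (Cfsg.quadFormMinus m K a b))).2
      (g2_inrV m (Pi.single 0 1)) (g2_inrV m (Pi.single 0 1))
    have hQ1 : Cfsg.quadFormMinus m K a b (g2_inrV m (Pi.single 0 1)) = 1 := by
      rw [← minusForm_apply, g2_Q_inrV (minusN a b) (minusN_apply a b), minusN_apply]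
      simp
    have hMv : M *ᵥ g2_inrV m (Pi.single (0 : Fin 2) (1 : K)) =
        c • g2_inrV m (Pi.single (0 : Fin 2) (1 : K)) := by
      rw [hc, Matrix.smul_mulVec, Matrix.one_mulVec]
    have hiso' : Cfsg.quadFormMinus m K a b (M *ᵥ g2_inrV m (Pi.single (0 : Fin 2) (1 : K))) =
        Cfsg.quadFormMinus m K a b (g2_inrV m (Pi.single (0 : Fin 2) (1 : K))) := hiso
    rw [hMv, ← minusForm_apply, ← minusForm_apply, QuadraticMap.map_smul, minusForm_apply, hQ1,
      smul_eq_mul, mul_one] at hiso'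
    rcases mul_self_eq_one_iff.mp hiso' with h1 | h1
    · left
      rw [hc, h1, one_smul]
    · right
      rw [hc, h1, neg_smul, one_smul]
  · intro hg
    rw [Subgroup.mem_center_iff]
    intro h
    apply Subtype.ext
    apply Subtype.ext
    apply Units.ext
    simp only [Subgroup.coe_mul, Units.val_mul]
    rcases hg with h1 | h1
    · rw [← hM, h1, mul_one, one_mul]
    · rw [← hM, h1, mul_neg, neg_mul, mul_one, one_mul]

end Cfsg.Agent.CtRecM
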