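import Mathlib
import Cfsg.Agent.CtRecD.SchMain

set_option autoImplicit false
set_option linter.unusedSectionVars false
set_option linter.unusedVariables false

/-!
# S2099, piece P15a (helper9): the kernel of `St(²D_l, F) → PΩ⁻_{2l}(F)` is cyclic of order `gcd(4, q^l + 1)`, from its
description by matrices
-/

namespace Cfsg.Agent.CtRecM

open Cfsg.Agent.CtRecD

/-- the order `gcd(4, q^l + 1)` of the multiplier. -/
theorem gcd_four_pow_add_one (q l : ℕ) (hl : 1 ≤ l) :
    Nat.gcd 4 (q ^ l + 1) = if q % 2 = 0 then 1 else if q ^ l % 4 = 3 then 4 else 2 := by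
  have hmod2 : q ^ l % 2 = (q % 2) ^ l % 2 := Nat.pow_mod _ _ _
  rw [gcd_four]
  by_cases hq2 : q % 2 = 0
  · have h1 : q ^ l % 2 = 0 := by
      rw [hmod2, hq2, Nat.zero_pow (by omega)]
    rw [if_pos hq2, if_neg (by omega), if_neg (by omega)]
  · have hq1 : q % 2 = 1 := by omega
    have h1 : q ^ l % 2 = 1 := by
      rw [hmod2, hq1, one_pow]
      rfl
    rw [if_neg hq2]
    by_cases h3 : q ^ l % 4 = 3
    · rw [if_pos h3, if_pos (by omega)]
    · rw [if_neg h3, if_neg (by omega), if_pos (by omega)]

/-- the kernel is cyclic of order `gcd(4, q^l + 1)`, from its description by matrices. -/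
theorem ker_equiv_minus_of {F : Type*} [Field F] [Fintype F] {l : ℕ} (hl : 1 ≤ l)
    {ι : Type*} [Fintype ι] [DecidableEq ι]
    {Δ : Type*} [Group Δ] (φ : Δ →* Matrix ι ι F) (H : Subgroup Δ) (z : Δ)
    (hker : ∀ c, c ∈ H ↔ φ c = 1 ∨ φ c = -1)
    (hz : φ z = 1)
    (hcases : ∀ c, φ c = 1 → c = 1 ∨ c = z)
    (hneg : (2 : F) ≠ 0 → ∀ c, φ c = -1 → Fintype.card F ^ l % 4 = 3 ∧ c * c = z)
    (hex : (2 : F) ≠ 0 → Fintype.card F ^ l % 4 = 3 → ∃ c, φ c = -1)
    (hzne : (2 : F) ≠ 0 → z ≠ 1) (hz2 : (2 : F) = 0 → z = 1) :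
    Nonempty (Multiplicative (ZMod (Nat.gcd 4 (Fintype.card F ^ l + 1))) ≃* H) := by
  rw [gcd_four_pow_add_one _ _ hl]
  by_cases h2 : (2 : F) = 0
  · -- characteristic 2
    rw [if_pos (two_eq_zero_iff_card_even.mp h2)]
    have hneg1 : (-1 : Matrix ι ι F) = 1 := by
      have : (-1 : F) = 1 := by linear_combination (-1 : F) * h2
      ext i j
      by_cases hij : i = j
      · subst hij
        simp [this]
      · simp [hij]
    refine zmod_equiv_of_zpowers H 1 ?_ 1 orderOf_one
    rw [Subgroup.zpowers_one_eq_bot, eq_bot_iff]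
    intro c hc
    rw [hker, hneg1, or_self] at hc
    rw [Subgroup.mem_bot]
    rcases hcases c hc with h | h
    · exact h
    · rw [h, hz2 h2]
  · have hqodd : ¬ Fintype.card F % 2 = 0 := fun h => h2 (two_eq_zero_iff_card_even.mpr h)
    rw [if_neg hqodd]
    have hz1 := hzne h2
    have hzz : z * z = 1 := by
      have : φ (z * z) = 1 := by rw [map_mul, hz, one_mul]
      rcases hcases _ this with h | h
      · exact h
      · exfalso
        apply hz1
        have := congrArg (fun x => z⁻¹ * x) h
        simpa using this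
    have hzH : z ∈ H := (hker z).mpr (Or.inl hz)
    by_cases hq : Fintype.card F ^ l % 4 = 3
    · rw [if_pos hq]
      obtain ⟨c₀, hc₀⟩ := hex h2 hq
      have hc₀2 : c₀ * c₀ = z := (hneg h2 c₀ hc₀).2
      have hord : orderOf c₀ = 2 ^ (1 + 1) := by
        apply orderOf_eq_prime_pow
        · rw [pow_one, pow_two, hc₀2]
          exact hz1
        · have : c₀ ^ 2 ^ (1 + 1) = (c₀ * c₀) * (c₀ * c₀) := by
            norm_num
            rw [show (4 : ℕ) = 2 + 2 from rfl, pow_add, pow_two]
          rw [this, hc₀2, hzz]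
      refine zmod_equiv_of_zpowers H c₀ ?_ 4 hord
      have hc₀H : c₀ ∈ H := (hker c₀).mpr (Or.inr hc₀)
      apply le_antisymm
      · intro c hc
        rcases (hker c).mp hc with h | h
        · rcases hcases c h with h' | h'
          · rw [h']
            exact one_mem _
          · rw [h', ← hc₀2]
            exact mul_mem (Subgroup.mem_zpowers _) (Subgroup.mem_zpowers _)
        · have h1 : φ (c * c₀) = 1 := by
            rw [map_mul, h, hc₀]
            simp
          rcases hcases _ h1 with h' | h'
          · have : c = c₀⁻¹ := eq_inv_of_mul_eq_one_left h'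
            rw [this]
            exact inv_mem (Subgroup.mem_zpowers _)
          · rw [← hc₀2] at h'
            have : c = c₀ := mul_right_cancel h'
            rw [this]
            exact Subgroup.mem_zpowers _
      · rw [Subgroup.zpowers_le]
        exact hc₀H
    · rw [if_neg hq]
      have hord : orderOf z = 2 := orderOf_eq_prime (by rw [pow_two]; exact hzz) hz1
      refine zmod_equiv_of_zpowers H z ?_ 2 hord
      apply le_antisymm
      · intro c hc
        rcases (hker c).mp hc with h | h
        · rcases hcases c h with h' | h'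
          · rw [h']
            exact one_mem _
          · rw [h']
            exact Subgroup.mem_zpowers _
        · exfalso
          exact hq (hneg h2 c h).1
      · rw [Subgroup.zpowers_le]
        exact hzH

end Cfsg.Agent.CtRecM
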