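import Mathlib
import Cfsg.Agent.CtRecM.OmKer
import Cfsg.Agent.CtRecD.SchCen
import Cfsg.Agent.Helper7.SlR

set_option autoImplicit false
set_option linter.unusedSectionVars false
set_option linter.unusedVariables false

/-!
# S2099, piece P15b (helper9): the abstract assembly

A perfect finite group `Δ` (the Steinberg group) with a surjection `θ₀ : Δ → Ω` with central kernel, all of whose central extensions
split, is the universal central extension of `Ω ⧸ Z(Ω)`; if the preimage of the centre of `Ω` is described by matrices as in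
`ker_equiv_minus_of`, the Schur multiplier of `Ω ⧸ Z(Ω)` is cyclic of order `gcd(4, q^l + 1)`.
-/

namespace Cfsg.Agent.CtRecM

open Cfsg.Agent.CtRecD

universe u

/-- the abstract assembly of S2099. -/
theorem schur_quot_center_minus_of {F : Type*} [Field F] [Fintype F] {l : ℕ} (hl : 1 ≤ l)
    {ι : Type*} [Fintype ι] [DecidableEq ι]
    {Ω : Type u} [Group Ω] {Δ : Type u} [Group Δ] [Finite Δ]
    (θ₀ : Δ →* Ω) (hθ₀s : Function.Surjective θ₀) (hθ₀c : θ₀.ker ≤ Subgroup.center Δ)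
    (hperf : commutator Δ = ⊤)
    (φ : Δ →* Matrix ι ι F)
    (hcen : ∀ c, θ₀ c ∈ Subgroup.center Ω ↔ φ c = 1 ∨ φ c = -1)
    (z : Δ) (hz : φ z = 1) (hcases : ∀ c, φ c = 1 → c = 1 ∨ c = z)
    (hneg : (2 : F) ≠ 0 → ∀ c, φ c = -1 → Fintype.card F ^ l % 4 = 3 ∧ c * c = z)
    (hex : (2 : F) ≠ 0 → Fintype.card F ^ l % 4 = 3 → ∃ c, φ c = -1)
    (hzne : (2 : F) ≠ 0 → z ≠ 1) (hz2 : (2 : F) = 0 → z = 1)
    (hsplit : ∀ (E : Type u) [Group E] (ψ : E →* Δ), Function.Surjective ψ →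
      ψ.ker ≤ Subgroup.center E → ∃ τ : Δ →* E, ψ.comp τ = MonoidHom.id Δ) :
    Cfsg.HasCyclicSchurMultiplier (Ω ⧸ Subgroup.center Ω) (Nat.gcd 4 (Fintype.card F ^ l + 1)) := by
  set θ : Δ →* Ω ⧸ Subgroup.center Ω := (QuotientGroup.mk' (Subgroup.center Ω)).comp θ₀ with hθ
  have hθs : Function.Surjective θ := (QuotientGroup.mk'_surjective _).comp hθ₀s
  have hθker : θ.ker = (Subgroup.center Ω).comap θ₀ := by
    ext c
    rw [MonoidHom.mem_ker, Subgroup.mem_comap]
    show (QuotientGroup.mk' _) (θ₀ c) = 1 ↔ _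
    rw [← MonoidHom.mem_ker, QuotientGroup.ker_mk']
  have hθc : θ.ker ≤ Subgroup.center Δ := by
    rw [hθker]
    exact comap_center_le_center_of_perfect θ₀ hθ₀c hperf
  have hker : ∀ c, c ∈ θ.ker ↔ φ c = 1 ∨ φ c = -1 := by
    intro c
    rw [hθker, Subgroup.mem_comap, hcen]
  obtain ⟨e⟩ := ker_equiv_minus_of hl φ θ.ker z hker hz hcases hneg hex hzne hz2
  refine Cfsg.Agent.Helper7.Sl.schur_of_universal_fin θ hθs hθc hperf ?_ e
  intro Γ _ _ σ hσs hσc
  refine Cfsg.Agent.Helper7.Sl.exists_lift_central σ hσs hσc θ ?_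
  intro P ψ hψs hψc
  exact hsplit ↥P ψ hψs hψc

end Cfsg.Agent.CtRecM
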