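import Mathlib
import Cfsg.Agent.CtRecM.Defs2
import Cfsg.Agent.CtRecM.OmQF
import Cfsg.Agent.CtRecD.MatB1

set_option autoImplicit false
set_option linter.unusedSectionVars false
set_option linter.unusedVariables false
set_option linter.unusedSimpArgs false
set_option linter.unreachableTactic false
set_option linter.unusedTactic false

/-!
# S2099, piece P1 (helper9): the matrices `bXW a b t`, `bYW N a w` satisfy the Steinberg relations of `OW m N`
-/

namespace Cfsg.Agent.CtRecM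

open Matrix Cfsg.Agent.CtRecD

variable {m : ℕ} {K : Type*} [Field K] {ι : Type*} [Fintype ι] [DecidableEq ι]

/-! ### the action on vectors -/

theorem om_polar_sum (N : QuadraticForm K (ι → K)) (u w : ι → K) :
    ∑ j, QuadraticMap.polar N (Pi.single j 1) w * u j = QuadraticMap.polar N u w := by
  have h : u = ∑ j, u j • (Pi.single j (1 : K) : ι → K) := by
    ext i
    simp [Finset.sum_apply, Pi.single_apply]
  conv_rhs => rw [h]
  have h2 := map_sum ((QuadraticMap.polarBilin N).flip w)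
    (fun j => u j • (Pi.single j (1 : K) : ι → K)) Finset.univ
  simp only [LinearMap.flip_apply, QuadraticMap.polarBilin_apply_apply, map_smul, smul_eq_mul,
    LinearMap.smul_apply] at h2
  rw [h2]
  apply Finset.sum_congr rfl
  intro j _
  ring

theorem bXW_mulVec (a b : Idx m) (t : K) (h : Idx m → K) (u : ι → K) :
    (bXW a b t : Matrix (Idx m ⊕ ι) (Idx m ⊕ ι) K) *ᵥ Sum.elim h u =
      Sum.elim (oX a b t *ᵥ h) u := by
  unfold bXW
  rw [Matrix.fromBlocks_mulVec]
  simp

theorem bYW_mulVec (N : QuadraticForm K (ι → K)) (a : Idx m) (w : ι → K) (h : Idx m → K)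
    (u : ι → K) :
    bYW N a w *ᵥ Sum.elim h u =
      Sum.elim (h + Pi.single a (QuadraticMap.polar N u w - N w * h a.swap))
        (u - h a.swap • w) := by
  unfold bYW
  rw [Matrix.fromBlocks_mulVec]
  have e1 : (1 - Matrix.single a a.swap (N w)) *ᵥ h = h - Pi.single a (N w * h a.swap) := by
    rw [sub_mulVec, one_mulVec, single_mulVec]
    rfl
  have e2 : (Matrix.of fun (i : Idx m) (j : ι) =>
      if i = a then QuadraticMap.polar N (Pi.single j 1) w else 0) *ᵥ u =
      Pi.single a (QuadraticMap.polar N u w) := by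
    ext i
    by_cases hi : i = a
    · subst hi
      simp only [mulVec, dotProduct, Matrix.of_apply, if_true, Pi.single_eq_same]
      exact om_polar_sum N u w
    · simp [mulVec, dotProduct, Matrix.of_apply, hi]
  have e3 : (Matrix.of fun (j : ι) (i : Idx m) => if i = a.swap then -(w j) else 0) *ᵥ h =
      -(h a.swap • w) := by
    ext j
    simp [mulVec, dotProduct, Matrix.of_apply, mul_comm]
  simp only [Sum.elim_comp_inl, Sum.elim_comp_inr, e1, e2, e3, one_mulVec]
  congr 1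
  · ext i
    simp only [Pi.add_apply, Pi.sub_apply, Pi.single_apply]
    split_ifs <;> ring
  · ext j
    simp only [Pi.add_apply, Pi.sub_apply, Pi.neg_apply, Pi.smul_apply, smul_eq_mul]
    ring

theorem om_ext {A B : Matrix (Idx m ⊕ ι) (Idx m ⊕ ι) K}
    (h : ∀ (x : Idx m → K) (u : ι → K), A *ᵥ Sum.elim x u = B *ᵥ Sum.elim x u) : A = B := by
  ext i j
  have h1 := congrFun (h ((Pi.single j 1 : Idx m ⊕ ι → K) ∘ Sum.inl)
    ((Pi.single j 1 : Idx m ⊕ ι → K) ∘ Sum.inr)) i
  rw [Sum.elim_comp_inl_inr] at h1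
  simpa using h1

/-! ### the relations on the matrices -/

theorem bXW_mul_bXW (a b c d : Idx m) (t u : K) :
    (bXW a b t : Matrix (Idx m ⊕ ι) (Idx m ⊕ ι) K) * bXW c d u =
      Matrix.fromBlocks (oX a b t * oX c d u) 0 0 1 := by
  unfold bXW
  rw [Matrix.fromBlocks_multiply]
  simp

theorem bXW_zero (a b : Idx m) : (bXW a b (0 : K) : Matrix (Idx m ⊕ ι) (Idx m ⊕ ι) K) = 1 := by
  unfold bXW
  rw [oX_zero, Matrix.fromBlocks_one]

theorem bXW_xbar (a b : Idx m) (t : K) :
    (bXW a b t : Matrix (Idx m ⊕ ι) (Idx m ⊕ ι) K) = bXW b.swap a.swap (-t) := by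
  unfold bXW
  rw [← oX_xbar]

theorem bXW_add {a b : Idx m} (hab : a ≠ b) (t u : K) :
    (bXW a b t : Matrix (Idx m ⊕ ι) (Idx m ⊕ ι) K) * bXW a b u = bXW a b (t + u) := by
  rw [bXW_mul_bXW, oX_add hab]
  rfl

theorem bXW_mul_neg {a b : Idx m} (hab : a ≠ b) (t : K) :
    (bXW a b t : Matrix (Idx m ⊕ ι) (Idx m ⊕ ι) K) * bXW a b (-t) = 1 := by
  rw [bXW_add hab, add_neg_cancel, bXW_zero]

theorem bXW_neg_mul {a b : Idx m} (hab : a ≠ b) (t : K) :
    (bXW a b (-t) : Matrix (Idx m ⊕ ι) (Idx m ⊕ ι) K) * bXW a b t = 1 := by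
  rw [bXW_add hab, neg_add_cancel, bXW_zero]

theorem bXW_comm {a b c d : Idx m} (hbc : b ≠ c) (had : a ≠ d) (hca : c ≠ a.swap)
    (hdb : d ≠ b.swap) (t u : K) :
    (bXW a b t : Matrix (Idx m ⊕ ι) (Idx m ⊕ ι) K) * bXW c d u = bXW c d u * bXW a b t := by
  rw [bXW_mul_bXW, bXW_mul_bXW, oX_comm hbc had hca hdb]

theorem bXW_comm_row {a b : Idx m} (hab : a ≠ b) (hab' : a ≠ b.swap) (t u : K) :
    (bXW a b t : Matrix (Idx m ⊕ ι) (Idx m ⊕ ι) K) * bXW a b.swap u = bXW a b.swap u * bXW a b t := by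
  rw [bXW_mul_bXW, bXW_mul_bXW, oX_comm_row hab hab']

theorem bXW_comm3_mul {a b c : Idx m} (hab : Rt a b) (hbc : Rt b c) (hac : Rt a c) (t u : K) :
    (bXW a b t : Matrix (Idx m ⊕ ι) (Idx m ⊕ ι) K) * bXW b c u =
      bXW a c (t * u) * bXW b c u * bXW a b t := by
  rw [bXW_mul_bXW, bXW_mul_bXW, oX_comm3_mul hab hbc hac]
  unfold bXW
  rw [Matrix.fromBlocks_multiply]
  simp

variable (N : QuadraticForm K (ι → K))

theorem bYW_zero (a : Idx m) : bYW N a (0 : ι → K) = 1 := by
  apply om_ext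
  intro x u
  rw [bYW_mulVec, one_mulVec]
  simp

theorem bYW_add (a : Idx m) (w w' : ι → K) : bYW N a w * bYW N a w' = bYW N a (w + w') := by
  have h9 := ne_swap a
  have h11 : a.swap ≠ a := fun e => h9 e.symm
  have hN : N (w + w') = N w + N w' + QuadraticMap.polar N w w' := by
    unfold QuadraticMap.polar
    ring
  apply om_ext
  intro x u
  simp only [← Matrix.mulVec_mulVec, bYW_mulVec]
  congr 1
  · ext r
    simp only [Pi.add_apply, Pi.single_apply, h9, h11, if_false, add_zero,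
      QuadraticMap.polar_sub_left, QuadraticMap.polar_smul_left, QuadraticMap.polar_add_right,
      smul_eq_mul, hN, QuadraticMap.polar_comm N w' w]
    split_ifs <;> ring
  · simp only [Pi.add_apply, Pi.single_apply, h9, h11, if_false, add_zero]
    module

theorem bYW_mul_neg (a : Idx m) (w : ι → K) : bYW N a w * bYW N a (-w) = 1 := by
  rw [bYW_add, add_neg_cancel, bYW_zero]

theorem bYW_neg_mul (a : Idx m) (w : ι → K) : bYW N a (-w) * bYW N a w = 1 := by
  rw [bYW_add, neg_add_cancel, bYW_zero]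

/-- the relation `yy` on the matrices. -/
theorem bYYW_mul {a b : Idx m} (hab : Rt a b) (w w' : ι → K) :
    bYW N a w * bYW N b w' =
      bXW a b.swap (-(QuadraticMap.polar N w w')) * (bYW N b w' * bYW N a w) := by
  have h1 := hab.1
  have h2 := hab.2
  have h3 : b ≠ a := hab.1.symm
  have h4 : b.swap ≠ a := fun e => hab.2 e.symm
  have h5 : a.swap ≠ b := fun e => hab.2 (swap_eq_iff.mp e)
  have h6 : b ≠ a.swap := fun e => h5 e.symm
  have h7 : a.swap ≠ b.swap := fun e => hab.1 (swap_inj.mp e)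
  have h8 : b.swap ≠ a.swap := fun e => h7 e.symm
  have h9 := ne_swap a
  have h10 := ne_swap b
  have h11 : a.swap ≠ a := fun e => h9 e.symm
  have h12 : b.swap ≠ b := fun e => h10 e.symm
  apply om_ext
  intro x u
  simp only [← Matrix.mulVec_mulVec, bYW_mulVec, bXW_mulVec, oX_mulVec]
  congr 1
  · ext r
    simp only [Pi.add_apply, Pi.single_apply, Sum.swap_swap, h1, h2, h3, h4, h5, h6, h7, h8, h9,
      h10, h11, h12, if_false, add_zero, QuadraticMap.polar_sub_left, QuadraticMap.polar_smul_left,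
      smul_eq_mul, QuadraticMap.polar_comm N w' w]
    split_ifs <;> simp_all <;> ring
  · simp only [Pi.add_apply, Pi.single_apply, Sum.swap_swap, h1, h2, h3, h4, h5, h6, h7, h8, h9,
      h10, h11, h12, if_false, add_zero]
    module

/-- the relation `xy` on the matrices. -/
theorem bXYW_mul {a b : Idx m} (hab : Rt a b) (t : K) (w : ι → K) :
    bXW a b t * bYW N b w =
      bYW N a (t • w) * (bXW a b.swap (t * N w) * (bYW N b w * bXW a b t)) := by
  have h1 := hab.1
  have h2 := hab.2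
  have h3 : b ≠ a := hab.1.symm
  have h4 : b.swap ≠ a := fun e => hab.2 e.symm
  have h5 : a.swap ≠ b := fun e => hab.2 (swap_eq_iff.mp e)
  have h6 : b ≠ a.swap := fun e => h5 e.symm
  have h7 : a.swap ≠ b.swap := fun e => hab.1 (swap_inj.mp e)
  have h8 : b.swap ≠ a.swap := fun e => h7 e.symm
  have h9 := ne_swap a
  have h10 := ne_swap b
  have h11 : a.swap ≠ a := fun e => h9 e.symm
  have h12 : b.swap ≠ b := fun e => h10 e.symm
  apply om_ext
  intro x u
  simp only [← Matrix.mulVec_mulVec, bYW_mulVec, bXW_mulVec, oX_mulVec]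
  congr 1
  · ext r
    simp only [Pi.add_apply, Pi.single_apply, Sum.swap_swap, h1, h2, h3, h4, h5, h6, h7, h8, h9,
      h10, h11, h12, if_false, add_zero, QuadraticMap.polar_sub_left, QuadraticMap.polar_smul_left,
      QuadraticMap.polar_smul_right, QuadraticMap.map_smul, polar_self_eq, smul_eq_mul]
    split_ifs <;> simp_all <;> ring
  · simp only [Pi.add_apply, Pi.single_apply, Sum.swap_swap, h1, h2, h3, h4, h5, h6, h7, h8, h9,
      h10, h11, h12, if_false, if_true, add_zero]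
    module

/-- the relation `xy_comm` on the matrices. -/
theorem bXYW_comm {a b c : Idx m} (hab : Rt a b) (hcb : c ≠ b) (hca : c ≠ a.swap) (t : K)
    (w : ι → K) : bXW a b t * bYW N c w = bYW N c w * bXW a b t := by
  have h1 := hab.1
  have h2 := hab.2
  have h3 : b ≠ a := hab.1.symm
  have h4 : b.swap ≠ a := fun e => hab.2 e.symm
  have h5 : a.swap ≠ b := fun e => hab.2 (swap_eq_iff.mp e)
  have h6 : b ≠ a.swap := fun e => h5 e.symm
  have h7 : a.swap ≠ b.swap := fun e => hab.1 (swap_inj.mp e)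
  have h8 : b.swap ≠ a.swap := fun e => h7 e.symm
  have h9 := ne_swap a
  have h10 := ne_swap b
  have h11 : a.swap ≠ a := fun e => h9 e.symm
  have h12 : b.swap ≠ b := fun e => h10 e.symm
  have h13 : b ≠ c := hcb.symm
  have h14 : a.swap ≠ c := hca.symm
  have h15 : c.swap ≠ b.swap := fun e => hcb (swap_inj.mp e)
  have h16 : b.swap ≠ c.swap := fun e => h15 e.symm
  have h17 : c.swap ≠ a := fun e => hca (swap_eq_iff.mp e)
  have h18 : a ≠ c.swap := fun e => h17 e.symm
  have h19 := ne_swap c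
  have h20 : c.swap ≠ c := fun e => h19 e.symm
  apply om_ext
  intro x u
  simp only [← Matrix.mulVec_mulVec, bYW_mulVec, bXW_mulVec, oX_mulVec]
  congr 1
  · ext r
    simp only [Pi.add_apply, Pi.single_apply, Sum.swap_swap, h1, h2, h3, h4, h5, h6, h7, h8, h9,
      h10, h11, h12, h13, h14, h15, h16, h17, h18, h19, h20, hcb, hca, if_false, add_zero]
    split_ifs <;> simp_all <;> ring
  · simp only [Pi.add_apply, Pi.single_apply, Sum.swap_swap, h1, h2, h3, h4, h5, h6, h7, h8, h9,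
      h10, h11, h12, h13, h14, h15, h16, h17, h18, h19, h20, hcb, hca, if_false, add_zero]

/-! ### the root elements in `GL` -/

open Classical in
/-- the long root element as a unit of the matrix ring (`1` if `(a, b)` is not a root pair). -/
noncomputable def bXWu (a b : Idx m) (t : K) : Matrix.GeneralLinearGroup (Idx m ⊕ ι) K :=
  if h : Rt a b then ⟨bXW a b t, bXW a b (-t), bXW_mul_neg h.1 t, bXW_neg_mul h.1 t⟩ else 1

/-- the short root element as a unit of the matrix ring. -/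
noncomputable def bYWu (a : Idx m) (w : ι → K) : Matrix.GeneralLinearGroup (Idx m ⊕ ι) K :=
  ⟨bYW N a w, bYW N a (-w), bYW_mul_neg N a w, bYW_neg_mul N a w⟩

theorem bXWu_val {a b : Idx m} (hab : Rt a b) (t : K) :
    ((bXWu a b t : Matrix.GeneralLinearGroup (Idx m ⊕ ι) K) : Matrix (Idx m ⊕ ι) (Idx m ⊕ ι) K) =
      bXW a b t := by
  unfold bXWu
  rw [dif_pos hab]

theorem bYWu_val (a : Idx m) (w : ι → K) :
    ((bYWu N a w : Matrix.GeneralLinearGroup (Idx m ⊕ ι) K) : Matrix (Idx m ⊕ ι) (Idx m ⊕ ι) K) =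
      bYW N a w := rfl

/-- the matrices `bXW a b t`, `bYW N a w` satisfy the relations of `OW` in `GL`. -/
noncomputable def owGL (m : ℕ) (N : QuadraticForm K (ι → K)) :
    OW m N (Matrix.GeneralLinearGroup (Idx m ⊕ ι) K) where
  x := bXWu
  xbar := fun a b h t => Units.ext (by rw [bXWu_val h, bXWu_val h.bar, ← bXW_xbar])
  add := fun a b h t u => Units.ext (by
    rw [Units.val_mul, bXWu_val h, bXWu_val h, bXWu_val h, bXW_add h.1])
  comm := fun a b c d hab hcd hbc had hca hdb t u => Units.ext (by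
    rw [Units.val_mul, Units.val_mul, bXWu_val hab, bXWu_val hcd, bXW_comm hbc had hca hdb])
  comm_row := fun a b h t u => Units.ext (by
    rw [Units.val_mul, Units.val_mul, bXWu_val h, bXWu_val h.swap_right, bXW_comm_row h.1 h.2])
  comm3 := fun a b c hab hbc hac t u => by
    have e : (bXWu a b t : Matrix.GeneralLinearGroup (Idx m ⊕ ι) K) * bXWu b c u =
        bXWu a c (t * u) * bXWu b c u * bXWu a b t := Units.ext (by
      rw [Units.val_mul, Units.val_mul, Units.val_mul, bXWu_val hab, bXWu_val hbc, bXWu_val hac,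
        bXW_comm3_mul hab hbc hac])
    rw [e]
    group
  y := bYWu N
  yadd := fun a w w' => Units.ext (by
    rw [Units.val_mul, bYWu_val, bYWu_val, bYWu_val, bYW_add])
  yy := fun a b hab w w' => by
    have e : bYWu N a w * bYWu N b w' =
        bXWu a b.swap (-(QuadraticMap.polar N w w')) * (bYWu N b w' * bYWu N a w) := Units.ext (by
      rw [Units.val_mul, Units.val_mul, Units.val_mul, bYWu_val, bYWu_val, bXWu_val hab.swap_right,
        bYYW_mul N hab])
    rw [e]
    group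
  xy := fun a b hab t w => by
    have e : bXWu a b t * bYWu N b w =
        bYWu N a (t • w) * (bXWu a b.swap (t * N w) * (bYWu N b w * bXWu a b t)) := Units.ext (by
      rw [Units.val_mul, Units.val_mul, Units.val_mul, Units.val_mul, bYWu_val, bYWu_val,
        bXWu_val hab.swap_right, bXWu_val hab, bXYW_mul N hab])
    rw [e]
    group
  xy_comm := fun a b c hab hcb hca t w => Units.ext (by
    rw [Units.val_mul, Units.val_mul, bXWu_val hab, bYWu_val, bXYW_comm N hab hcb hca])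

theorem owGL_x_val {a b : Idx m} (hab : Rt a b) (t : K) :
    (((owGL m N).x a b t : Matrix.GeneralLinearGroup (Idx m ⊕ ι) K) :
      Matrix (Idx m ⊕ ι) (Idx m ⊕ ι) K) = bXW a b t := bXWu_val hab t

theorem owGL_y_val (a : Idx m) (w : ι → K) :
    (((owGL m N).y a w : Matrix.GeneralLinearGroup (Idx m ⊕ ι) K) :
      Matrix (Idx m ⊕ ι) (Idx m ⊕ ι) K) = bYW N a w := rfl

/-! ### restriction of a system to a subgroup -/

section restr

variable {W : Type*} [AddCommGroup W] [Module K W] {N' : QuadraticForm K W}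

open Classical in
/-- the restriction of a system to a subgroup which contains its root elements. -/
noncomputable def OW.restrTo {Γ : Type*} [Group Γ] (S : OW m N' Γ) (H : Subgroup Γ)
    (hx : ∀ a b, Rt a b → ∀ t : K, S.x a b t ∈ H) (hy : ∀ (a : Idx m) (w : W), S.y a w ∈ H) :
    OW m N' ↥H where
  x a b t := if h : Rt a b then ⟨S.x a b t, hx a b h t⟩ else 1
  xbar a b h t := by
    rw [dif_pos h, dif_pos h.bar]
    exact Subtype.ext (S.xbar a b h t)
  add a b h t u := by
    rw [dif_pos h, dif_pos h, dif_pos h]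
    exact Subtype.ext (S.add a b h t u)
  comm a b c d h1 h2 h3 h4 h5 h6 t u := by
    rw [dif_pos h1, dif_pos h2]
    exact Subtype.ext (S.comm a b c d h1 h2 h3 h4 h5 h6 t u)
  comm_row a b h t u := by
    rw [dif_pos h, dif_pos h.swap_right]
    exact Subtype.ext (S.comm_row a b h t u)
  comm3 a b c h1 h2 h3 t u := by
    rw [dif_pos h1, dif_pos h2, dif_pos h3]
    exact Subtype.ext (S.comm3 a b c h1 h2 h3 t u)
  y a w := ⟨S.y a w, hy a w⟩
  yadd a w w' := Subtype.ext (S.yadd a w w')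
  yy a b h w w' := by
    rw [dif_pos h.swap_right]
    exact Subtype.ext (S.yy a b h w w')
  xy a b h t w := by
    rw [dif_pos h, dif_pos h.swap_right]
    exact Subtype.ext (S.xy a b h t w)
  xy_comm a b c h h1 h2 t w := by
    rw [dif_pos h]
    exact Subtype.ext (S.xy_comm a b c h h1 h2 t w)

theorem OW.restrTo_x {Γ : Type*} [Group Γ] (S : OW m N' Γ) (H : Subgroup Γ)
    (hx : ∀ a b, Rt a b → ∀ t : K, S.x a b t ∈ H) (hy : ∀ (a : Idx m) (w : W), S.y a w ∈ H)
    {a b : Idx m} (h : Rt a b) (t : K) : (((S.restrTo H hx hy).x a b t : ↥H) : Γ) = S.x a b t := by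
  unfold OW.restrTo
  simp only
  rw [dif_pos h]

theorem OW.restrTo_y {Γ : Type*} [Group Γ] (S : OW m N' Γ) (H : Subgroup Γ)
    (hx : ∀ a b, Rt a b → ∀ t : K, S.x a b t ∈ H) (hy : ∀ (a : Idx m) (w : W), S.y a w ∈ H)
    (a : Idx m) (w : W) : (((S.restrTo H hx hy).y a w : ↥H) : Γ) = S.y a w := rfl

end restr

/-! ### the root elements are isometries -/

section isom

variable {κ : Type} [Fintype κ] [DecidableEq κ] (M : QuadraticForm K (κ → K))

/-- the quadratic form `∑ x_i y_i + M w` on `K^(Idx m ⊕ κ)`. -/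
def qW (m : ℕ) (M : QuadraticForm K (κ → K)) (v : Idx m ⊕ κ → K) : K :=
  Cfsg.quadFormPlus m K (v ∘ Sum.inl) + M (v ∘ Sum.inr)

theorem qW_elim (x : Idx m → K) (u : κ → K) :
    qW m M (Sum.elim x u) = Cfsg.quadFormPlus m K x + M u := by
  unfold qW
  rw [Sum.elim_comp_inl, Sum.elim_comp_inr]

theorem om_elim_eta (v : Idx m ⊕ κ → K) : v = Sum.elim (v ∘ Sum.inl) (v ∘ Sum.inr) :=
  (Sum.elim_comp_inl_inr v).symm

theorem bXW_Q {a b : Idx m} (hab : a ≠ b) (t : K) (v : Idx m ⊕ κ → K) :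
    qW m M (bXW a b t *ᵥ v) = qW m M v := by
  rw [om_elim_eta v, bXW_mulVec, qW_elim, qW_elim, oX_Q hab]

theorem bYW_Q (a : Idx m) (w : κ → K) (v : Idx m ⊕ κ → K) :
    qW m M (bYW M a w *ᵥ v) = qW m M v := by
  rw [om_elim_eta v, bYW_mulVec, qW_elim, qW_elim, b1_Q_add_single]
  have h : M (v ∘ Sum.inr - (v ∘ Sum.inl) a.swap • w) =
      M (v ∘ Sum.inr) + (v ∘ Sum.inl) a.swap * (v ∘ Sum.inl) a.swap * M w -
        (v ∘ Sum.inl) a.swap * QuadraticMap.polar M (v ∘ Sum.inr) w := by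
    have h1 : v ∘ Sum.inr - (v ∘ Sum.inl) a.swap • w = v ∘ Sum.inr + (-((v ∘ Sum.inl) a.swap)) • w := by
      rw [neg_smul, sub_eq_add_neg]
    have h2 : M (v ∘ Sum.inr + (-((v ∘ Sum.inl) a.swap)) • w) =
        M (v ∘ Sum.inr) + M ((-((v ∘ Sum.inl) a.swap)) • w) +
          QuadraticMap.polar M (v ∘ Sum.inr) ((-((v ∘ Sum.inl) a.swap)) • w) := by
      unfold QuadraticMap.polar
      ring
    rw [h1, h2, QuadraticMap.map_smul, QuadraticMap.polar_smul_right]
    simp only [smul_eq_mul]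
    ring
  rw [h]
  ring

theorem bXWu_mem (a b : Idx m) (t : K) :
    (bXWu a b t : Matrix.GeneralLinearGroup (Idx m ⊕ κ) K) ∈ Cfsg.isometryGroup K (qW m M) := by
  by_cases hab : Rt a b
  · intro u v
    show qW m M (((bXWu a b t : Matrix.GeneralLinearGroup (Idx m ⊕ κ) K) :
      Matrix (Idx m ⊕ κ) (Idx m ⊕ κ) K) *ᵥ u) = _
    rw [bXWu_val hab, bXW_Q M hab.1]
  · unfold bXWu
    rw [dif_neg hab]
    exact Subgroup.one_mem _

theorem bYWu_mem (a : Idx m) (w : κ → K) :
    bYWu M a w ∈ Cfsg.isometryGroup K (qW m M) := by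
  intro u v
  show qW m M (((bYWu M a w : Matrix.GeneralLinearGroup (Idx m ⊕ κ) K) :
    Matrix (Idx m ⊕ κ) (Idx m ⊕ κ) K) *ᵥ u) = _
  rw [bYWu_val, bYW_Q]

end isom

/-- `quadFormMinus` is `qW` for the binary form `minusN a b`. -/
theorem quadFormMinus_eq (m : ℕ) (a b : K) :
    Cfsg.quadFormMinus m K a b = qW m (minusN a b) := by
  funext v
  unfold Cfsg.quadFormMinus qW Cfsg.quadFormPlus
  rw [minusN_apply]
  rfl

/-! ### the system in the isometry group and in `Ω` of `quadFormMinus` -/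

section minus

variable (a b : K)

theorem bXWu_mem_minus (a' b' : Idx m) (t : K) :
    (bXWu a' b' t : Matrix.GeneralLinearGroup (Idx m ⊕ Fin 2) K) ∈
      Cfsg.isometryGroup K (Cfsg.quadFormMinus m K a b) := by
  rw [quadFormMinus_eq]
  exact bXWu_mem (minusN a b) a' b' t

theorem bYWu_mem_minus (a' : Idx m) (w : Fin 2 → K) :
    bYWu (minusN a b) a' w ∈ Cfsg.isometryGroup K (Cfsg.quadFormMinus m K a b) := by
  rw [quadFormMinus_eq]
  exact bYWu_mem (minusN a b) a' w

/-- the matrices `bXW`, `bYW (minusN a b)` satisfy the relations of `OW` in the isometry group of `quadFormMinus`. -/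
noncomputable def owGO (m : ℕ) (a b : K) :
    OW m (minusN a b) ↥(Cfsg.isometryGroup K (Cfsg.quadFormMinus m K a b)) :=
  (owGL m (minusN a b)).restrTo (Cfsg.isometryGroup K (Cfsg.quadFormMinus m K a b))
    (fun a' b' _ t => bXWu_mem_minus a b a' b' t) (fun a' w => bYWu_mem_minus a b a' w)

theorem owGO_x_coe {a' b' : Idx m} (hab : Rt a' b') (t : K) :
    (((owGO m a b).x a' b' t : ↥(Cfsg.isometryGroup K (Cfsg.quadFormMinus m K a b))) :
      Matrix.GeneralLinearGroup (Idx m ⊕ Fin 2) K) = (owGL m (minusN a b)).x a' b' t :=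
  OW.restrTo_x (owGL m (minusN a b)) (Cfsg.isometryGroup K (Cfsg.quadFormMinus m K a b))
    (fun a' b' _ t => bXWu_mem_minus a b a' b' t) (fun a' w => bYWu_mem_minus a b a' w) hab t

theorem owGO_x_val {a' b' : Idx m} (hab : Rt a' b') (t : K) :
    ((((owGO m a b).x a' b' t : ↥(Cfsg.isometryGroup K (Cfsg.quadFormMinus m K a b))) :
      Matrix.GeneralLinearGroup (Idx m ⊕ Fin 2) K) : Matrix (Idx m ⊕ Fin 2) (Idx m ⊕ Fin 2) K) =
        bXW a' b' t := by
  rw [owGO_x_coe a b hab, owGL_x_val _ hab]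

theorem owGO_y_val (a' : Idx m) (w : Fin 2 → K) :
    ((((owGO m a b).y a' w : ↥(Cfsg.isometryGroup K (Cfsg.quadFormMinus m K a b))) :
      Matrix.GeneralLinearGroup (Idx m ⊕ Fin 2) K) : Matrix (Idx m ⊕ Fin 2) (Idx m ⊕ Fin 2) K) =
        bYW (minusN a b) a' w := rfl

theorem owGO_x_mem_Omega (hm : 3 ≤ m) {a' c' : Idx m} (hac : Rt a' c') (t : K) :
    (owGO m a b).x a' c' t ∈ Cfsg.Omega K (Cfsg.quadFormMinus m K a b) := by
  obtain ⟨b', hab, hbc⟩ := b1_exists_mid hm a' c'
  have h := (owGO m a b).comm3 a' b' c' hab hbc hac t 1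
  rw [mul_one] at h
  rw [← h]
  exact Subgroup.commutator_mem_commutator (Subgroup.mem_top _) (Subgroup.mem_top _)

theorem om_exists_rt (hm : 3 ≤ m) (a' : Idx m) : ∃ b' : Idx m, Rt a' b' := by
  obtain ⟨b', hab, _⟩ := b1_exists_mid hm a' a'
  exact ⟨b', hab⟩

theorem owGO_y_mem_Omega (hm : 3 ≤ m) (a' : Idx m) (w : Fin 2 → K) :
    (owGO m a b).y a' w ∈ Cfsg.Omega K (Cfsg.quadFormMinus m K a b) := by
  obtain ⟨b', hab⟩ := om_exists_rt hm a'
  have h := (owGO m a b).xy a' b' hab 1 w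
  rw [one_smul, one_mul] at h
  have e : (owGO m a b).y a' w = ((owGO m a b).x a' b' 1 * (owGO m a b).y b' w *
      ((owGO m a b).x a' b' 1)⁻¹ * ((owGO m a b).y b' w)⁻¹) *
        ((owGO m a b).x a' b'.swap (minusN a b w))⁻¹ := by
    rw [h]
    group
  rw [e]
  exact Subgroup.mul_mem _
    (Subgroup.commutator_mem_commutator (Subgroup.mem_top _) (Subgroup.mem_top _))
    (Subgroup.inv_mem _ (owGO_x_mem_Omega a b hm hab.swap_right _))

/-- the matrices `bXW`, `bYW (minusN a b)` satisfy the relations of `OW` in `Ω⁻_{2m+2}(K)` (`m ≥ 3`). -/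
noncomputable def owOmega {m : ℕ} (hm : 3 ≤ m) (a b : K) :
    OW m (minusN a b) ↥(Cfsg.Omega K (Cfsg.quadFormMinus m K a b)) :=
  (owGO m a b).restrTo (Cfsg.Omega K (Cfsg.quadFormMinus m K a b))
    (fun a' b' h t => owGO_x_mem_Omega a b hm h t) (fun a' w => owGO_y_mem_Omega a b hm a' w)

theorem owOmega_x_val {m : ℕ} (hm : 3 ≤ m) {a' b' : Idx m} (h : Rt a' b') (t : K) :
    (((((owOmega hm a b).x a' b' t : ↥(Cfsg.Omega K (Cfsg.quadFormMinus m K a b))) :
      ↥(Cfsg.isometryGroup K (Cfsg.quadFormMinus m K a b))) :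
        Matrix.GeneralLinearGroup (Idx m ⊕ Fin 2) K) : Matrix (Idx m ⊕ Fin 2) (Idx m ⊕ Fin 2) K) =
          bXW a' b' t := by
  have e : (((owOmega hm a b).x a' b' t : ↥(Cfsg.Omega K (Cfsg.quadFormMinus m K a b))) :
      ↥(Cfsg.isometryGroup K (Cfsg.quadFormMinus m K a b))) = (owGO m a b).x a' b' t :=
    OW.restrTo_x (owGO m a b) (Cfsg.Omega K (Cfsg.quadFormMinus m K a b))
      (fun a' b' h t => owGO_x_mem_Omega a b hm h t) (fun a' w => owGO_y_mem_Omega a b hm a' w) h t
  rw [e, owGO_x_val a b h]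

theorem owOmega_y_val {m : ℕ} (hm : 3 ≤ m) (a' : Idx m) (w : Fin 2 → K) :
    (((((owOmega hm a b).y a' w : ↥(Cfsg.Omega K (Cfsg.quadFormMinus m K a b))) :
      ↥(Cfsg.isometryGroup K (Cfsg.quadFormMinus m K a b))) :
        Matrix.GeneralLinearGroup (Idx m ⊕ Fin 2) K) : Matrix (Idx m ⊕ Fin 2) (Idx m ⊕ Fin 2) K) =
          bYW (minusN a b) a' w := rfl

end minus

/-! ### entry formulas -/

section entries

theorem bXW_mul_apply_inl (a b : Idx m) (t : K) (M : Matrix (Idx m ⊕ ι) (Idx m ⊕ ι) K)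
    (i : Idx m) (s : Idx m ⊕ ι) :
    ((bXW a b t : Matrix (Idx m ⊕ ι) (Idx m ⊕ ι) K) * M) (Sum.inl i) s = M (Sum.inl i) s + (if i = a then t * M (Sum.inl b) s else 0) -
      (if i = b.swap then t * M (Sum.inl a.swap) s else 0) := by
  unfold bXW oX
  rw [Matrix.mul_apply, Fintype.sum_sum_type]
  simp only [Matrix.fromBlocks_apply₁₁, Matrix.fromBlocks_apply₁₂, Matrix.zero_apply, zero_mul,
    Finset.sum_const_zero, add_zero, Matrix.sub_apply, Matrix.add_apply, Matrix.one_apply,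
    Matrix.single_apply, sub_mul, add_mul, Finset.sum_sub_distrib, Finset.sum_add_distrib,
    ite_mul, one_mul, zero_mul, Finset.sum_ite_eq, Finset.mem_univ, if_true]
  congr 1
  · congr 1
    by_cases h : i = a
    · subst h
      simp
    · simp [h, Ne.symm h]
  · by_cases h : i = b.swap
    · subst h
      simp
    · simp [h, Ne.symm h]

theorem bXW_mul_apply_inr (a b : Idx m) (t : K) (M : Matrix (Idx m ⊕ ι) (Idx m ⊕ ι) K)
    (j : ι) (s : Idx m ⊕ ι) : ((bXW a b t : Matrix (Idx m ⊕ ι) (Idx m ⊕ ι) K) * M) (Sum.inr j) s = M (Sum.inr j) s := by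
  unfold bXW
  rw [Matrix.mul_apply, Fintype.sum_sum_type]
  simp [Matrix.one_apply]

theorem mul_bXW_apply_inl (a b : Idx m) (t : K) (M : Matrix (Idx m ⊕ ι) (Idx m ⊕ ι) K)
    (r : Idx m ⊕ ι) (i : Idx m) :
    (M * (bXW a b t : Matrix (Idx m ⊕ ι) (Idx m ⊕ ι) K)) r (Sum.inl i) = M r (Sum.inl i) + (if i = b then M r (Sum.inl a) * t else 0) -
      (if i = a.swap then M r (Sum.inl b.swap) * t else 0) := by
  unfold bXW oX
  rw [Matrix.mul_apply, Fintype.sum_sum_type]
  simp only [Matrix.fromBlocks_apply₁₁, Matrix.fromBlocks_apply₂₁, Matrix.zero_apply, mul_zero,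
    Finset.sum_const_zero, add_zero, Matrix.sub_apply, Matrix.add_apply, Matrix.one_apply,
    Matrix.single_apply, mul_sub, mul_add, Finset.sum_sub_distrib, Finset.sum_add_distrib,
    mul_ite, mul_one, mul_zero, Finset.sum_ite_eq', Finset.mem_univ, if_true]
  congr 1
  · congr 1
    by_cases h : i = b
    · subst h
      simp
    · simp [h, Ne.symm h]
  · by_cases h : i = a.swap
    · subst h
      simp
    · simp [h, Ne.symm h]

theorem mul_bXW_apply_inr (a b : Idx m) (t : K) (M : Matrix (Idx m ⊕ ι) (Idx m ⊕ ι) K)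
    (r : Idx m ⊕ ι) (j : ι) : (M * (bXW a b t : Matrix (Idx m ⊕ ι) (Idx m ⊕ ι) K)) r (Sum.inr j) = M r (Sum.inr j) := by
  unfold bXW
  rw [Matrix.mul_apply, Fintype.sum_sum_type]
  simp [Matrix.one_apply]

theorem bYW_mul_apply_inl (a : Idx m) (w : ι → K) (M : Matrix (Idx m ⊕ ι) (Idx m ⊕ ι) K)
    (i : Idx m) (s : Idx m ⊕ ι) :
    (bYW N a w * M) (Sum.inl i) s = M (Sum.inl i) s +
      (if i = a then (∑ j, QuadraticMap.polar N (Pi.single j 1) w * M (Sum.inr j) s) -
        N w * M (Sum.inl a.swap) s else 0) := by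
  unfold bYW
  rw [Matrix.mul_apply, Fintype.sum_sum_type]
  simp only [Matrix.fromBlocks_apply₁₁, Matrix.fromBlocks_apply₁₂, Matrix.sub_apply,
    Matrix.one_apply, Matrix.single_apply, Matrix.of_apply, sub_mul, ite_mul, one_mul, zero_mul,
    Finset.sum_sub_distrib, Finset.sum_ite_eq, Finset.mem_univ, if_true]
  by_cases h : i = a
  · subst h
    simp
    ring
  · simp [h, Ne.symm h]

theorem bYW_mul_apply_inr (a : Idx m) (w : ι → K) (M : Matrix (Idx m ⊕ ι) (Idx m ⊕ ι) K)
    (j : ι) (s : Idx m ⊕ ι) :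
    (bYW N a w * M) (Sum.inr j) s = M (Sum.inr j) s - w j * M (Sum.inl a.swap) s := by
  unfold bYW
  rw [Matrix.mul_apply, Fintype.sum_sum_type]
  simp [Matrix.one_apply]
  ring

theorem mul_bYW_apply_inl (a : Idx m) (w : ι → K) (M : Matrix (Idx m ⊕ ι) (Idx m ⊕ ι) K)
    (r : Idx m ⊕ ι) (i : Idx m) :
    (M * bYW N a w) r (Sum.inl i) = M r (Sum.inl i) -
      (if i = a.swap then M r (Sum.inl a) * N w + ∑ j, M r (Sum.inr j) * w j else 0) := by
  unfold bYW
  rw [Matrix.mul_apply, Fintype.sum_sum_type]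
  simp only [Matrix.fromBlocks_apply₁₁, Matrix.fromBlocks_apply₂₁, Matrix.sub_apply,
    Matrix.one_apply, Matrix.single_apply, Matrix.of_apply, mul_sub, mul_ite, mul_one, mul_zero,
    Finset.sum_sub_distrib, Finset.sum_ite_eq', Finset.mem_univ, if_true]
  by_cases h : i = a.swap
  · subst h
    simp [Finset.sum_neg_distrib]
    ring
  · simp [h, Ne.symm h]

theorem mul_bYW_apply_inr (a : Idx m) (w : ι → K) (M : Matrix (Idx m ⊕ ι) (Idx m ⊕ ι) K)
    (r : Idx m ⊕ ι) (j : ι) :
    (M * bYW N a w) r (Sum.inr j) = M r (Sum.inr j) +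
      M r (Sum.inl a) * QuadraticMap.polar N (Pi.single j 1) w := by
  unfold bYW
  rw [Matrix.mul_apply, Fintype.sum_sum_type]
  simp [Matrix.one_apply]
  ring

end entries

end Cfsg.Agent.CtRecM
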