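import Mathlib
import Cfsg.Agent.CtRecD.SchCliff
import Cfsg.Agent.CtRecB.ObSpin

set_option autoImplicit false
set_option linter.unusedSectionVars false
set_option linter.unusedVariables false
set_option linter.unusedSimpArgs false

/-!
# S2099, piece P13a (helper9): the ring identities of the spin model of type `²D_{m+1}` / `B_m` with a generic anisotropic part

`A = γ_a`, `B = γ_b`, `B' = γ_b̄` satisfy the canonical anticommutation relations; `G = g w`, `G' = g w'` are images of vectors of the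
anisotropic space: `G * G = ν • 1` (`ν = N w`), `G * G' + G' * G = β • 1` (`β = polar N w w'`), and they anticommute with all `γ x`.
-/

namespace Cfsg.Agent.CtRecM

section ring

variable {R : Type*} [Ring R] {K : Type*} [Field K] [Algebra K R]

/-- the relation `xy`: `[x_{ab}(t), y_b(w)] = y_a(t • w) x_{ab̄}(t N(w))`. -/
theorem clw_xy (A B B' G : R) (ν : K)
    (hA : A * A = 0) (hB : B * B = 0) (hB' : B' * B' = 0) (hG : G * G = ν • (1 : R))
    (hBB : B' * B = 1 - B * B')
    (hBA : B * A = -(A * B)) (hB'A : B' * A = -(A * B'))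
    (hGA : G * A = -(A * G)) (hGB : G * B = -(B * G)) (hGB' : G * B' = -(B' * G)) (t : K) :
    (1 + t • (A * B')) * (1 + B * G) =
      (1 + t • (A * G)) * ((1 + (t * ν) • (A * B)) * ((1 + B * G) * (1 + t • (A * B')))) := by
  have hAz : ∀ z, A * (A * z) = 0 := fun z => by rw [← mul_assoc, hA, zero_mul]
  have hBz : ∀ z, B * (B * z) = 0 := fun z => by rw [← mul_assoc, hB, zero_mul]
  have hB'z : ∀ z, B' * (B' * z) = 0 := fun z => by rw [← mul_assoc, hB', zero_mul]
  have hGz : ∀ z, G * (G * z) = ν • z := fun z => by rw [← mul_assoc, hG, smul_mul_assoc, one_mul]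
  have hBBz : ∀ z, B' * (B * z) = z - B * (B' * z) := fun z => by
    rw [← mul_assoc, hBB, sub_mul, one_mul, mul_assoc]
  have hBAz : ∀ z, B * (A * z) = -(A * (B * z)) := fun z => by
    rw [← mul_assoc, hBA, neg_mul, mul_assoc]
  have hB'Az : ∀ z, B' * (A * z) = -(A * (B' * z)) := fun z => by
    rw [← mul_assoc, hB'A, neg_mul, mul_assoc]
  have hGAz : ∀ z, G * (A * z) = -(A * (G * z)) := fun z => by
    rw [← mul_assoc, hGA, neg_mul, mul_assoc]
  have hGBz : ∀ z, G * (B * z) = -(B * (G * z)) := fun z => by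
    rw [← mul_assoc, hGB, neg_mul, mul_assoc]
  have hGB'z : ∀ z, G * (B' * z) = -(B' * (G * z)) := fun z => by
    rw [← mul_assoc, hGB', neg_mul, mul_assoc]
  simp only [mul_add, add_mul, mul_sub, sub_mul, mul_neg, neg_mul, mul_one, one_mul, mul_zero,
    zero_mul, mul_assoc, smul_mul_assoc, mul_smul_comm, smul_add, smul_sub, smul_neg, smul_zero,
    hA, hB, hB', hG, hBB, hBA, hB'A, hGA, hGB, hGB', hAz, hBz, hB'z, hGz,
    hBBz, hBAz, hB'Az, hGAz, hGBz, hGB'z, neg_neg, sub_zero, add_zero, zero_add, neg_zero,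
    zero_sub, sub_neg_eq_add]
  module

/-- the relation `yy`: `[y_a(w), y_b(w')] = x_{ab̄}(-B(w,w'))`. -/
theorem clw_yy (A B G G' : R) (β : K) (hA : A * A = 0) (hB : B * B = 0)
    (hGG : G * G' = β • (1 : R) - G' * G)
    (hBA : B * A = -(A * B)) (hGA : G * A = -(A * G)) (hGB : G * B = -(B * G))
    (hG'A : G' * A = -(A * G')) (hG'B : G' * B = -(B * G')) :
    (1 + A * G) * (1 + B * G') =
      (1 + (-β) • (A * B)) * ((1 + B * G') * (1 + A * G)) := by
  have hAz : ∀ z, A * (A * z) = 0 := fun z => by rw [← mul_assoc, hA, zero_mul]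
  have hBz : ∀ z, B * (B * z) = 0 := fun z => by rw [← mul_assoc, hB, zero_mul]
  have hGGz : ∀ z, G * (G' * z) = β • z - G' * (G * z) := fun z => by
    rw [← mul_assoc, hGG, sub_mul, smul_mul_assoc, one_mul, mul_assoc]
  have hBAz : ∀ z, B * (A * z) = -(A * (B * z)) := fun z => by
    rw [← mul_assoc, hBA, neg_mul, mul_assoc]
  have hGAz : ∀ z, G * (A * z) = -(A * (G * z)) := fun z => by
    rw [← mul_assoc, hGA, neg_mul, mul_assoc]
  have hGBz : ∀ z, G * (B * z) = -(B * (G * z)) := fun z => by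
    rw [← mul_assoc, hGB, neg_mul, mul_assoc]
  have hG'Az : ∀ z, G' * (A * z) = -(A * (G' * z)) := fun z => by
    rw [← mul_assoc, hG'A, neg_mul, mul_assoc]
  have hG'Bz : ∀ z, G' * (B * z) = -(B * (G' * z)) := fun z => by
    rw [← mul_assoc, hG'B, neg_mul, mul_assoc]
  simp only [mul_add, add_mul, mul_sub, sub_mul, mul_neg, neg_mul, mul_one, one_mul, mul_zero,
    zero_mul, mul_assoc, smul_mul_assoc, mul_smul_comm, smul_add, smul_sub, smul_neg, smul_zero,
    hA, hB, hGG, hBA, hGA, hGB, hG'A, hG'B, hAz, hBz, hGGz, hBAz, hGAz, hGBz, hG'Az, hG'Bz,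
    neg_neg, sub_zero, add_zero, zero_add, neg_zero, zero_sub, sub_neg_eq_add]
  module

/-- `(A G)² = 0`. -/
theorem clw_sq (A G : R) (hA : A * A = 0) (hGA : G * A = -(A * G)) : (A * G) * (A * G) = 0 := by
  rw [mul_assoc, ← mul_assoc G, hGA, neg_mul, mul_neg, mul_assoc, ← mul_assoc A A, hA, zero_mul,
    neg_zero]

/-- additivity: `(1 + A G)(1 + A G') = 1 + A (G + G')`. -/
theorem clw_add (A G G' : R) (hA : A * A = 0) (hGA : G * A = -(A * G)) :
    (1 + A * G) * (1 + A * G') = 1 + A * (G + G') := by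
  have h : (A * G) * (A * G') = 0 := by
    rw [mul_assoc, ← mul_assoc G, hGA, neg_mul, mul_neg, mul_assoc, ← mul_assoc A A, hA, zero_mul,
      neg_zero]
  simp only [mul_add, add_mul, mul_one, one_mul, h, add_zero, add_assoc]

/-- `x_{ab}(t)` and `y_c(w)` commute (`c ≠ b`, `c ≠ ā`): `A = γ_a`, `B' = γ_b̄`, `C = γ_c`. -/
theorem clw_comm (A B' C G : R) (hCA : C * A = -(A * C)) (hCB' : C * B' = -(B' * C))
    (hGA : G * A = -(A * G)) (hGB' : G * B' = -(B' * G)) :
    (A * B') * (C * G) = (C * G) * (A * B') := by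
  have hCAz : ∀ z, C * (A * z) = -(A * (C * z)) := fun z => by
    rw [← mul_assoc, hCA, neg_mul, mul_assoc]
  have hCB'z : ∀ z, C * (B' * z) = -(B' * (C * z)) := fun z => by
    rw [← mul_assoc, hCB', neg_mul, mul_assoc]
  have hGAz : ∀ z, G * (A * z) = -(A * (G * z)) := fun z => by
    rw [← mul_assoc, hGA, neg_mul, mul_assoc]
  simp only [mul_assoc, hCAz, hCB'z, hGAz, hGB', hCB', mul_neg, neg_mul, neg_neg]

/-- `w_a(-w₀)² = -1` for `N(w₀) = 1`: `A = γ_a`, `A' = γ_ā`, `G = g w₀`. -/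
theorem clw_hs (A A' G : R) (hA : A * A = 0) (hA' : A' * A' = 0) (hG : G * G = 1)
    (hAA : A' * A = 1 - A * A') (hGA : G * A = -(A * G)) (hGA' : G * A' = -(A' * G)) :
    ((1 - A * G) * (1 - A' * G) * (1 - A * G)) * ((1 - A * G) * (1 - A' * G) * (1 - A * G)) = -1 :=
  Cfsg.Agent.CtRecB.clb_hs A A' G hA hA' hG hAA hGA hGA'

end ring

end Cfsg.Agent.CtRecM
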