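import Mathlib
import Cfsg.Agent.CtRecM.OmSpinA

set_option autoImplicit false

namespace Cfsg.Agent.CtRecM

open Cfsg.Agent.CtRecD

universe u

/-- canonical anticommutation relations with an anisotropic part: `γ x` (`x : Idx m`) and a linear map `g : W → R` with
`g(w)² = N(w)`, anticommuting with the `γ x`. -/
structure CARW (m : ℕ) {K : Type*} [Field K] {W : Type*} [AddCommGroup W] [Module K W]
    (N : QuadraticForm K W) (R : Type*) [Ring R] [Algebra K R] extends CAR m R where
  /-- the anisotropic generators -/
  g : W →ₗ[K] R
  gsq : ∀ w, g w * g w = N w • (1 : R)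
  ganti : ∀ w x, g w * γ x = -(γ x * g w)

namespace CARW

variable {m : ℕ} {K : Type*} [Field K] {W : Type*} [AddCommGroup W] [Module K W]
  {N : QuadraticForm K W} {R : Type*} [Ring R] [Algebra K R] (C : CARW m N R)

theorem gpolar (w w' : W) : C.g w * C.g w' = QuadraticMap.polar N w w' • (1 : R) - C.g w' * C.g w := by
  have h := C.gsq (w + w')
  rw [map_add, mul_add, add_mul, add_mul, C.gsq, C.gsq] at h
  have e : N (w + w') = QuadraticMap.polar N w w' + N w + N w' := by
    unfold QuadraticMap.polar
    ring
  rw [e, add_smul, add_smul] at h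
  have h2 : C.g w * C.g w' + C.g w' * C.g w = QuadraticMap.polar N w w' • (1 : R) := by
    have : N w • (1 : R) + C.g w' * C.g w + (C.g w * C.g w' + N w' • (1 : R)) =
        (C.g w * C.g w' + C.g w' * C.g w) + (N w • (1 : R) + N w' • (1 : R)) := by abel
    rw [this] at h
    have h3 : QuadraticMap.polar N w w' • (1 : R) + N w • (1 : R) + N w' • (1 : R) =
        QuadraticMap.polar N w w' • (1 : R) + (N w • (1 : R) + N w' • (1 : R)) := by abel
    rw [h3] at h
    exact add_right_cancel h
  exact eq_sub_of_add_eq h2

end CARW

section cliff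

open Cfsg.Agent.Helper8.StdForms

variable (m : ℕ) (K : Type u) [Field K] {W : Type u} [AddCommGroup W] [Module K W] (N : QuadraticForm K W)

/-- the canonical anticommutation relations in the Clifford algebra of `hyperbolic ⊥ N`. -/
noncomputable def cliffCARW : CARW m N (CliffordAlgebra ((plusForm K m).prod N)) where
  γ x := CliffordAlgebra.ι ((plusForm K m).prod N) (Pi.single x (1 : K), 0)
  sq x := by
    rw [CliffordAlgebra.ι_sq_scalar, QuadraticMap.prod_apply, cl_plusForm_single, map_zero, add_zero,
      map_zero]
  car x y := by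
    rw [CliffordAlgebra.ι_mul_ι_add_swap, QuadraticMap.polar_prod, cl_polar_single,
      QuadraticMap.polar_zero_left, add_zero]
    split_ifs
    · exact map_one _
    · exact map_zero _
  g := (CliffordAlgebra.ι ((plusForm K m).prod N)).comp (LinearMap.inr K (Idx m → K) W)
  gsq w := by
    rw [LinearMap.comp_apply, LinearMap.inr_apply, CliffordAlgebra.ι_sq_scalar,
      QuadraticMap.prod_apply, map_zero, zero_add, Algebra.algebraMap_eq_smul_one]
  ganti w x := by
    rw [LinearMap.comp_apply, LinearMap.inr_apply]
    have h := CliffordAlgebra.ι_mul_ι_add_swap (Q := (plusForm K m).prod N)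
      ((0 : Idx m → K), w) (Pi.single x (1 : K), (0 : W))
    rw [QuadraticMap.polar_prod, QuadraticMap.polar_zero_left, QuadraticMap.polar_zero_right,
      add_zero, map_zero] at h
    exact eq_neg_of_add_eq_zero_left h

end cliff

end Cfsg.Agent.CtRecM
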