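import Mathlib
import Cfsg.Agent.CtRecM.Defs2
import Cfsg.Agent.CtRecM.OmSpinB

set_option autoImplicit false
set_option linter.unusedSectionVars false
set_option linter.unusedVariables false
set_option linter.unusedSimpArgs false

/-!
# S2099, piece P13 (helper9): a system of type `²D_{m+1}` (`OW`) in which `hs a (-w₀) w₀ ≠ 1` (the spin model)

In a ring with elements `γ x` (`x : Idx m`) with the canonical anticommutation relations and a linear map `g : W → R` with
`g(w)² = N(w)`, anticommuting with all `γ x` (`CARW`), the units `1 + t • γ a γ b̄` and `1 + γ a g(w)` satisfy the Steinberg relations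
of `OW m N` (`CARW.toOW`), and `hs a (-w₀) w₀ = -1` for `N w₀ = 1` (`CARW.toOW_hs`).  The Clifford algebra of `hyperbolic ⊥ N` carries
such elements: `exists_OW_z_ne_one`.
-/

namespace Cfsg.Agent.CtRecM

open Matrix Cfsg.Agent.CtRecD

universe u

namespace CARW

variable {m : ℕ} {K : Type*} [Field K] {W : Type*} [AddCommGroup W] [Module K W]
  {N : QuadraticForm K W} {R : Type*} [Ring R] [Algebra K R] (C : CARW m N R)

/-- the short root elements `1 + γ a g(w)`. -/
def cly (a : Idx m) (w : W) : Rˣ :=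
  clU (C.γ a * C.g w) (clw_sq (C.γ a) (C.g w) (C.sq a) (C.ganti w a))

theorem cly_val (a : Idx m) (w : W) : ((C.cly a w : Rˣ) : R) = 1 + C.γ a * C.g w := rfl

theorem g_smul (a : Idx m) (t : K) (w : W) : C.γ a * C.g (t • w) = t • (C.γ a * C.g w) := by
  rw [map_smul, mul_smul_comm]

/-- the Steinberg relations of `OW m N` for the units `1 + t • γ a γ b̄`, `1 + γ a g(w)`. -/
noncomputable def toOW : OW m N Rˣ where
  toOD := C.toCAR.toOD K
  y := C.cly
  yadd := by
    intro a w w'
    apply Units.ext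
    rw [Units.val_mul, C.cly_val, C.cly_val, C.cly_val,
      clw_add (C.γ a) (C.g w) (C.g w') (C.sq a) (C.ganti w a), map_add]
  yy := by
    intro a b hab w w'
    have hba : b ≠ a.swap := fun e => hab.2 (swap_eq_iff.mp e.symm)
    have h : C.cly a w * C.cly b w' =
        (C.toCAR.toOD K).x a b.swap (-(QuadraticMap.polar N w w')) * (C.cly b w' * C.cly a w) := by
      apply Units.ext
      rw [Units.val_mul, Units.val_mul, Units.val_mul, C.cly_val, C.cly_val, CAR.toOD_x,
        C.toCAR.clx_val hab.swap_right]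
      unfold CAR.sN
      rw [Sum.swap_swap]
      exact clw_yy (C.γ a) (C.γ b) (C.g w) (C.g w') (QuadraticMap.polar N w w') (C.sq a) (C.sq b)
        (C.gpolar w w') (C.toCAR.anti hba) (C.ganti w a) (C.ganti w b) (C.ganti w' a) (C.ganti w' b)
    rw [h]
    group
  xy := by
    intro a b hab t w
    have hba : b ≠ a.swap := fun e => hab.2 (swap_eq_iff.mp e.symm)
    have hb'a : b.swap ≠ a.swap := fun e => hab.1 (swap_inj.mp e).symm
    have h : (C.toCAR.toOD K).x a b t * C.cly b w =
        C.cly a (t • w) * ((C.toCAR.toOD K).x a b.swap (t * N w) *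
          (C.cly b w * (C.toCAR.toOD K).x a b t)) := by
      apply Units.ext
      rw [Units.val_mul, Units.val_mul, Units.val_mul, Units.val_mul, C.cly_val, C.cly_val,
        CAR.toOD_x, CAR.toOD_x, C.toCAR.clx_val hab.swap_right, C.toCAR.clx_val hab, C.g_smul]
      unfold CAR.sN
      rw [Sum.swap_swap]
      exact clw_xy (C.γ a) (C.γ b) (C.γ b.swap) (C.g w) (N w) (C.sq a) (C.sq b) (C.sq b.swap)
        (C.gsq w) (C.toCAR.pair rfl) (C.toCAR.anti hba) (C.toCAR.anti hb'a) (C.ganti w a)
        (C.ganti w b) (C.ganti w b.swap) t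
    rw [h]
    group
  xy_comm := by
    intro a b c hab hcb hca t w
    have e1 : c ≠ b.swap.swap := by rw [Sum.swap_swap]; exact hcb
    apply Units.ext
    rw [Units.val_mul, Units.val_mul, C.cly_val, CAR.toOD_x, C.toCAR.clx_val hab]
    have h := cl_comm (K := K) (clw_comm (C.γ a) (C.γ b.swap) (C.γ c) (C.g w) (C.toCAR.anti hca)
      (C.toCAR.anti e1) (C.ganti w a) (C.ganti w b.swap)) t 1
    rw [one_smul] at h
    exact h

theorem toOW_y (a : Idx m) (w : W) : C.toOW.y a w = C.cly a w := rfl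

theorem toOW_toOD : C.toOW.toOD = C.toCAR.toOD K := rfl

/-- `hs a (-w₀) w₀ = -1` for `N w₀ = 1`. -/
theorem toOW_hs (a : Idx m) {w₀ : W} (h0 : N w₀ = 1) : C.toOW.hs a (-w₀) w₀ = -1 := by
  have k1 : (N (-w₀))⁻¹ • (-w₀) = -w₀ := by rw [QuadraticMap.map_neg, h0, inv_one, one_smul]
  have hG : C.g w₀ * C.g w₀ = 1 := by rw [C.gsq, h0, one_smul]
  apply Units.ext
  unfold OW.hs OW.ws
  simp only [toOW_y, Units.val_mul, C.cly_val, k1, map_neg, mul_neg, Units.val_neg, Units.val_one,
    ← sub_eq_add_neg]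
  exact clw_hs (C.γ a) (C.γ a.swap) (C.g w₀) (C.sq a) (C.sq a.swap) hG (C.toCAR.pair rfl)
    (C.ganti w₀ a) (C.ganti w₀ a.swap)

end CARW

/-- **P13**: a system of type `²D_{m+1}` with `hs a (-w₀) w₀ ≠ 1` (and `zD ≠ 1` for its long roots), if `2 ≠ 0`. -/
theorem exists_OW_z_ne_one {m : ℕ} {K : Type u} [Field K] {W : Type u} [AddCommGroup W] [Module K W]
    (N : QuadraticForm K W) (h2 : (2 : K) ≠ 0) :
    ∃ (M : Type u) (_ : Group M) (S : OW m N M),
      (∀ (a : Idx m) (w₀ : W), N w₀ = 1 → S.hs a (-w₀) w₀ ≠ 1) ∧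
        ∀ p q : Fin m, p ≠ q → S.toOD.zD p q ≠ 1 := by
  have : Invertible (2 : K) := invertibleOfNonzero h2
  have key : (-1 : (CliffordAlgebra ((Cfsg.Agent.Helper8.StdForms.plusForm K m).prod N))ˣ) ≠ 1 := by
    intro e
    have e1 : (-1 : CliffordAlgebra ((Cfsg.Agent.Helper8.StdForms.plusForm K m).prod N)) = 1 := by
      have := congrArg Units.val e
      simpa using this
    have e2 : (algebraMap K (CliffordAlgebra ((Cfsg.Agent.Helper8.StdForms.plusForm K m).prod N))) 2
        = 0 := by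
      rw [map_ofNat]
      calc (2 : CliffordAlgebra ((Cfsg.Agent.Helper8.StdForms.plusForm K m).prod N)) = 1 + 1 := by
            norm_num
        _ = 1 + -1 := by rw [e1]
        _ = 0 := by rw [add_neg_cancel]
    exact h2 ((map_eq_zero_iff _ (RingHom.injective _)).mp e2)
  refine ⟨(CliffordAlgebra ((Cfsg.Agent.Helper8.StdForms.plusForm K m).prod N))ˣ, inferInstance,
    (cliffCARW m K N).toOW, ?_, ?_⟩
  · intro a w₀ h0
    rw [CARW.toOW_hs _ a h0]
    exact key
  · intro p q hpq
    rw [CARW.toOW_toOD, CAR.toOD_zD _ p q hpq]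
    exact key

end Cfsg.Agent.CtRecM
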