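import Mathlib
import Cfsg.Agent.CtRecM.OmMainA
import Cfsg.Agent.CtRecM.OmMat
import Cfsg.Agent.CtRecM.OmSpin
import Cfsg.Agent.CtRecM.OmCextE
import Cfsg.Agent.CtRecM.OmGen2
import Cfsg.Agent.CtRecM.OmD
import Cfsg.Agent.CtRecM.OmE
import Cfsg.Agent.CtRecM.OmG
import Cfsg.Agent.CtRecD.SchMain

set_option autoImplicit false
set_option linter.unusedSectionVars false
set_option linter.unusedVariables false

/-!
# S2099 (Schur multiplier of `PΩ⁻_{2l}(q)`): the assembly (piece P15, helper9)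

`schur_pomega_minus_of`: the Schur multiplier of `PΩ⁻_{2m+2}(q)` is cyclic of order `gcd(4, q^{m+1} + 1)`, given a surjection
`θ₀ : St → Ω⁻` compatible with a matrix representation `φ` of the Steinberg group (piece P9), the statements of piece P4 for the
Steinberg group and the description of the elements with matrix `±1` (piece P12).
-/

namespace Cfsg.Agent.CtRecM

open Cfsg.Agent.CtRecD

universe u

section general

variable {m : ℕ} {K : Type*} [Field K] {W : Type*} [AddCommGroup W] [Module K W]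
  {N : QuadraticForm K W}

/-- homomorphisms of `OW`-systems respect `ws a v`. -/
theorem OW.map_ws {Γ Γ' : Type*} [Group Γ] [Group Γ'] (S : OW m N Γ) (S' : OW m N Γ') (f : Γ →* Γ')
    (hf : ∀ a (w : W), f (S.y a w) = S'.y a w) (a : Idx m) (v : W) : f (S.ws a v) = S'.ws a v := by
  unfold OW.ws
  rw [map_mul, map_mul, hf, hf]

/-- homomorphisms of `OW`-systems respect `hs a v v₀`. -/
theorem OW.map_hs {Γ Γ' : Type*} [Group Γ] [Group Γ'] (S : OW m N Γ) (S' : OW m N Γ') (f : Γ →* Γ')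
    (hf : ∀ a (w : W), f (S.y a w) = S'.y a w) (a : Idx m) (v v₀ : W) :
    f (S.hs a v v₀) = S'.hs a v v₀ := by
  unfold OW.hs
  rw [map_mul, OW.map_ws S S' f hf, OW.map_ws S S' f hf]

end general

/-- in the Steinberg group, `hs a (-w₀) w₀ ≠ 1` for `N w₀ = 1`, if `2 ≠ 0` (spin model). -/
theorem stOW_hs_ne_one {m : ℕ} {K : Type u} [Field K] {W : Type u} [AddCommGroup W] [Module K W]
    (N : QuadraticForm K W) (h2 : (2 : K) ≠ 0) (a : Idx m) {w₀ : W} (h0 : N w₀ = 1) :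
    (stOW m N).hs a (-w₀) w₀ ≠ 1 := by
  intro h
  obtain ⟨M, _, S', hS', _⟩ := exists_OW_z_ne_one (m := m) N h2
  have e := OW.map_hs (stOW m N) S' (stLiftW S') (fun a w => stLiftW_y S' a w) a (-w₀) w₀
  rw [h, map_one] at e
  exact hS' a w₀ h0 e.symm

/-- in the Steinberg group, `zD p q ≠ 1`, if `2 ≠ 0` (spin model). -/
theorem stOW_zD_ne_one {m : ℕ} {K : Type u} [Field K] {W : Type u} [AddCommGroup W] [Module K W]
    (N : QuadraticForm K W) (h2 : (2 : K) ≠ 0) {p q : Fin m} (hpq : p ≠ q) :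
    (stOW m N).toOD.zD p q ≠ 1 := by
  intro h
  obtain ⟨M, _, S', _, hS'⟩ := exists_OW_z_ne_one (m := m) N h2
  have e := OD.map_zD (stOW m N).toOD S'.toOD (stLiftW S')
    (fun a b hab t => stLiftW_x S' hab t) hpq
  rw [h, map_one] at e
  exact hS' p q hpq e.symm

/-- **the Schur multiplier of `PΩ⁻_{2m+2}(q)`, `m ≥ 3`, is cyclic of order `gcd(4, q^{m+1} + 1)`**, given the map of the Steinberg
group onto `Ω⁻` and its matrices (piece P9), the statements of piece P4 for the Steinberg group, and the description of the elements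
with matrix `±1` (piece P12). -/
theorem schur_pomega_minus_of {F : Type u} [Field F] [Fintype F] {m : ℕ} (hm : 3 ≤ m) {a b : F}
    (hab : ∀ z₁ z₂ : F, z₁ ^ 2 + a * z₁ * z₂ + b * z₂ ^ 2 = 0 → z₁ = 0 ∧ z₂ = 0)
    (θ₀ : StW m (minusN a b) →* ↥(Cfsg.Omega F (Cfsg.quadFormMinus m F a b)))
    (hθ₀s : Function.Surjective θ₀)
    (φ : StW m (minusN a b) →* Matrix (Idx m ⊕ Fin 2) (Idx m ⊕ Fin 2) F)
    (hφ : (stOW m (minusN a b)).IsMatW φ)
    (hθφ : ∀ c, ((((θ₀ c : ↥(Cfsg.Omega F (Cfsg.quadFormMinus m F a b))) :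
      ↥(Cfsg.isometryGroup F (Cfsg.quadFormMinus m F a b))) :
        Matrix.GeneralLinearGroup (Idx m ⊕ Fin 2) F) : Matrix (Idx m ⊕ Fin 2) (Idx m ⊕ Fin 2) F) = φ c)
    (H : (stOW m (minusN a b)).P4Hyp)
    (z : StW m (minusN a b)) (hz : φ z = 1)
    (hcases : ∀ c, φ c = 1 → c = 1 ∨ c = z)
    (hneg : (2 : F) ≠ 0 → ∀ c, φ c = -1 → Fintype.card F ^ (m + 1) % 4 = 3 ∧ c * c = z)
    (hex : (2 : F) ≠ 0 → Fintype.card F ^ (m + 1) % 4 = 3 → ∃ c, φ c = -1)
    (hzne : (2 : F) ≠ 0 → z ≠ 1) (hz2 : (2 : F) = 0 → z = 1) :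
    Cfsg.HasCyclicSchurMultiplier (Cfsg.POmega F (Cfsg.quadFormMinus m F a b))
      (Nat.gcd 4 (Fintype.card F ^ (m + 1) + 1)) := by
  set S := stOW m (minusN a b) with hS
  have hgen : Subgroup.closure S.gensW = ⊤ := stOW_gens m (minusN a b)
  have hani : ∀ w : Fin 2 → F, minusN a b w = 0 → w = 0 := fun w hw => minusN_aniso hab hw
  obtain ⟨w1, w1', hw1⟩ := p14f_polar_one (minusN a b) a b (minusN_apply a b) hab
  have hpol : ∃ w w' : Fin 2 → F, QuadraticMap.polar (minusN a b) w w' ≠ 0 :=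
    ⟨w1, w1', by rw [hw1]; exact one_ne_zero⟩
  have hv₀ : minusN a b ![1, 0] ≠ 0 := by
    rw [minusN_apply]
    simp
  have hbruhat : ∀ g : StW m (minusN a b), ∃ u ∈ S.UtW, ∃ w ∈ S.WtW, ∃ u' ∈ S.UtW,
      g = u * w * u' := fun g => S.bruhatW_of hm hani H hv₀ hgen g
  -- the elements with matrix `1` are central
  have hP8 : ∀ c : StW m (minusN a b), φ c = 1 → ∀ g, g * c = c * g := by
    intro c hc
    exact (S.ker_central_W_of hm hpol hgen φ hφ H hbruhat
      (fun g hg => ⟨fun i => (S.UtW_shape φ hφ hg).1 _, (S.UtW_shape φ hφ hg).2.2⟩)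
      (fun g hg h => S.UtW_inj φ hφ hg h) hc).2.1
  have hθ₀c : θ₀.ker ≤ Subgroup.center (StW m (minusN a b)) := by
    intro c hc
    rw [MonoidHom.mem_ker] at hc
    have h1 : φ c = 1 := by
      rw [← hθφ c, hc]
      rfl
    rw [Subgroup.mem_center_iff]
    exact hP8 c h1
  have hperf : commutator (StW m (minusN a b)) = ⊤ := stW_perfect hm
  haveI : Finite (StW m (minusN a b)) := finite_of_central_of_perfect θ₀ hθ₀c hperf
  have hcen : ∀ c, θ₀ c ∈ Subgroup.center ↥(Cfsg.Omega F (Cfsg.quadFormMinus m F a b)) ↔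
      φ c = 1 ∨ φ c = -1 := by
    intro c
    rw [omegaMinus_center_iff hm hab, hθφ]
  exact schur_quot_center_minus_of (l := m + 1) (by omega) θ₀ hθ₀s hθ₀c hperf φ hcen z hz hcases
    hneg hex hzne hz2 (fun E _ ψ hs hc => stW_minus_hsplit hab hm E ψ hs hc)

end Cfsg.Agent.CtRecM
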