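import Mathlib
import Cfsg.Agent.CtRecM.OmMainA
import Cfsg.Agent.CtRecM.OmMain

set_option autoImplicit false
set_option linter.unusedSectionVars false
set_option linter.unusedVariables false

/-!
# S2099, piece P15c (helper9): the assembly, with the hypothesis on the elements with matrix `-1` only for CENTRAL elements
-/

namespace Cfsg.Agent.CtRecM

open Cfsg.Agent.CtRecD

universe u

/-- the kernel is cyclic of order `gcd(4, q^l + 1)`, from its description by matrices (`hneg` only for elements of the kernel). -/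
theorem ker_equiv_minus_of' {F : Type*} [Field F] [Fintype F] {l : ℕ} (hl : 1 ≤ l)
    {ι : Type*} [Fintype ι] [DecidableEq ι]
    {Δ : Type*} [Group Δ] (φ : Δ →* Matrix ι ι F) (H : Subgroup Δ) (z : Δ)
    (hker : ∀ c, c ∈ H ↔ φ c = 1 ∨ φ c = -1)
    (hz : φ z = 1)
    (hcases : ∀ c, φ c = 1 → c = 1 ∨ c = z)
    (hneg : (2 : F) ≠ 0 → ∀ c ∈ H, φ c = -1 → Fintype.card F ^ l % 4 = 3 ∧ c * c = z)
    (hex : (2 : F) ≠ 0 → Fintype.card F ^ l % 4 = 3 → ∃ c, φ c = -1)
    (hzne : (2 : F) ≠ 0 → z ≠ 1) (hz2 : (2 : F) = 0 → z = 1) :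
    Nonempty (Multiplicative (ZMod (Nat.gcd 4 (Fintype.card F ^ l + 1))) ≃* H) := by
  rw [gcd_four_pow_add_one _ _ hl]
  by_cases h2 : (2 : F) = 0
  · -- characteristic 2
    rw [if_pos (two_eq_zero_iff_card_even.mp h2)]
    have hneg1 : (-1 : Matrix ι ι F) = 1 := by
      have : (-1 : F) = 1 := by linear_combination (-1 : F) * h2
      ext i j
      by_cases hij : i = j
      · subst hij
        simp [this]
      · simp [hij]
    refine zmod_equiv_of_zpowers H 1 ?_ 1 orderOf_one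
    rw [Subgroup.zpowers_one_eq_bot, eq_bot_iff]
    intro c hc
    rw [hker, hneg1, or_self] at hc
    rw [Subgroup.mem_bot]
    rcases hcases c hc with h | h
    · exact h
    · rw [h, hz2 h2]
  · have hqodd : ¬ Fintype.card F % 2 = 0 := fun h => h2 (two_eq_zero_iff_card_even.mpr h)
    rw [if_neg hqodd]
    have hz1 := hzne h2
    have hzz : z * z = 1 := by
      have : φ (z * z) = 1 := by rw [map_mul, hz, one_mul]
      rcases hcases _ this with h | h
      · exact h
      · exfalso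
        apply hz1
        have := congrArg (fun x => z⁻¹ * x) h
        simpa using this
    have hzH : z ∈ H := (hker z).mpr (Or.inl hz)
    by_cases hq : Fintype.card F ^ l % 4 = 3
    · rw [if_pos hq]
      obtain ⟨c₀, hc₀⟩ := hex h2 hq
      have hc₀2 : c₀ * c₀ = z := (hneg h2 c₀ ((hker c₀).mpr (Or.inr hc₀)) hc₀).2
      have hord : orderOf c₀ = 2 ^ (1 + 1) := by
        apply orderOf_eq_prime_pow
        · rw [pow_one, pow_two, hc₀2]
          exact hz1
        · have : c₀ ^ 2 ^ (1 + 1) = (c₀ * c₀) * (c₀ * c₀) := by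
            norm_num
            rw [show (4 : ℕ) = 2 + 2 from rfl, pow_add, pow_two]
          rw [this, hc₀2, hzz]
      refine zmod_equiv_of_zpowers H c₀ ?_ 4 hord
      have hc₀H : c₀ ∈ H := (hker c₀).mpr (Or.inr hc₀)
      apply le_antisymm
      · intro c hc
        rcases (hker c).mp hc with h | h
        · rcases hcases c h with h' | h'
          · rw [h']
            exact one_mem _
          · rw [h', ← hc₀2]
            exact mul_mem (Subgroup.mem_zpowers _) (Subgroup.mem_zpowers _)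
        · have h1 : φ (c * c₀) = 1 := by
            rw [map_mul, h, hc₀]
            simp
          rcases hcases _ h1 with h' | h'
          · have : c = c₀⁻¹ := eq_inv_of_mul_eq_one_left h'
            rw [this]
            exact inv_mem (Subgroup.mem_zpowers _)
          · rw [← hc₀2] at h'
            have : c = c₀ := mul_right_cancel h'
            rw [this]
            exact Subgroup.mem_zpowers _
      · rw [Subgroup.zpowers_le]
        exact hc₀H
    · rw [if_neg hq]
      have hord : orderOf z = 2 := orderOf_eq_prime (by rw [pow_two]; exact hzz) hz1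
      refine zmod_equiv_of_zpowers H z ?_ 2 hord
      apply le_antisymm
      · intro c hc
        rcases (hker c).mp hc with h | h
        · rcases hcases c h with h' | h'
          · rw [h']
            exact one_mem _
          · rw [h']
            exact Subgroup.mem_zpowers _
        · exfalso
          exact hq (hneg h2 c hc h).1
      · rw [Subgroup.zpowers_le]
        exact hzH


/-- the abstract assembly of S2099 (`hneg` only for central elements). -/
theorem schur_quot_center_minus_of' {F : Type*} [Field F] [Fintype F] {l : ℕ} (hl : 1 ≤ l)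
    {ι : Type*} [Fintype ι] [DecidableEq ι]
    {Ω : Type u} [Group Ω] {Δ : Type u} [Group Δ] [Finite Δ]
    (θ₀ : Δ →* Ω) (hθ₀s : Function.Surjective θ₀) (hθ₀c : θ₀.ker ≤ Subgroup.center Δ)
    (hperf : commutator Δ = ⊤)
    (φ : Δ →* Matrix ι ι F)
    (hcen : ∀ c, θ₀ c ∈ Subgroup.center Ω ↔ φ c = 1 ∨ φ c = -1)
    (z : Δ) (hz : φ z = 1) (hcases : ∀ c, φ c = 1 → c = 1 ∨ c = z)
    (hneg : (2 : F) ≠ 0 → ∀ c, (∀ g, g * c = c * g) → φ c = -1 →
      Fintype.card F ^ l % 4 = 3 ∧ c * c = z)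
    (hex : (2 : F) ≠ 0 → Fintype.card F ^ l % 4 = 3 → ∃ c, φ c = -1)
    (hzne : (2 : F) ≠ 0 → z ≠ 1) (hz2 : (2 : F) = 0 → z = 1)
    (hsplit : ∀ (E : Type u) [Group E] (ψ : E →* Δ), Function.Surjective ψ →
      ψ.ker ≤ Subgroup.center E → ∃ τ : Δ →* E, ψ.comp τ = MonoidHom.id Δ) :
    Cfsg.HasCyclicSchurMultiplier (Ω ⧸ Subgroup.center Ω) (Nat.gcd 4 (Fintype.card F ^ l + 1)) := by
  set θ : Δ →* Ω ⧸ Subgroup.center Ω := (QuotientGroup.mk' (Subgroup.center Ω)).comp θ₀ with hθ
  have hθs : Function.Surjective θ := (QuotientGroup.mk'_surjective _).comp hθ₀s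
  have hθker : θ.ker = (Subgroup.center Ω).comap θ₀ := by
    ext c
    rw [MonoidHom.mem_ker, Subgroup.mem_comap]
    show (QuotientGroup.mk' _) (θ₀ c) = 1 ↔ _
    rw [← MonoidHom.mem_ker, QuotientGroup.ker_mk']
  have hθc : θ.ker ≤ Subgroup.center Δ := by
    rw [hθker]
    exact comap_center_le_center_of_perfect θ₀ hθ₀c hperf
  have hker : ∀ c, c ∈ θ.ker ↔ φ c = 1 ∨ φ c = -1 := by
    intro c
    rw [hθker, Subgroup.mem_comap, hcen]
  obtain ⟨e⟩ := ker_equiv_minus_of' hl φ θ.ker z hker hz hcases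
    (fun h2 c hc h => hneg h2 c (fun g => (Subgroup.mem_center_iff.mp (hθc hc) g)) h) hex hzne hz2
  refine Cfsg.Agent.Helper7.Sl.schur_of_universal_fin θ hθs hθc hperf ?_ e
  intro Γ _ _ σ hσs hσc
  refine Cfsg.Agent.Helper7.Sl.exists_lift_central σ hσs hσc θ ?_
  intro P ψ hψs hψc
  exact hsplit ↥P ψ hψs hψc


/-- **the Schur multiplier of `PΩ⁻_{2m+2}(q)`, `m ≥ 3`, is cyclic of order `gcd(4, q^{m+1} + 1)`**, given the map of the Steinberg
group onto `Ω⁻` and its matrices (piece P9), the statements of piece P4 for the Steinberg group, and the description of the elements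
with matrix `±1` (piece P12). -/
theorem schur_pomega_minus_of' {F : Type u} [Field F] [Fintype F] {m : ℕ} (hm : 3 ≤ m) {a b : F}
    (hab : ∀ z₁ z₂ : F, z₁ ^ 2 + a * z₁ * z₂ + b * z₂ ^ 2 = 0 → z₁ = 0 ∧ z₂ = 0)
    (θ₀ : StW m (minusN a b) →* ↥(Cfsg.Omega F (Cfsg.quadFormMinus m F a b)))
    (hθ₀s : Function.Surjective θ₀)
    (φ : StW m (minusN a b) →* Matrix (Idx m ⊕ Fin 2) (Idx m ⊕ Fin 2) F)
    (hφ : (stOW m (minusN a b)).IsMatW φ)
    (hθφ : ∀ c, ((((θ₀ c : ↥(Cfsg.Omega F (Cfsg.quadFormMinus m F a b))) :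
      ↥(Cfsg.isometryGroup F (Cfsg.quadFormMinus m F a b))) :
        Matrix.GeneralLinearGroup (Idx m ⊕ Fin 2) F) : Matrix (Idx m ⊕ Fin 2) (Idx m ⊕ Fin 2) F) = φ c)
    (H : (stOW m (minusN a b)).P4Hyp)
    (z : StW m (minusN a b)) (hz : φ z = 1)
    (hcases : ∀ c, φ c = 1 → c = 1 ∨ c = z)
    (hneg : (2 : F) ≠ 0 → ∀ c, (∀ g, g * c = c * g) → φ c = -1 →
      Fintype.card F ^ (m + 1) % 4 = 3 ∧ c * c = z)
    (hex : (2 : F) ≠ 0 → Fintype.card F ^ (m + 1) % 4 = 3 → ∃ c, φ c = -1)
    (hzne : (2 : F) ≠ 0 → z ≠ 1) (hz2 : (2 : F) = 0 → z = 1) :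
    Cfsg.HasCyclicSchurMultiplier (Cfsg.POmega F (Cfsg.quadFormMinus m F a b))
      (Nat.gcd 4 (Fintype.card F ^ (m + 1) + 1)) := by
  set S := stOW m (minusN a b) with hS
  have hgen : Subgroup.closure S.gensW = ⊤ := stOW_gens m (minusN a b)
  have hani : ∀ w : Fin 2 → F, minusN a b w = 0 → w = 0 := fun w hw => minusN_aniso hab hw
  obtain ⟨w1, w1', hw1⟩ := p14f_polar_one (minusN a b) a b (minusN_apply a b) hab
  have hpol : ∃ w w' : Fin 2 → F, QuadraticMap.polar (minusN a b) w w' ≠ 0 :=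
    ⟨w1, w1', by rw [hw1]; exact one_ne_zero⟩
  have hv₀ : minusN a b ![1, 0] ≠ 0 := by
    rw [minusN_apply]
    simp
  have hbruhat : ∀ g : StW m (minusN a b), ∃ u ∈ S.UtW, ∃ w ∈ S.WtW, ∃ u' ∈ S.UtW,
      g = u * w * u' := fun g => S.bruhatW_of hm hani H hv₀ hgen g
  -- the elements with matrix `1` are central
  have hP8 : ∀ c : StW m (minusN a b), φ c = 1 → ∀ g, g * c = c * g := by
    intro c hc
    exact (S.ker_central_W_of hm hpol hgen φ hφ H hbruhat
      (fun g hg => ⟨fun i => (S.UtW_shape φ hφ hg).1 _, (S.UtW_shape φ hφ hg).2.2⟩)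
      (fun g hg h => S.UtW_inj φ hφ hg h) hc).2.1
  have hθ₀c : θ₀.ker ≤ Subgroup.center (StW m (minusN a b)) := by
    intro c hc
    rw [MonoidHom.mem_ker] at hc
    have h1 : φ c = 1 := by
      rw [← hθφ c, hc]
      rfl
    rw [Subgroup.mem_center_iff]
    exact hP8 c h1
  have hperf : commutator (StW m (minusN a b)) = ⊤ := stW_perfect hm
  haveI : Finite (StW m (minusN a b)) := finite_of_central_of_perfect θ₀ hθ₀c hperf
  have hcen : ∀ c, θ₀ c ∈ Subgroup.center ↥(Cfsg.Omega F (Cfsg.quadFormMinus m F a b)) ↔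
      φ c = 1 ∨ φ c = -1 := by
    intro c
    rw [omegaMinus_center_iff hm hab, hθφ]
  exact schur_quot_center_minus_of' (l := m + 1) (by omega) θ₀ hθ₀s hθ₀c hperf φ hcen z hz hcases
    hneg hex hzne hz2 (fun E _ ψ hs hc => stW_minus_hsplit hab hm E ψ hs hc)

end Cfsg.Agent.CtRecM
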