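import Mathlib
import Cfsg.Agent.CtRecM.Defs2
import Cfsg.Agent.CtRecM.OmSt
import Cfsg.Agent.CtRecM.OmMat
import Cfsg.Agent.CtRecM.OmGen2
import Cfsg.Agent.CtRecD.SchSt

set_option autoImplicit false
set_option linter.unusedSectionVars false
set_option linter.unusedVariables false

/-!
# S2099, piece P9, matrix half (helper2): the Steinberg group of type `²D_{m+1}` and the matrices

`stToGLW`, `stToMatW` : the homomorphism from `StW m N` (`N` a quadratic form on `ι → K`) to the matrices which maps the root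
elements to `bXW`, `bYW` (`stToMatW_isMatW`); `stToOmegaW hm a b : StW m (minusN a b) →* Ω⁻_{2m+2}(K)`, its matrix
(`stToOmegaW_val`), `stToMatW_eq_one_iff`, surjectivity given the generation of `Ω` by the root matrices (piece P2), and
finiteness of the Steinberg group given that the kernel is central.  (Port of the second half of `CtRecB/ObSt.lean`.)
-/

namespace Cfsg.Agent.CtRecM

open Matrix Cfsg.Agent.CtRecD

section gl

variable {m : ℕ} {K : Type*} [Field K] {ι : Type*} [Fintype ι] [DecidableEq ι]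
  {N : QuadraticForm K (ι → K)}

/-- the homomorphism from the Steinberg group to `GL`. -/
noncomputable def stToGLW (m : ℕ) {K : Type*} [Field K] {ι : Type*} [Fintype ι] [DecidableEq ι]
    (N : QuadraticForm K (ι → K)) : StW m N →* Matrix.GeneralLinearGroup (Idx m ⊕ ι) K :=
  stLiftW (owGL m N)

/-- the homomorphism from the Steinberg group to the matrices. -/
noncomputable def stToMatW (m : ℕ) {K : Type*} [Field K] {ι : Type*} [Fintype ι] [DecidableEq ι]
    (N : QuadraticForm K (ι → K)) : StW m N →* Matrix (Idx m ⊕ ι) (Idx m ⊕ ι) K :=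
  (Units.coeHom (Matrix (Idx m ⊕ ι) (Idx m ⊕ ι) K)).comp (stToGLW m N)

theorem stToMatW_apply (g : StW m N) :
    stToMatW m N g = ((stToGLW m N g : Matrix.GeneralLinearGroup (Idx m ⊕ ι) K) :
      Matrix (Idx m ⊕ ι) (Idx m ⊕ ι) K) := rfl

theorem stToGLW_x {a b : Idx m} (h : Rt a b) (t : K) :
    stToGLW m N ((stOW m N).x a b t) = (owGL m N).x a b t := stLiftW_x _ h t

theorem stToGLW_y (a : Idx m) (w : ι → K) :
    stToGLW m N ((stOW m N).y a w) = (owGL m N).y a w := stLiftW_y _ a w

theorem stToMatW_x {a b : Idx m} (h : Rt a b) (t : K) :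
    stToMatW m N ((stOW m N).x a b t) = bXW a b t := by
  rw [stToMatW_apply, stToGLW_x h, owGL_x_val N h]

theorem stToMatW_y (a : Idx m) (w : ι → K) :
    stToMatW m N ((stOW m N).y a w) = bYW N a w := by
  rw [stToMatW_apply, stToGLW_y, owGL_y_val]

theorem stToMatW_isMatW : (stOW m N).IsMatW (stToMatW m N) :=
  ⟨fun a b h t => stToMatW_x h t, fun a w => stToMatW_y a w⟩

end gl

section omega

variable {m : ℕ} {K : Type*} [Field K]

/-- the homomorphism from the Steinberg group to `Ω⁻_{2m+2}(K)`. -/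
noncomputable def stToOmegaW (hm : 3 ≤ m) (a b : K) :
    StW m (minusN a b) →* ↥(Cfsg.Omega K (Cfsg.quadFormMinus m K a b)) :=
  stLiftW (owOmega hm a b)

theorem stToOmegaW_x (hm : 3 ≤ m) (a b : K) {a' b' : Idx m} (h : Rt a' b') (t : K) :
    stToOmegaW hm a b ((stOW m (minusN a b)).x a' b' t) = (owOmega hm a b).x a' b' t :=
  stLiftW_x _ h t

theorem stToOmegaW_y (hm : 3 ≤ m) (a b : K) (a' : Idx m) (w : Fin 2 → K) :
    stToOmegaW hm a b ((stOW m (minusN a b)).y a' w) = (owOmega hm a b).y a' w :=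
  stLiftW_y _ a' w

theorem stToOmegaW_GL (hm : 3 ≤ m) (a b : K) :
    (Cfsg.isometryGroup K (Cfsg.quadFormMinus m K a b)).subtype.comp
      ((Cfsg.Omega K (Cfsg.quadFormMinus m K a b)).subtype.comp (stToOmegaW hm a b)) =
        stToGLW m (minusN a b) := by
  apply stW_hom_ext
  · intro a' b' h t
    apply Units.ext
    have e1 : (((Cfsg.isometryGroup K (Cfsg.quadFormMinus m K a b)).subtype.comp
        ((Cfsg.Omega K (Cfsg.quadFormMinus m K a b)).subtype.comp (stToOmegaW hm a b)))
          ((stOW m (minusN a b)).x a' b' t) : Matrix.GeneralLinearGroup (Idx m ⊕ Fin 2) K) =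
        ((((stToOmegaW hm a b ((stOW m (minusN a b)).x a' b' t) :
          ↥(Cfsg.Omega K (Cfsg.quadFormMinus m K a b))) :
          ↥(Cfsg.isometryGroup K (Cfsg.quadFormMinus m K a b))) :
            Matrix.GeneralLinearGroup (Idx m ⊕ Fin 2) K)) := rfl
    rw [e1, stToOmegaW_x hm a b h, owOmega_x_val a b hm h]
    have e2 := stToMatW_x (N := minusN a b) h t
    rw [stToMatW_apply] at e2
    exact e2.symm
  · intro a' w
    apply Units.ext
    have e1 : (((Cfsg.isometryGroup K (Cfsg.quadFormMinus m K a b)).subtype.comp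
        ((Cfsg.Omega K (Cfsg.quadFormMinus m K a b)).subtype.comp (stToOmegaW hm a b)))
          ((stOW m (minusN a b)).y a' w) : Matrix.GeneralLinearGroup (Idx m ⊕ Fin 2) K) =
        ((((stToOmegaW hm a b ((stOW m (minusN a b)).y a' w) :
          ↥(Cfsg.Omega K (Cfsg.quadFormMinus m K a b))) :
          ↥(Cfsg.isometryGroup K (Cfsg.quadFormMinus m K a b))) :
            Matrix.GeneralLinearGroup (Idx m ⊕ Fin 2) K)) := rfl
    rw [e1, stToOmegaW_y hm a b, owOmega_y_val a b hm]
    have e2 := stToMatW_y (N := minusN a b) a' w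
    rw [stToMatW_apply] at e2
    exact e2.symm

/-- the matrix of the image in `Ω⁻_{2m+2}(K)`. -/
theorem stToOmegaW_val (hm : 3 ≤ m) (a b : K) (c : StW m (minusN a b)) :
    ((((stToOmegaW hm a b c : ↥(Cfsg.Omega K (Cfsg.quadFormMinus m K a b))) :
      ↥(Cfsg.isometryGroup K (Cfsg.quadFormMinus m K a b))) :
        Matrix.GeneralLinearGroup (Idx m ⊕ Fin 2) K) : Matrix (Idx m ⊕ Fin 2) (Idx m ⊕ Fin 2) K) =
      stToMatW m (minusN a b) c := by
  rw [stToMatW_apply, ← stToOmegaW_GL hm a b]
  rfl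

theorem stToMatW_eq_one_iff (hm : 3 ≤ m) (a b : K) (g : StW m (minusN a b)) :
    stToMatW m (minusN a b) g = 1 ↔ stToOmegaW hm a b g = 1 := by
  rw [← stToOmegaW_val hm a b]
  constructor
  · intro h
    apply Subtype.ext
    apply Subtype.ext
    apply Units.ext
    exact h
  · intro h
    rw [h]
    rfl

/-- **`St(²D_{m+1}, K) → Ω⁻_{2m+2}(K)` is surjective**, given that `Ω` lies in the subgroup of `GL` generated by the
root matrices (piece P2: `omegaMinus_eq_closure`). -/
theorem stToOmegaW_surjective_of (hm : 3 ≤ m) (a b : K)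
    (hP2 : (Cfsg.Omega K (Cfsg.quadFormMinus m K a b)).map
        (Cfsg.isometryGroup K (Cfsg.quadFormMinus m K a b)).subtype ≤
      Subgroup.closure {g : Matrix.GeneralLinearGroup (Idx m ⊕ Fin 2) K |
        (∃ a' b' t, Rt a' b' ∧ (g : Matrix (Idx m ⊕ Fin 2) (Idx m ⊕ Fin 2) K) = bXW a' b' t) ∨
          ∃ a' w, (g : Matrix (Idx m ⊕ Fin 2) (Idx m ⊕ Fin 2) K) = bYW (minusN a b) a' w}) :
    Function.Surjective (stToOmegaW hm a b) := by
  -- the image of the range in `GL`
  have hle : (Cfsg.Omega K (Cfsg.quadFormMinus m K a b)).map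
      (Cfsg.isometryGroup K (Cfsg.quadFormMinus m K a b)).subtype ≤
        (stToGLW m (minusN a b)).range := by
    refine hP2.trans ?_
    rw [Subgroup.closure_le]
    rintro g (⟨a', b', t, hab, hg⟩ | ⟨a', w, hg⟩)
    · refine ⟨(stOW m (minusN a b)).x a' b' t, ?_⟩
      apply Units.ext
      rw [hg, ← stToMatW_x (N := minusN a b) hab t, stToMatW_apply]
    · refine ⟨(stOW m (minusN a b)).y a' w, ?_⟩
      apply Units.ext
      rw [hg, ← stToMatW_y (N := minusN a b) a' w, stToMatW_apply]
  intro ω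
  have h1 : ((ω : ↥(Cfsg.isometryGroup K (Cfsg.quadFormMinus m K a b))) :
      Matrix.GeneralLinearGroup (Idx m ⊕ Fin 2) K) ∈ (stToGLW m (minusN a b)).range :=
    hle ⟨ω.1, ω.2, rfl⟩
  obtain ⟨c, hc⟩ := h1
  refine ⟨c, ?_⟩
  apply Subtype.ext
  apply Subtype.ext
  rw [← hc, ← stToOmegaW_GL hm a b]
  rfl

/-- **`St(²D_{m+1}, K) → Ω⁻_{2m+2}(K)` is surjective** (finite `K`, binary part anisotropic; from piece P2). -/
theorem stToOmegaW_surjective [Finite K] (hm : 3 ≤ m) {a b : K}
    (hab : ∀ z₁ z₂ : K, z₁ ^ 2 + a * z₁ * z₂ + b * z₂ ^ 2 = 0 → z₁ = 0 ∧ z₂ = 0) :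
    Function.Surjective (stToOmegaW (K := K) hm a b) :=
  stToOmegaW_surjective_of hm a b (omegaMinus_eq_closure_of_finite hm hab).le

/-- the Steinberg group over a finite field is finite, given that the kernel of the map to `Ω` is
central (`m ≥ 3`). -/
theorem stW_finite_of [Finite K] (hm : 3 ≤ m) (a b : K)
    (hcen : (stToOmegaW (K := K) hm a b).ker ≤ Subgroup.center (StW m (minusN a b))) :
    Finite (StW m (minusN a b)) := by
  have : Fintype K := Fintype.ofFinite K
  have hfin : Finite ↥(Cfsg.Omega K (Cfsg.quadFormMinus m K a b)) := inferInstance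
  exact finite_of_central_of_perfect (stToOmegaW hm a b) hcen (stW_perfect hm)

end omega

end Cfsg.Agent.CtRecM
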