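import Mathlib
import Cfsg.Agent.CtRecM.OmMainB
import Cfsg.Agent.CtRecM.OmSt2
import Cfsg.Agent.CtRecM.OmBb

set_option autoImplicit false
set_option linter.unusedSectionVars false
set_option linter.unusedVariables false

/-!
# S2099, piece P15d (helper9): the statement of S2099 from the seven facts of piece P12
-/

namespace Cfsg.Agent.CtRecM

open Cfsg.Agent.CtRecD

universe u

/-- **S2099 from the description of the elements of the Steinberg group with matrix `±1`** (piece P12). -/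
theorem schur_pomega_minus_final_of {F : Type u} [Field F] [Fintype F] (l : ℕ) (hl : 4 ≤ l) (a b : F)
    (hab : ∀ z₁ z₂ : F, z₁ ^ 2 + a * z₁ * z₂ + b * z₂ ^ 2 = 0 → z₁ = 0 ∧ z₂ = 0)
    (z : StW (l - 1) (minusN a b)) (hz : stToMatW (l - 1) (minusN a b) z = 1)
    (hcases : ∀ c, stToMatW (l - 1) (minusN a b) c = 1 → c = 1 ∨ c = z)
    (hneg : (2 : F) ≠ 0 → ∀ c, (∀ g, g * c = c * g) → stToMatW (l - 1) (minusN a b) c = -1 →
      Fintype.card F ^ (l - 1 + 1) % 4 = 3 ∧ c * c = z)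
    (hex : (2 : F) ≠ 0 → Fintype.card F ^ (l - 1 + 1) % 4 = 3 →
      ∃ c, stToMatW (l - 1) (minusN a b) c = -1)
    (hzne : (2 : F) ≠ 0 → z ≠ 1) (hz2 : (2 : F) = 0 → z = 1) :
    Cfsg.HasCyclicSchurMultiplier (Cfsg.POmega F (Cfsg.quadFormMinus (l - 1) F a b))
      (Nat.gcd 4 (Fintype.card F ^ l + 1)) := by
  have hm : 3 ≤ l - 1 := by omega
  have e : l - 1 + 1 = l := by omega
  have h := schur_pomega_minus_of' hm hab (stToOmegaW hm a b) (stToOmegaW_surjective hm hab)
    (stToMatW (l - 1) (minusN a b)) stToMatW_isMatW (stToOmegaW_val hm a b)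
    ((stOW (l - 1) (minusN a b)).p4Hyp hm) z hz hcases hneg hex hzne hz2
  rw [e] at h
  exact h

end Cfsg.Agent.CtRecM
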