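import Mathlib
import Cfsg.Agent.CtRecM.OmG
import Cfsg.Agent.CtRecM.OmE
import Cfsg.Agent.CtRecM.OmD
import Cfsg.Agent.CtRecM.OmBb

set_option autoImplicit false
set_option linter.unusedSectionVars false
set_option linter.unusedVariables false

/-!
# S2099, pieces P7 + P8, unconditional forms (helper5)

`OW.bruhatW` (the Bruhat decomposition) and `OW.ker_central_W` (= `OW.ker_central_W_all`: the kernel of the homomorphism to the matrices is central, lies in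
`W̃` and is monomial with trivial permutation and trivial action on the short root groups), with the hypotheses on P4 (helper6),
P6 (helper3) discharged.
-/

namespace Cfsg.Agent.CtRecM

open Matrix Cfsg.Agent.CtRecD Cfsg.Agent.CtRecB

variable {m : ℕ} {K : Type*} [Field K]

namespace OW

/-- **the Bruhat decomposition** of a group generated by a system `OW` (`m ≥ 3`, `(W, N)` anisotropic and non-zero). -/
theorem bruhatW {W : Type*} [AddCommGroup W] [Module K W] {N : QuadraticForm K W} {Γ : Type*} [Group Γ]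
    (S : OW m N Γ) (hm : 3 ≤ m) (hani : ∀ w : W, N w = 0 → w = 0) {v₀ : W} (hv₀ : N v₀ ≠ 0)
    (hgen : Subgroup.closure S.gensW = ⊤) (g : Γ) :
    ∃ u ∈ S.UtW, ∃ w ∈ S.WtW, ∃ u' ∈ S.UtW, g = u * w * u' :=
  S.bruhatW_of hm hani (S.p4Hyp hm) hv₀ hgen g

variable {ι : Type*} [Fintype ι] [DecidableEq ι] {N : QuadraticForm K (ι → K)} {Γ : Type*} [Group Γ]
  (S : OW m N Γ)

/-- **the kernel of the homomorphism to the matrices is central, contained in `W̃` and monomial with trivial permutation**;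
moreover it acts trivially on all short root groups. -/
theorem ker_central_W (hm : 3 ≤ m) (hani : ∀ w : ι → K, N w = 0 → w = 0)
    (hpol : ∃ w w' : ι → K, QuadraticMap.polar N w w' ≠ 0) {v₀ : ι → K} (hv₀ : N v₀ ≠ 0)
    (hgen : Subgroup.closure S.gensW = ⊤)
    (φ : Γ →* Matrix (Idx m ⊕ ι) (Idx m ⊕ ι) K) (hφ : S.IsMatW φ) {c : Γ} (hc : φ c = 1) :
    c ∈ S.WtW ∧ (∀ g, g * c = c * g) ∧
      ∃ (a : Idx m → K) (τ : (ι → K) ≃ₗ[K] (ι → K)), S.MonW c 1 a τ ∧ ∀ i v, a i • τ v = v :=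
  S.ker_central_W_of hm hpol hgen φ hφ (S.p4Hyp hm) (S.bruhatW hm hani hv₀ hgen)
    (fun g hg => ⟨fun i => (S.UtW_shape φ hφ hg).1 _, (S.UtW_shape φ hφ hg).2.2⟩)
    (fun g hg h => S.UtW_inj φ hφ hg h) hc

/-- the same statement under the name used between 06:12Z and 06:20Z. -/
theorem ker_central_W_all (hm : 3 ≤ m) (hani : ∀ w : ι → K, N w = 0 → w = 0)
    (hpol : ∃ w w' : ι → K, QuadraticMap.polar N w w' ≠ 0) {v₀ : ι → K} (hv₀ : N v₀ ≠ 0)
    (hgen : Subgroup.closure S.gensW = ⊤)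
    (φ : Γ →* Matrix (Idx m ⊕ ι) (Idx m ⊕ ι) K) (hφ : S.IsMatW φ) {c : Γ} (hc : φ c = 1) :
    c ∈ S.WtW ∧ (∀ g, g * c = c * g) ∧
      ∃ (a : Idx m → K) (τ : (ι → K) ≃ₗ[K] (ι → K)), S.MonW c 1 a τ ∧ ∀ i v, a i • τ v = v :=
  S.ker_central_W hm hani hpol hv₀ hgen φ hφ hc

/-- the coefficients of a kernel element: all `a i` are equal to a common sign `ε = ±1`-like scalar with `ε² = 1`,
and `τ = ε⁻¹ • id`.  Precisely: `a i = a j` for all `i, j` and `a i * a i = 1`. -/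
theorem ker_coeff {c : Γ} {a : Idx m → K} {τ : (ι → K) ≃ₗ[K] (ι → K)} (hM : S.MonW c 1 a τ)
    (hτ : ∀ i v, a i • τ v = v) {v₀ : ι → K} (hv₀ : N v₀ ≠ 0) (i j : Idx m) :
    a i = a j ∧ a i * a i = 1 := by
  have hi := hM.1 i
  have hj := hM.1 j
  -- `τ v₀ = (a i)⁻¹ • v₀ = (a j)⁻¹ • v₀`
  have e1 : τ v₀ = (a i)⁻¹ • v₀ := by
    calc τ v₀ = (a i)⁻¹ • (a i • τ v₀) := by rw [smul_smul, inv_mul_cancel₀ hi, one_smul]
      _ = (a i)⁻¹ • v₀ := by rw [hτ i v₀]
  have e2 : τ v₀ = (a j)⁻¹ • v₀ := by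
    calc τ v₀ = (a j)⁻¹ • (a j • τ v₀) := by rw [smul_smul, inv_mul_cancel₀ hj, one_smul]
      _ = (a j)⁻¹ • v₀ := by rw [hτ j v₀]
  have hv0 : v₀ ≠ 0 := by
    intro e
    rw [e, QuadraticMap.map_zero] at hv₀
    exact hv₀ rfl
  have e3 : (a i)⁻¹ = (a j)⁻¹ := by
    have e4 : ((a i)⁻¹ - (a j)⁻¹) • v₀ = 0 := by
      rw [sub_smul, ← e1, ← e2, sub_self]
    rcases smul_eq_zero.mp e4 with h | h
    · exact sub_eq_zero.mp h
    · exact absurd h hv0
  refine ⟨inv_injective e3, ?_⟩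
  have e5 := hM.2.2.1 v₀
  rw [e1, QuadraticMap.map_smul, smul_eq_mul] at e5
  have e6 : (a i)⁻¹ * (a i)⁻¹ = 1 := by
    have := mul_right_cancel₀ hv₀ (e5.trans (one_mul _).symm)
    exact this
  have e7 : a i * a i * ((a i)⁻¹ * (a i)⁻¹) = 1 := by
    field_simp
  rw [e6, mul_one] at e7
  exact e7

end OW

end Cfsg.Agent.CtRecM
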