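import Mathlib

set_option autoImplicit false
set_option linter.unusedSectionVars false
set_option linter.unusedVariables false

/-!
# S2099, piece `OmR1` (helper7): Steinberg's rank-one theorem — the relations (A), (B') imply (C) over a finite field

`Rk1 L Γ`: elements `xp t`, `xm t` (`t` in a field `L`) of a group `Γ`, additive in `t`, with the relation (B')
`w(t) xp(u) w(t)⁻¹ = xm(-t⁻² u)` for `w(t) = xp(t) xm(-t⁻¹) xp(t)`.  Then `h(t) = w(t) w(-1)` is multiplicative in `t`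
if `L` is finite (`Rk1.h_mul`): Steinberg, Lectures on Chevalley groups, Theorem 9 — the symbol `h(t) h(u) h(tu)⁻¹` commutes with
`xp`, `xm`, is multiplicative modulo squares, symmetric because `Lˣ` is cyclic, and trivial on a pair `t + u = 1` of non-squares.
A port to rank one of the type `A` files `Helper7/SlF.lean`–`SlH.lean`.
-/

namespace Cfsg.Agent.CtRecM

/-- elements `xp t`, `xm t` with the relations (A) and (B') of `SL_2(L)`. -/
structure Rk1 (L : Type*) [Field L] (Γ : Type*) [Group Γ] where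
  /-- the positive root elements -/
  xp : L → Γ
  /-- the negative root elements -/
  xm : L → Γ
  xp_add : ∀ t u : L, xp t * xp u = xp (t + u)
  xm_add : ∀ t u : L, xm t * xm u = xm (t + u)
  conj_xp : ∀ t : L, t ≠ 0 → ∀ u : L,
    (xp t * xm (-t⁻¹) * xp t) * xp u * (xp t * xm (-t⁻¹) * xp t)⁻¹ = xm (-(t ^ 2)⁻¹ * u)

namespace Rk1

variable {L : Type*} [Field L] {Γ : Type*} [Group Γ] (S : Rk1 L Γ)

/-- `w(t) = xp(t) xm(-t⁻¹) xp(t)`. -/
def w (t : L) : Γ := S.xp t * S.xm (-t⁻¹) * S.xp t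

/-- `h(t) = w(t) w(-1)`. -/
def h (t : L) : Γ := S.w t * S.w (-1)

/-- the symbol `h(t) h(u) h(tu)⁻¹`. -/
def sym (t u : L) : Γ := S.h t * S.h u * (S.h (t * u))⁻¹

theorem xp_zero : S.xp 0 = 1 := by
  have h := S.xp_add 0 0
  rw [add_zero] at h
  exact mul_eq_left.mp h

theorem xm_zero : S.xm 0 = 1 := by
  have h := S.xm_add 0 0
  rw [add_zero] at h
  exact mul_eq_left.mp h

theorem xp_inv (t : L) : (S.xp t)⁻¹ = S.xp (-t) := by
  apply inv_eq_of_mul_eq_one_right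
  rw [S.xp_add, add_neg_cancel, S.xp_zero]

theorem xm_inv (t : L) : (S.xm t)⁻¹ = S.xm (-t) := by
  apply inv_eq_of_mul_eq_one_right
  rw [S.xm_add, add_neg_cancel, S.xm_zero]

theorem w_inv (t : L) : (S.w t)⁻¹ = S.w (-t) := by
  unfold w
  rw [mul_inv_rev, mul_inv_rev, S.xp_inv, S.xm_inv, inv_neg, neg_neg, mul_assoc]

/-- (B'): `w(t) xp(u) w(t)⁻¹ = xm(-t⁻² u)`. -/
theorem w_conj_xp {t : L} (ht : t ≠ 0) (u : L) :
    S.w t * S.xp u * (S.w t)⁻¹ = S.xm (-(t ^ 2)⁻¹ * u) := S.conj_xp t ht u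

/-- `w(t) xm(u) w(t)⁻¹ = xp(-t² u)`. -/
theorem w_conj_xm {t : L} (ht : t ≠ 0) (u : L) :
    S.w t * S.xm u * (S.w t)⁻¹ = S.xp (-(t ^ 2) * u) := by
  have e := S.w_conj_xp (neg_ne_zero.mpr ht) (-(t ^ 2) * u)
  rw [← S.w_inv, inv_inv] at e
  have e' : S.xm (-((-t) ^ 2)⁻¹ * (-(t ^ 2) * u)) = S.xm u := by
    congr 1
    field_simp
  rw [e'] at e
  rw [← e]
  group

/-- `w(t) = xm(-t⁻¹) xp(t) xm(-t⁻¹)`. -/
theorem w_eq' {t : L} (ht : t ≠ 0) : S.w t = S.xm (-t⁻¹) * S.xp t * S.xm (-t⁻¹) := by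
  have e1 := S.w_conj_xp ht t
  have e2 := S.w_conj_xm ht (-t⁻¹)
  have p1 : -(t ^ 2)⁻¹ * t = -t⁻¹ := by field_simp
  have p2 : -(t ^ 2) * -t⁻¹ = t := by field_simp
  rw [p1] at e1
  rw [p2] at e2
  calc S.w t = S.w t * S.w t * (S.w t)⁻¹ := by group
    _ = (S.w t * S.xp t * (S.w t)⁻¹) * (S.w t * S.xm (-t⁻¹) * (S.w t)⁻¹) *
          (S.w t * S.xp t * (S.w t)⁻¹) := by
        conv_lhs => rw [show S.w t * S.w t * (S.w t)⁻¹ =
          S.w t * (S.xp t * S.xm (-t⁻¹) * S.xp t) * (S.w t)⁻¹ from rfl]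
        group
    _ = _ := by rw [e1, e2]

/-- `w(t) w(u) w(t)⁻¹ = w(t² u⁻¹)`. -/
theorem w_conj_w {t u : L} (ht : t ≠ 0) (hu : u ≠ 0) :
    S.w t * S.w u * (S.w t)⁻¹ = S.w (t ^ 2 * u⁻¹) := by
  have e1 := S.w_conj_xp ht u
  have e2 := S.w_conj_xm ht (-u⁻¹)
  have hne : t ^ 2 * u⁻¹ ≠ 0 := mul_ne_zero (pow_ne_zero 2 ht) (inv_ne_zero hu)
  rw [S.w_eq' hne]
  have p1 : -(t ^ 2 * u⁻¹)⁻¹ = -(t ^ 2)⁻¹ * u := by
    rw [mul_inv_rev, inv_inv]
    ring
  have p2 : -(t ^ 2) * -u⁻¹ = t ^ 2 * u⁻¹ := by ring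
  rw [p1, ← e1, ← p2, ← e2]
  unfold w
  group

/-- `xm(c) = xp(c⁻¹) w(-c⁻¹) xp(c⁻¹)`. -/
theorem xm_eq {c : L} (hc : c ≠ 0) : S.xm c = S.xp c⁻¹ * S.w (-c⁻¹) * S.xp c⁻¹ := by
  unfold w
  have e1 : -(-c⁻¹)⁻¹ = c := by rw [inv_neg, inv_inv, neg_neg]
  rw [e1]
  have e2 : S.xp c⁻¹ * S.xp (-c⁻¹) = 1 := by rw [S.xp_add, add_neg_cancel, S.xp_zero]
  have e3 : S.xp (-c⁻¹) * S.xp c⁻¹ = 1 := by rw [S.xp_add, neg_add_cancel, S.xp_zero]
  calc S.xm c = (S.xp c⁻¹ * S.xp (-c⁻¹)) * S.xm c * (S.xp (-c⁻¹) * S.xp c⁻¹) := by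
        rw [e2, e3, one_mul, mul_one]
    _ = _ := by simp only [mul_assoc]

/-- `xp(c) = xm(c⁻¹) w(c) xm(c⁻¹)`. -/
theorem xp_eq {c : L} (hc : c ≠ 0) : S.xp c = S.xm c⁻¹ * S.w c * S.xm c⁻¹ := by
  rw [S.w_eq' hc]
  have e2 : S.xm c⁻¹ * S.xm (-c⁻¹) = 1 := by rw [S.xm_add, add_neg_cancel, S.xm_zero]
  have e3 : S.xm (-c⁻¹) * S.xm c⁻¹ = 1 := by rw [S.xm_add, neg_add_cancel, S.xm_zero]
  calc S.xp c = (S.xm c⁻¹ * S.xm (-c⁻¹)) * S.xp c * (S.xm (-c⁻¹) * S.xm c⁻¹) := by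
        rw [e2, e3, one_mul, mul_one]
    _ = _ := by simp only [mul_assoc]

/-- `h(t) xp(u) h(t)⁻¹ = xp(t² u)`. -/
theorem h_conj_xp {t : L} (ht : t ≠ 0) (u : L) :
    S.h t * S.xp u * (S.h t)⁻¹ = S.xp (t ^ 2 * u) := by
  have hm1 : (-1 : L) ≠ 0 := neg_ne_zero.mpr one_ne_zero
  have e1 := S.w_conj_xp hm1 u
  have e2 := S.w_conj_xm ht (-((-1 : L) ^ 2)⁻¹ * u)
  unfold h
  have e3 : S.w t * S.w (-1) * S.xp u * (S.w t * S.w (-1))⁻¹ =
      S.w t * (S.w (-1) * S.xp u * (S.w (-1))⁻¹) * (S.w t)⁻¹ := by group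
  rw [e3, e1, e2]
  congr 1
  ring

/-- `h(t) xm(u) h(t)⁻¹ = xm(t⁻² u)`. -/
theorem h_conj_xm {t : L} (ht : t ≠ 0) (u : L) :
    S.h t * S.xm u * (S.h t)⁻¹ = S.xm ((t ^ 2)⁻¹ * u) := by
  have hm1 : (-1 : L) ≠ 0 := neg_ne_zero.mpr one_ne_zero
  have e1 := S.w_conj_xm hm1 u
  have e2 := S.w_conj_xp ht (-((-1 : L) ^ 2) * u)
  unfold h
  have e3 : S.w t * S.w (-1) * S.xm u * (S.w t * S.w (-1))⁻¹ =
      S.w t * (S.w (-1) * S.xm u * (S.w (-1))⁻¹) * (S.w t)⁻¹ := by group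
  rw [e3, e1, e2]
  congr 1
  ring

/-- `h(t) w(u) h(t)⁻¹ = w(t² u)`. -/
theorem h_conj_w {t : L} (ht : t ≠ 0) (u : L) :
    S.h t * S.w u * (S.h t)⁻¹ = S.w (t ^ 2 * u) := by
  have e1 := S.h_conj_xp ht u
  have e2 := S.h_conj_xm ht (-u⁻¹)
  have e3 : S.h t * S.w u * (S.h t)⁻¹ =
      (S.h t * S.xp u * (S.h t)⁻¹) * (S.h t * S.xm (-u⁻¹) * (S.h t)⁻¹) *
        (S.h t * S.xp u * (S.h t)⁻¹) := by
    unfold w
    group
  rw [e3, e1, e2]
  unfold w
  have hpar : (t ^ 2)⁻¹ * -u⁻¹ = -(t ^ 2 * u)⁻¹ := by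
    rw [_root_.mul_inv_rev]
    ring
  rw [hpar]

theorem w_mul_w_inv (a b : L) : S.w a * (S.w b)⁻¹ = S.h a * (S.h b)⁻¹ := by
  unfold h
  group

theorem h_one : S.h 1 = 1 := by
  unfold h
  rw [← S.w_inv, mul_inv_cancel]

theorem h_mul_w_one (t : L) : S.h t * S.w 1 = S.w t := by
  unfold h
  rw [← S.w_inv]
  group

/-- `h(t) h(u) h(t)⁻¹ = h(t² u) h(t²)⁻¹`. -/
theorem h_conj_h {t : L} (ht : t ≠ 0) (u : L) :
    S.h t * S.h u * (S.h t)⁻¹ = S.h (t ^ 2 * u) * (S.h (t ^ 2))⁻¹ := by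
  have e1 := S.h_conj_w ht u
  have e2 := S.h_conj_w ht (-1)
  have e3 : S.h t * S.h u * (S.h t)⁻¹ =
      (S.h t * S.w u * (S.h t)⁻¹) * (S.h t * S.w (-1) * (S.h t)⁻¹) := by
    have : S.h u = S.w u * S.w (-1) := rfl
    rw [this]
    group
  rw [e3, e1, e2, mul_neg, mul_one, ← S.w_inv, S.w_mul_w_inv]

/-- `w(1) h(s) w(1)⁻¹ = h(s⁻¹)`. -/
theorem w_one_conj_h {s : L} (hs : s ≠ 0) : S.w 1 * S.h s * (S.w 1)⁻¹ = S.h s⁻¹ := by
  have hm1 : (-1 : L) ≠ 0 := neg_ne_zero.mpr one_ne_zero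
  have e1 := S.w_conj_w (one_ne_zero (α := L)) hs
  have e2 := S.w_conj_w (one_ne_zero (α := L)) hm1
  rw [one_pow, one_mul] at e1 e2
  rw [inv_neg, inv_one] at e2
  have e3 : S.w 1 * S.h s * (S.w 1)⁻¹ =
      (S.w 1 * S.w s * (S.w 1)⁻¹) * (S.w 1 * S.w (-1) * (S.w 1)⁻¹) := by
    have : S.h s = S.w s * S.w (-1) := rfl
    rw [this]
    group
  rw [e3, e1, e2]
  rfl

/-- The identity `h(-u) = h(-u/t) h(t)` for `t + u = 1`. -/
theorem h_of_add_eq_one {t u : L} (ht : t ≠ 0) (hu : u ≠ 0) (htu : t + u = 1) :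
    S.h (-u) = S.h (-u / t) * S.h t := by
  have hm1 : (-1 : L) ≠ 0 := neg_ne_zero.mpr one_ne_zero
  have hti : t⁻¹ ≠ 0 := inv_ne_zero ht
  have hnu : -u ≠ 0 := neg_ne_zero.mpr hu
  have ha : -u / t ≠ 0 := div_ne_zero hnu ht
  -- first expression of `xm(1) xp(-u)`
  have f1 : S.xm 1 = S.xp 1 * S.w (-1) * S.xp 1 := by
    have := S.xm_eq (one_ne_zero (α := L))
    rwa [inv_one] at this
  have f2 : S.xp 1 * S.xp (-u) = S.xp t := by
    rw [S.xp_add]
    congr 1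
    rw [← htu]
    ring
  have f3 : S.w (-1) * S.xp t = S.xm (-t) * S.w (-1) := by
    have := S.w_conj_xp hm1 t
    rw [mul_inv_eq_iff_eq_mul] at this
    rw [this]
    congr 2
    ring
  have f4 : S.xm (-t) = S.xp (-t⁻¹) * S.w t⁻¹ * S.xp (-t⁻¹) := by
    have := S.xm_eq (neg_ne_zero.mpr ht)
    rwa [inv_neg, neg_neg] at this
  have f5 : S.xp (-t⁻¹) * S.w (-1) = S.w (-1) * S.xm t⁻¹ := by
    have := S.w_conj_xp (one_ne_zero (α := L)) (-t⁻¹)
    rw [one_pow, inv_one, neg_mul, one_mul, neg_neg] at this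
    rw [← this, ← S.w_inv]
    group
  have E1 : S.xm 1 * S.xp (-u) = S.xp (-u / t) * S.h t⁻¹ * S.xm t⁻¹ := by
    have hpar : (1 : L) + -t⁻¹ = -u / t := by
      field_simp
      rw [← htu]
      ring
    calc S.xm 1 * S.xp (-u)
        = S.xp 1 * S.w (-1) * (S.xp 1 * S.xp (-u)) := by rw [f1]; group
      _ = S.xp 1 * (S.w (-1) * S.xp t) := by rw [f2]; group
      _ = S.xp 1 * S.xm (-t) * S.w (-1) := by rw [f3]; group
      _ = S.xp 1 * S.xp (-t⁻¹) * S.w t⁻¹ * (S.xp (-t⁻¹) * S.w (-1)) := by rw [f4]; group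
      _ = S.xp (1 + -t⁻¹) * (S.w t⁻¹ * S.w (-1)) * S.xm t⁻¹ := by rw [f5, S.xp_add]; group
      _ = _ := by rw [hpar]; rfl
  -- second expression
  have g1 := S.xp_eq hnu
  rw [inv_neg] at g1
  have hainv : (-u / t)⁻¹ = 1 + -u⁻¹ := by
    field_simp
    rw [← htu]
    ring
  have E2 : S.xm 1 * S.xp (-u) = S.xm (-u / t)⁻¹ * S.w (-u) * S.xm (-u⁻¹) := by
    rw [g1, hainv, ← S.xm_add]
    group
  have g2 := S.xp_eq ha
  -- moving `xm` across `h`
  have g3 : S.xm (-u / t)⁻¹ * S.h t⁻¹ = S.h t⁻¹ * S.xm ((t⁻¹) ^ 2 * (-u / t)⁻¹) := by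
    have := S.h_conj_xm hti ((t⁻¹) ^ 2 * (-u / t)⁻¹)
    rw [← mul_assoc, inv_mul_cancel₀ (pow_ne_zero 2 hti), one_mul, mul_inv_eq_iff_eq_mul] at this
    exact this.symm
  have g4 : S.xm ((t⁻¹) ^ 2 * (-u / t)⁻¹) * S.xm t⁻¹ = S.xm (-u⁻¹) := by
    rw [S.xm_add]
    congr 1
    field_simp
    rw [← htu]
    ring
  have I3 : S.w (-u / t) * S.h t⁻¹ = S.w (-u) := by
    have e := E1.symm.trans E2
    rw [g2] at e
    have e' : S.xm (-u / t)⁻¹ * (S.w (-u / t) * S.h t⁻¹) * S.xm (-u⁻¹) =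
        S.xm (-u / t)⁻¹ * S.w (-u) * S.xm (-u⁻¹) := by
      rw [← e, ← g4]
      calc S.xm (-u / t)⁻¹ * (S.w (-u / t) * S.h t⁻¹) *
            (S.xm ((t⁻¹) ^ 2 * (-u / t)⁻¹) * S.xm t⁻¹)
          = S.xm (-u / t)⁻¹ * S.w (-u / t) *
              (S.h t⁻¹ * S.xm ((t⁻¹) ^ 2 * (-u / t)⁻¹)) * S.xm t⁻¹ := by group
        _ = _ := by rw [← g3]; group
    exact mul_left_cancel (mul_right_cancel e')
  rw [← S.h_mul_w_one (-u / t), ← S.h_mul_w_one (-u)] at I3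
  have e6 := S.w_one_conj_h hti
  rw [inv_inv] at e6
  rw [← e6]
  have : S.h (-u) = S.h (-u / t) * S.w 1 * S.h t⁻¹ * (S.w 1)⁻¹ := by
    rw [I3]
    group
  rw [this]
  group

/-! ### the symbol -/

theorem h_mul_eq (t u : L) : S.h t * S.h u = S.sym t u * S.h (t * u) := by
  unfold sym
  group

/-- `h(s)⁻¹ xp(v) h(s) = xp(s⁻² v)`. -/
theorem h_inv_conj_xp {s : L} (hs : s ≠ 0) (v : L) :
    (S.h s)⁻¹ * S.xp v * S.h s = S.xp ((s ^ 2)⁻¹ * v) := by
  have e := S.h_conj_xp hs ((s ^ 2)⁻¹ * v)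
  rw [← mul_assoc, mul_inv_cancel₀ (pow_ne_zero 2 hs), one_mul] at e
  rw [← e]
  group

/-- `h(s)⁻¹ xm(v) h(s) = xm(s² v)`. -/
theorem h_inv_conj_xm {s : L} (hs : s ≠ 0) (v : L) :
    (S.h s)⁻¹ * S.xm v * S.h s = S.xm (s ^ 2 * v) := by
  have e := S.h_conj_xm hs (s ^ 2 * v)
  rw [← mul_assoc, inv_mul_cancel₀ (pow_ne_zero 2 hs), one_mul] at e
  rw [← e]
  group

/-- the symbol commutes with the elements `xp(c)`. -/
theorem sym_comm_xp {t u : L} (ht : t ≠ 0) (hu : u ≠ 0) (c : L) :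
    S.xp c * S.sym t u = S.sym t u * S.xp c := by
  have htu : t * u ≠ 0 := mul_ne_zero ht hu
  have e1 := S.h_inv_conj_xp htu c
  have e2 := S.h_conj_xp hu (((t * u) ^ 2)⁻¹ * c)
  have e3 := S.h_conj_xp ht (u ^ 2 * (((t * u) ^ 2)⁻¹ * c))
  have e4 : t ^ 2 * (u ^ 2 * (((t * u) ^ 2)⁻¹ * c)) = c := by
    field_simp
  rw [e4] at e3
  have key : S.sym t u * S.xp c * (S.sym t u)⁻¹ = S.xp c := by
    unfold sym
    calc S.h t * S.h u * (S.h (t * u))⁻¹ * S.xp c * (S.h t * S.h u * (S.h (t * u))⁻¹)⁻¹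
        = S.h t * (S.h u * ((S.h (t * u))⁻¹ * S.xp c * S.h (t * u)) * (S.h u)⁻¹) * (S.h t)⁻¹ := by
          group
      _ = S.xp c := by rw [e1, e2, e3]
  calc S.xp c * S.sym t u = (S.sym t u * S.xp c * (S.sym t u)⁻¹) * S.sym t u := by rw [key]
    _ = S.sym t u * S.xp c := by group

/-- the symbol commutes with the elements `xm(c)`. -/
theorem sym_comm_xm {t u : L} (ht : t ≠ 0) (hu : u ≠ 0) (c : L) :
    S.xm c * S.sym t u = S.sym t u * S.xm c := by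
  have htu : t * u ≠ 0 := mul_ne_zero ht hu
  have e1 := S.h_inv_conj_xm htu c
  have e2 := S.h_conj_xm hu ((t * u) ^ 2 * c)
  have e3 := S.h_conj_xm ht ((u ^ 2)⁻¹ * ((t * u) ^ 2 * c))
  have e4 : (t ^ 2)⁻¹ * ((u ^ 2)⁻¹ * ((t * u) ^ 2 * c)) = c := by
    field_simp
  rw [e4] at e3
  have key : S.sym t u * S.xm c * (S.sym t u)⁻¹ = S.xm c := by
    unfold sym
    calc S.h t * S.h u * (S.h (t * u))⁻¹ * S.xm c * (S.h t * S.h u * (S.h (t * u))⁻¹)⁻¹
        = S.h t * (S.h u * ((S.h (t * u))⁻¹ * S.xm c * S.h (t * u)) * (S.h u)⁻¹) * (S.h t)⁻¹ := by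
          group
      _ = S.xm c := by rw [e1, e2, e3]
  calc S.xm c * S.sym t u = (S.sym t u * S.xm c * (S.sym t u)⁻¹) * S.sym t u := by rw [key]
    _ = S.sym t u * S.xm c := by group

/-- the symbol is central, if the elements `xp(c)`, `xm(c)` generate the group. -/
theorem sym_central (hgen : Subgroup.closure (Set.range S.xp ∪ Set.range S.xm) = ⊤) {t u : L}
    (ht : t ≠ 0) (hu : u ≠ 0) (g : Γ) : g * S.sym t u = S.sym t u * g := by
  have hle : Subgroup.closure (Set.range S.xp ∪ Set.range S.xm) ≤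
      Subgroup.centralizer {S.sym t u} := by
    rw [Subgroup.closure_le]
    rintro x (⟨c, rfl⟩ | ⟨c, rfl⟩)
    · rw [SetLike.mem_coe, Subgroup.mem_centralizer_iff]
      intro y hy
      rw [Set.mem_singleton_iff] at hy
      rw [hy]
      exact (S.sym_comm_xp ht hu c).symm
    · rw [SetLike.mem_coe, Subgroup.mem_centralizer_iff]
      intro y hy
      rw [Set.mem_singleton_iff] at hy
      rw [hy]
      exact (S.sym_comm_xm ht hu c).symm
  have hg : g ∈ Subgroup.centralizer {S.sym t u} := hle (by rw [hgen]; trivial)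
  rw [Subgroup.mem_centralizer_iff] at hg
  exact (hg _ rfl).symm

/-- **(A), (B') imply (C) over a finite field**, if the elements `xp(c)`, `xm(c)` generate the group. -/
theorem h_mul_of_gen [Finite L] (hgen : Subgroup.closure (Set.range S.xp ∪ Set.range S.xm) = ⊤)
    {t u : L} (ht : t ≠ 0) (hu : u ≠ 0) : S.h t * S.h u = S.h (t * u) := by
  classical
  cases nonempty_fintype L
  have hcen : ∀ {a b : L}, a ≠ 0 → b ≠ 0 → ∀ g : Γ, g * S.sym a b = S.sym a b * g := by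
    intro a b ha hb g
    exact S.sym_central hgen ha hb g
  -- a generator of the multiplicative group
  obtain ⟨v, hv⟩ := IsCyclic.exists_generator (α := Lˣ)
  have hv0 : (v : L) ≠ 0 := Units.ne_zero v
  have hpow : ∀ a : L, a ≠ 0 → ∃ k : ℕ, a = (v : L) ^ k := by
    intro a ha
    have h1 : Units.mk0 a ha ∈ Submonoid.powers v :=
      (isOfFinOrder_of_finite v).mem_powers_iff_mem_zpowers.mpr (hv _)
    obtain ⟨k, hk⟩ := h1
    refine ⟨k, ?_⟩
    have := congrArg Units.val hk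
    rw [Units.val_pow_eq_pow_val, Units.val_mk0] at this
    exact this.symm
  -- `h(v^k)` is a central multiple of `h(v)^k`
  have hP : ∀ k : ℕ, ∃ z : Γ, (∀ g : Γ, g * z = z * g) ∧ S.h ((v : L) ^ k) = z * S.h v ^ k := by
    intro k
    induction k with
    | zero =>
      refine ⟨1, fun g => by rw [mul_one, one_mul], ?_⟩
      rw [pow_zero, pow_zero, S.h_one, one_mul]
    | succ k ih =>
      obtain ⟨z, hz, e⟩ := ih
      have e1 := S.h_mul_eq (v : L) ((v : L) ^ k)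
      refine ⟨(S.sym (v : L) ((v : L) ^ k))⁻¹ * z, fun g => ?_, ?_⟩
      · have hc := hcen hv0 (pow_ne_zero k hv0) g
        have hc' : g * (S.sym (v : L) ((v : L) ^ k))⁻¹ = (S.sym (v : L) ((v : L) ^ k))⁻¹ * g := by
          rw [eq_inv_mul_iff_mul_eq, ← mul_assoc, ← hc, mul_assoc, mul_inv_cancel, mul_one]
        rw [← mul_assoc, hc', mul_assoc, hz g, mul_assoc]
      · rw [pow_succ', ← inv_mul_eq_iff_eq_mul.mpr e1, e, pow_succ', ← mul_assoc, ← mul_assoc,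
          mul_assoc _ (S.h (v : L)) z, hz (S.h (v : L))]
        simp only [mul_assoc]
  -- all `h(t)` commute
  have hQ : ∀ {a b : L}, a ≠ 0 → b ≠ 0 → S.h a * S.h b = S.h b * S.h a := by
    intro a b ha hb
    obtain ⟨k, rfl⟩ := hpow a ha
    obtain ⟨j, rfl⟩ := hpow b hb
    obtain ⟨z, hz, e⟩ := hP k
    obtain ⟨z', hz', e'⟩ := hP j
    rw [e, e']
    have h1 : z * S.h ↑v ^ k * (z' * S.h ↑v ^ j) = (z * z') * (S.h ↑v ^ k * S.h ↑v ^ j) := by
      rw [mul_assoc z, ← mul_assoc (S.h ↑v ^ k), hz' (S.h ↑v ^ k)]; simp only [mul_assoc]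
    have h2 : z' * S.h ↑v ^ j * (z * S.h ↑v ^ k) = (z' * z) * (S.h ↑v ^ j * S.h ↑v ^ k) := by
      rw [mul_assoc z', ← mul_assoc (S.h ↑v ^ j), hz (S.h ↑v ^ j)]; simp only [mul_assoc]
    rw [h1, h2, hz' z, ← pow_add, ← pow_add, add_comm]
  -- `h(t² u) = h(u) h(t²)`
  have hF1 : ∀ {a b : L}, a ≠ 0 → b ≠ 0 → S.h (a ^ 2 * b) = S.h b * S.h (a ^ 2) := by
    intro a b ha hb
    have e := S.h_conj_h ha b
    rw [hQ ha hb, mul_inv_cancel_right] at e
    rw [e, inv_mul_cancel_right]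
  have hS : ∀ {a b : L}, a ≠ 0 → b ≠ 0 → S.sym a b = S.sym b a := by
    intro a b ha hb
    unfold sym
    rw [hQ ha hb, mul_comm a b]
  have hA : ∀ {a b c : L}, a ≠ 0 → b ≠ 0 → c ≠ 0 → S.sym a (c ^ 2 * b) = S.sym a b := by
    intro a b c ha hb hc
    unfold sym
    have e1 : a * (c ^ 2 * b) = c ^ 2 * (a * b) := by ring
    rw [e1, hF1 hc hb, hF1 hc (mul_ne_zero ha hb)]
    group
  have hA' : ∀ {a b c : L}, a ≠ 0 → b ≠ 0 → c ≠ 0 → S.sym (c ^ 2 * a) b = S.sym a b := by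
    intro a b c ha hb hc
    rw [hS (mul_ne_zero (pow_ne_zero 2 hc) ha) hb, hA hb ha hc, hS hb ha]
  have hone : ∀ {a : L}, a ≠ 0 → S.sym a 1 = 1 := by
    intro a ha
    unfold sym
    rw [S.h_one, mul_one, mul_one, mul_inv_cancel]
  -- the classes modulo squares
  have hcls : ∀ a : L, a ≠ 0 → ∃ c : L, c ≠ 0 ∧ (a = c ^ 2 ∨ a = c ^ 2 * v) := by
    intro a ha
    obtain ⟨k, rfl⟩ := hpow a ha
    rcases Nat.even_or_odd' k with ⟨j, rfl | rfl⟩
    · exact ⟨(v : L) ^ j, pow_ne_zero j hv0, Or.inl (by rw [← pow_mul, mul_comm])⟩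
    · exact ⟨(v : L) ^ j, pow_ne_zero j hv0, Or.inr (by rw [← pow_mul, pow_succ, mul_comm j 2])⟩
  -- the symbol of the generator
  have hvv : S.sym (v : L) (v : L) = 1 := by
    by_cases hsq : IsSquare (v : L)
    · obtain ⟨d, hd⟩ := hsq
      have hd0 : d ≠ 0 := by
        intro h; rw [h, mul_zero] at hd; exact hv0 hd
      have : (v : L) = d ^ 2 * 1 := by rw [hd]; ring
      nth_rewrite 2 [this]
      rw [hA hv0 one_ne_zero hd0, hone hv0]
    · have hchar : ringChar L ≠ 2 := fun h => hsq (FiniteField.isSquare_of_char_two h _)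
      have hodd := FiniteField.odd_card_of_char_ne_two hchar
      obtain ⟨a, b, hab⟩ := FiniteField.exists_root_sum_quadratic
        (f := (Polynomial.X : Polynomial L) ^ 2)
        (g := (Polynomial.X : Polynomial L) ^ 2 - Polynomial.C ((v : L)⁻¹))
        (Polynomial.degree_X_pow 2) (Polynomial.degree_X_pow_sub_C (by decide) _) hodd
      simp only [Polynomial.eval_pow, Polynomial.eval_X, Polynomial.eval_sub, Polynomial.eval_C] at hab
      have hab' : a ^ 2 + b ^ 2 = (v : L)⁻¹ := by linear_combination hab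
      have ha0 : a ≠ 0 := by
        intro h
        apply hsq
        refine ⟨b⁻¹, ?_⟩
        rw [h] at hab'
        have hb0 : b ≠ 0 := by
          intro hb; rw [hb] at hab'; simp at hab'; exact hv0 hab'.symm
        field_simp
        have : (v : L) * b ^ 2 = 1 := by
          have := hab'
          field_simp at this
          linear_combination this
        linear_combination this
      have hb0 : b ≠ 0 := by
        intro h
        apply hsq
        refine ⟨a⁻¹, ?_⟩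
        rw [h] at hab'
        field_simp
        have : (v : L) * a ^ 2 = 1 := by
          have := hab'
          field_simp at this
          linear_combination this
        linear_combination this
      -- `s = (a² v)⁻¹`, `1 - s⁻¹ = b² v`
      have hσ : a ^ 2 * (v : L) + b ^ 2 * (v : L) = 1 := by
        have := hab'
        field_simp at this
        linear_combination this
      have hs0 : (a ^ 2 * (v : L))⁻¹ ≠ 0 := inv_ne_zero (mul_ne_zero (pow_ne_zero 2 ha0) hv0)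
      have hτ0 : b ^ 2 * (v : L) ≠ 0 := mul_ne_zero (pow_ne_zero 2 hb0) hv0
      have hne1 : (a ^ 2 * (v : L))⁻¹ ≠ 0 := hs0
      have key := S.h_of_add_eq_one hs0
        (u := 1 - (a ^ 2 * (v : L))⁻¹) ?_ (by ring)
      · -- `h(-u) = h(-u/t) h(t)` with `-u/t = b² v`
        have hs1 : a ^ 2 * (v : L) * (a ^ 2 * (v : L))⁻¹ = 1 :=
          mul_inv_cancel₀ (mul_ne_zero (pow_ne_zero 2 ha0) hv0)
        have e2 : -(1 - (a ^ 2 * (v : L))⁻¹) = b ^ 2 * (v : L) * (a ^ 2 * (v : L))⁻¹ := by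
          linear_combination hs1 - (a ^ 2 * (v : L))⁻¹ * hσ
        have e1 : -(1 - (a ^ 2 * (v : L))⁻¹) / (a ^ 2 * (v : L))⁻¹ = b ^ 2 * (v : L) := by
          rw [div_eq_iff hs0]; exact e2
        rw [e1, e2] at key
        have e3 : S.sym (b ^ 2 * (v : L)) (a ^ 2 * (v : L))⁻¹ = 1 := by
          unfold sym
          rw [← key, mul_inv_cancel]
        have e4 : (a ^ 2 * (v : L))⁻¹ = (a⁻¹ * (v : L)⁻¹) ^ 2 * (v : L) := by
          field_simp
        rw [e4, hA (mul_ne_zero (pow_ne_zero 2 hb0) hv0) hv0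
          (mul_ne_zero (inv_ne_zero ha0) (inv_ne_zero hv0)), hA' hv0 hv0 hb0] at e3
        exact e3
      · -- `u ≠ 0`
        intro h
        have : (a ^ 2 * (v : L))⁻¹ = 1 := by linear_combination -h
        have h2 : a ^ 2 * (v : L) = 1 := by
          rw [inv_eq_one] at this; exact this
        have : b ^ 2 * (v : L) = 0 := by linear_combination hσ - h2
        exact hτ0 this
  -- conclusion
  have hfinal : S.sym t u = 1 := by
    obtain ⟨c, hc, hct⟩ := hcls t ht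
    obtain ⟨e, he, heu⟩ := hcls u hu
    rcases heu with rfl | rfl
    · have : e ^ 2 = e ^ 2 * 1 := by ring
      rw [this, hA ht one_ne_zero he, hone ht]
    · rcases hct with rfl | rfl
      · have : c ^ 2 = c ^ 2 * 1 := by ring
        rw [this, hA' one_ne_zero (mul_ne_zero (pow_ne_zero 2 he) hv0) hc,
          hS one_ne_zero (mul_ne_zero (pow_ne_zero 2 he) hv0),
          hone (mul_ne_zero (pow_ne_zero 2 he) hv0)]
      · rw [hA (mul_ne_zero (pow_ne_zero 2 hc) hv0) hv0 he, hA' hv0 hv0 hc, hvv]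
  rw [S.h_mul_eq, hfinal, one_mul]


/-! ### the general case: restriction to the subgroup generated by the root elements -/

/-- the subgroup generated by the root elements. -/
def sub : Subgroup Γ := Subgroup.closure (Set.range S.xp ∪ Set.range S.xm)

theorem xp_mem_sub (t : L) : S.xp t ∈ S.sub := Subgroup.subset_closure (Or.inl ⟨t, rfl⟩)

theorem xm_mem_sub (t : L) : S.xm t ∈ S.sub := Subgroup.subset_closure (Or.inr ⟨t, rfl⟩)

/-- the restriction to the subgroup generated by the root elements. -/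
def res : Rk1 L ↥S.sub where
  xp t := ⟨S.xp t, S.xp_mem_sub t⟩
  xm t := ⟨S.xm t, S.xm_mem_sub t⟩
  xp_add t u := Subtype.ext (S.xp_add t u)
  xm_add t u := Subtype.ext (S.xm_add t u)
  conj_xp t ht u := Subtype.ext (S.conj_xp t ht u)

theorem res_w (t : L) : ((S.res.w t : ↥S.sub) : Γ) = S.w t := rfl

theorem res_h (t : L) : ((S.res.h t : ↥S.sub) : Γ) = S.h t := rfl

theorem res_gen : Subgroup.closure (Set.range S.res.xp ∪ Set.range S.res.xm) = ⊤ := by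
  have h := Subgroup.closure_closure_coe_preimage (k := Set.range S.xp ∪ Set.range S.xm)
  have e : Set.range S.res.xp ∪ Set.range S.res.xm =
      ((↑) : ↥S.sub → Γ) ⁻¹' (Set.range S.xp ∪ Set.range S.xm) := by
    ext g
    constructor
    · rintro (⟨c, rfl⟩ | ⟨c, rfl⟩)
      · exact Or.inl ⟨c, rfl⟩
      · exact Or.inr ⟨c, rfl⟩
    · rintro (⟨c, hc⟩ | ⟨c, hc⟩)
      · exact Or.inl ⟨c, Subtype.ext hc⟩
      · exact Or.inr ⟨c, Subtype.ext hc⟩
  rw [e]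
  exact h

/-- **Steinberg's rank-one theorem: the relations (A), (B') imply (C) `h(t) h(u) = h(t u)` over a finite field.** -/
theorem h_mul [Finite L] {t u : L} (ht : t ≠ 0) (hu : u ≠ 0) : S.h t * S.h u = S.h (t * u) := by
  have e := S.res.h_mul_of_gen S.res_gen ht hu
  have e2 := congrArg (Subtype.val : ↥S.sub → Γ) e
  rw [Subgroup.coe_mul, S.res_h, S.res_h, S.res_h] at e2
  exact e2

theorem h_inv_eq [Finite L] {t : L} (ht : t ≠ 0) : (S.h t)⁻¹ = S.h t⁻¹ := by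
  apply inv_eq_of_mul_eq_one_right
  rw [S.h_mul ht (inv_ne_zero ht), mul_inv_cancel₀ ht, S.h_one]

theorem h_comm [Finite L] {t u : L} (ht : t ≠ 0) (hu : u ≠ 0) : S.h t * S.h u = S.h u * S.h t := by
  rw [S.h_mul ht hu, S.h_mul hu ht, mul_comm]

end Rk1

end Cfsg.Agent.CtRecM
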