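import Mathlib
import Cfsg.Agent.CtRecM.OmC
import Cfsg.Agent.CtRecM.OmQF
import Cfsg.Agent.CtRecM.OmR1

set_option autoImplicit false
set_option linter.unusedSectionVars false
set_option linter.unusedVariables false

/-!
# S2099, piece P10 (i): the rank-one subgroup of a short root and the multiplicativity of `h_c(t)` (helper5)

For a system `S : OW m (qlN a b) Γ` over the quadratic extension `W = QL a b` (a field), the elements `xp u = y_c(u)`,
`xm u = y_c̄(-ū)` satisfy the relations (A), (B') of `SL_2(QL a b)` (`Rk1`, helper7), `w(t) = ws c t` and `h(t) = hs c t 1`.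
Hence `hs c t 1 * hs c u 1 = hs c (t * u) 1` over a finite field (Steinberg's rank-one theorem `Rk1.h_mul`).
The statements of piece P4 enter through `H : S.P4Hyp`.
-/

namespace Cfsg.Agent.CtRecM

open Cfsg.Agent.CtRecD Cfsg.Agent.CtRecB
open Cfsg.Agent.CtRecB.OB (sB sB_a sB_abar sB_oth)

variable {m : ℕ} {K : Type*} [Field K] {a b : K} [Fact (∀ r : K, r ^ 2 ≠ -b + a * r)]
  {Γ : Type*} [Group Γ] (S : OW m (qlN a b) Γ)

theorem p10r_ne {t : QL a b} (ht : t ≠ 0) : qlN a b t ≠ 0 :=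
  fun h => ht ((qlN_eq_zero_iff t).mp h)

/-- `-(star (-t⁻¹)) = (N t)⁻¹ • t`. -/
theorem p10r_mid (t : QL a b) : -(star (-t⁻¹)) = (qlN a b t)⁻¹ • t := by
  rw [ql_inv_smul, star_neg, neg_neg, star_inv₀]

/-- `-(N t)⁻¹ • r_t(u) = -star (-(t²)⁻¹ u)`. -/
theorem p10r_coef {t : QL a b} (ht : t ≠ 0) (u : QL a b) :
    (-(qlN a b t)⁻¹) • rW (qlN a b) t u = -(star (-(t ^ 2)⁻¹ * u)) := by
  have hs : star t ≠ 0 := ql_star_ne_zero ht
  rw [rW_apply, ql_refl ht, Algebra.smul_def, map_neg, map_inv₀, ← ql_mul_star, star_mul, star_neg,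
    star_inv₀, star_pow]
  field_simp

namespace OW

/-- the rank-one system of the short root `ε_c`. -/
def rk1 (H : S.P4Hyp) (c : Idx m) : Rk1 (QL a b) Γ where
  xp u := S.y c u
  xm u := S.y c.swap (-(star u))
  xp_add t u := S.yadd c t u
  xm_add t u := by
    rw [S.yadd, star_add, neg_add]
  conj_xp t ht u := by
    have hN := p10r_ne ht
    have e := H.ws_conj_y c hN c u
    rw [MulAut.conj_apply, sB_a, cW_a, p10r_coef ht] at e
    rw [p10r_mid]
    exact e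

theorem rk1_xp (H : S.P4Hyp) (c : Idx m) (u : QL a b) : (S.rk1 H c).xp u = S.y c u := rfl

theorem rk1_xm (H : S.P4Hyp) (c : Idx m) (u : QL a b) :
    (S.rk1 H c).xm u = S.y c.swap (-(star u)) := rfl

theorem rk1_w (H : S.P4Hyp) (c : Idx m) (t : QL a b) : (S.rk1 H c).w t = S.ws c t := by
  unfold Rk1.w ws
  rw [rk1_xp, rk1_xm, p10r_mid]

theorem rk1_h (H : S.P4Hyp) (c : Idx m) (t : QL a b) : (S.rk1 H c).h t = S.hs c t 1 := by
  unfold Rk1.h hs
  rw [rk1_w, rk1_w]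

/-- **multiplicativity of the short torus elements** (Steinberg's rank-one theorem). -/
theorem hs_mul [Finite K] (H : S.P4Hyp) (c : Idx m) {t u : QL a b} (ht : t ≠ 0) (hu : u ≠ 0) :
    S.hs c t 1 * S.hs c u 1 = S.hs c (t * u) 1 := by
  haveI : Finite (QL a b) := ql_finite a b
  rw [← S.rk1_h H c, ← S.rk1_h H c, ← S.rk1_h H c]
  exact (S.rk1 H c).h_mul ht hu

theorem hs_one_one (c : Idx m) : S.hs c (1 : QL a b) 1 = 1 := S.hs_self c 1

theorem hs_inv_eq [Finite K] (H : S.P4Hyp) (c : Idx m) {t : QL a b} (ht : t ≠ 0) :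
    (S.hs c t 1)⁻¹ = S.hs c t⁻¹ 1 := by
  apply inv_eq_of_mul_eq_one_right
  rw [S.hs_mul H c ht (inv_ne_zero ht), mul_inv_cancel₀ ht, S.hs_one_one]

theorem hs_comm [Finite K] (H : S.P4Hyp) (c : Idx m) {t u : QL a b} (ht : t ≠ 0) (hu : u ≠ 0) :
    S.hs c t 1 * S.hs c u 1 = S.hs c u 1 * S.hs c t 1 := by
  rw [S.hs_mul H c ht hu, S.hs_mul H c hu ht, mul_comm]

/-- `hs c t v₀` in terms of the base point `1`. -/
theorem hs_base (c : Idx m) (t v₀ : QL a b) : S.hs c t v₀ = S.hs c t 1 * (S.hs c v₀ 1)⁻¹ := by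
  rw [S.hs_eq_ws_mul c t v₀, S.hs_eq_ws_mul c t 1, S.hs_eq_ws_mul c v₀ 1, mul_inv_rev, inv_inv,
    mul_assoc, inv_mul_cancel_left]

/-- `ws c t * ws c u` in terms of the `hs`. -/
theorem ws_mul_ws (c : Idx m) (t u : QL a b) : S.ws c t * S.ws c u = S.hs c t 1 * (S.hs c (-u) 1)⁻¹ := by
  rw [← S.hs_base c t (-u)]
  unfold hs
  rw [neg_neg]

end OW

end Cfsg.Agent.CtRecM
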