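import Mathlib
import Cfsg.Agent.CtRecM.OmC
import Cfsg.Agent.CtRecM.OmHr
import Cfsg.Agent.CtRecD.SchH

set_option autoImplicit false
set_option linter.unusedSectionVars false
set_option linter.unusedVariables false

/-!
# S2099, piece P10 (group half): the torus of a system of type `B_m` with anisotropic kernel (helper1)

Port of `CtRecB/ObH.lean`: the elements `h_kl(t)`, `h_a(v, v₀)` act monomially with trivial permutation;
`h_a(s v₀, v₀) = h_ab(s) h_ab̄(s)` over a finite field, `h_a(v, v₀) = h_ab(N v / N v₀) h_b(v, v₀)`, and over the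
quadratic extension `W = QL a b` every element of `H̃_W` is `t * h_{a₀}(w, 1)` with `t` in the torus of the long
root subsystem of type `D_m`.  Piece P4 enters through `OW.P4Hyp`.
-/

namespace Cfsg.Agent.CtRecM

open Cfsg.Agent.CtRecD Cfsg.Agent.CtRecB
open Cfsg.Agent.CtRecB.OB (sB sB_a sB_abar sB_oth sB_swap sB_sB)

variable {m : ℕ} {K : Type*} [Field K] {W : Type*} [AddCommGroup W] [Module K W]
  {N : QuadraticForm K W} {Γ : Type*} [Group Γ] (S : OW m N Γ)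

/-- the coefficients of `h_a(v, v₀)`. -/
def hDW {m : ℕ} (N : QuadraticForm K W) (a : Idx m) (v v₀ : W) (i : Idx m) : K :=
  if i = a then N v * (N v₀)⁻¹ else if i = a.swap then (N v)⁻¹ * N v₀ else 1

theorem hDW_a (a : Idx m) (v v₀ : W) : hDW N a v v₀ a = N v * (N v₀)⁻¹ := by
  unfold hDW
  rw [if_pos rfl]

theorem hDW_abar (a : Idx m) (v v₀ : W) : hDW N a v v₀ a.swap = (N v)⁻¹ * N v₀ := by
  unfold hDW
  rw [if_neg (ne_swap a).symm, if_pos rfl]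

theorem hDW_oth {a i : Idx m} (h1 : i ≠ a) (h2 : i ≠ a.swap) (v v₀ : W) : hDW N a v v₀ i = 1 := by
  unfold hDW
  rw [if_neg h1, if_neg h2]

namespace OW

/-- a monomial element normalises the torus of the long root subsystem. -/
theorem Ht_conj_of_monW {g : Γ} {σ : Equiv.Perm (Idx m)} {c : Idx m → K} {τ : W ≃ₗ[K] W}
    (hM : S.MonW g σ c τ) {t : Γ} (ht : t ∈ S.toOD.Ht) : g * t * g⁻¹ ∈ S.toOD.Ht := by
  unfold OD.Ht at ht
  induction ht using Subgroup.closure_induction with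
  | mem x hx =>
    obtain ⟨k, l, u, hkl, hu, rfl⟩ := hx
    have e := (OW.MonW.toMon S hM).conj_h S.toOD hkl hu
    rw [MulAut.conj_apply] at e
    rw [e]
    have hc : c k * (c l)⁻¹ ≠ 0 := mul_ne_zero (hM.ne_zero k) (inv_ne_zero (hM.ne_zero l))
    exact mul_mem (S.toOD.h_mem_Ht (hM.rt hkl) (mul_ne_zero hc hu))
      (inv_mem (S.toOD.h_mem_Ht (hM.rt hkl) hc))
  | one =>
    rw [mul_one, mul_inv_cancel]
    exact one_mem _
  | mul x y _ _ ihx ihy =>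
    have : g * (x * y) * g⁻¹ = (g * x * g⁻¹) * (g * y * g⁻¹) := by group
    rw [this]
    exact mul_mem ihx ihy
  | inv x _ ih =>
    have : g * x⁻¹ * g⁻¹ = (g * x * g⁻¹)⁻¹ := by group
    rw [this]
    exact inv_mem ih

section P4

variable (hm : 3 ≤ m) (H : S.P4Hyp)

include hm H in
/-- `h_kl(t)` acts monomially. -/
theorem monW_h_of {k l : Idx m} (hkl : Rt k l) {t : K} (ht : t ≠ 0) :
    S.MonW (S.h k l t) 1 (hD k l t) (LinearEquiv.refl K W) := by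
  have hm1 : (-1 : K) ≠ 0 := neg_ne_zero.mpr one_ne_zero
  have h1 := (S.monW_w_of hm H hkl ht).mul (S.monW_w_of hm H hkl hm1)
  refine h1.congr (s3_sD_sq hkl) ?_ (fun _ => rfl)
  intro i
  rcases s3_cases (k := k) (l := l) i with rfl | rfl | rfl | rfl | hi
  · rw [sD_k hkl, cD_l, cD_k hkl, s3_hD_k, inv_neg, inv_one, neg_neg, mul_one]
  · rw [sD_l hkl, cD_k hkl, cD_l, s3_hD_l hkl]
    ring
  · rw [sD_kbar hkl, cD_lbar hkl, cD_kbar hkl, s3_hD_kbar hkl, neg_neg, mul_one]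
  · rw [sD_lbar hkl, cD_kbar hkl, cD_lbar hkl, s3_hD_lbar hkl, inv_neg, inv_one]
    ring
  · rw [sD_oth hi, cD_oth hi, cD_oth hi, s3_hD_oth hi, mul_one]

include H in
/-- `h_a(v, v₀)` acts monomially. -/
theorem monW_hs_of (a : Idx m) {v v₀ : W} (hv : N v ≠ 0) (hv₀ : N v₀ ≠ 0) :
    S.MonW (S.hs a v v₀) 1 (hDW N a v v₀) ((rWe N v₀ hv₀).trans (rWe N v hv)) := by
  have hv₀' : N (-v₀) ≠ 0 := by
    rw [QuadraticMap.map_neg]
    exact hv₀
  have h1 := (S.monW_ws_of H a hv).mul (S.monW_ws_of H a hv₀')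
  have hσ : sB a * sB a = 1 := by
    ext i
    rw [Equiv.Perm.mul_apply, sB_sB, Equiv.Perm.one_apply]
  refine h1.congr hσ ?_ ?_
  · intro i
    by_cases h1 : i = a
    · rw [h1, sB_a, cW_abar, cW_a, hDW_a, QuadraticMap.map_neg]
      ring
    · by_cases h2 : i = a.swap
      · rw [h2, sB_abar, cW_a, cW_abar, hDW_abar, QuadraticMap.map_neg]
        ring
      · rw [sB_oth h1 h2, cW_oth h1 h2, cW_oth h1 h2, hDW_oth h1 h2, mul_one]
  · intro w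
    rw [LinearEquiv.trans_apply, LinearEquiv.trans_apply, rWe_apply, rWe_apply, rWe_apply, rWe_apply]
    congr 1
    rw [rW_apply, rW_apply, QuadraticMap.map_neg, QuadraticMap.polar_neg_right, smul_neg, mul_neg, neg_smul,
      neg_neg]

section fin

variable [Finite K]

include hm H in
/-- **`h_a(s v₀, v₀) = h_ab(s) h_ab̄(s)`**: the coroot of `ε_a` is the sum of the coroots of `ε_a - ε_b`, `ε_a + ε_b`. -/
theorem hs_eq_of {a b : Idx m} (hab : Rt a b) {s : K} (hs : s ≠ 0) {v₀ : W} (hv₀ : N v₀ ≠ 0) :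
    S.hs a (s • v₀) v₀ = S.h a b s * S.h a b.swap s := by
  have hC : ∀ k l : Idx m, Rt k l → ∀ t u : K, t ≠ 0 → u ≠ 0 →
      S.h k l t * S.h k l u = S.h k l (t * u) :=
    fun k l hkl t u ht hu => S.toOD.h_mul_of_finite hm hkl ht hu
  have hu : s⁻¹ ≠ 0 := inv_ne_zero hs
  have hba : Rt b a := hab.symm
  have hbas : Rt b a.swap := hba.swap_right
  have habs : Rt a b.swap := hab.swap_right
  -- conjugation of `w_a(v₀)` by `g = h_ba(s⁻¹)`
  have e1 := (S.monW_h_of hm H hba hu).conj_ws a v₀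
  rw [Equiv.Perm.one_apply, s3_hD_l hba, inv_inv, LinearEquiv.refl_apply, MulAut.conj_apply] at e1
  -- conjugation of `g` by `w_a(v₀)`
  have e2 := (OW.MonW.toMon S (S.monW_ws_of H a hv₀)).conj_h S.toOD hba hu
  rw [sB_oth hba.1 hba.2, sB_a, cW_oth hba.1 hba.2, cW_a, MulAut.conj_apply] at e2
  have hc : (1 : K) * (-(N v₀)⁻¹)⁻¹ ≠ 0 :=
    mul_ne_zero one_ne_zero (inv_ne_zero (neg_ne_zero.mpr (inv_ne_zero hv₀)))
  have e4 : S.h b a.swap ((1 : K) * (-(N v₀)⁻¹)⁻¹ * s⁻¹) * (S.h b a.swap ((1 : K) * (-(N v₀)⁻¹)⁻¹))⁻¹ =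
      S.h b a.swap s⁻¹ := by
    rw [mul_comm _ s⁻¹, ← hC b a.swap hbas s⁻¹ _ hu hc, mul_inv_cancel_right]
  rw [e4] at e2
  -- assemble
  have e5 : S.hs a (s • v₀) v₀ = S.h b a s⁻¹ * (S.h b a.swap s⁻¹)⁻¹ := by
    rw [← e2, S.hs_eq_ws_mul, ← e1]
    group
  rw [e5, S.toOD.h_swap hm hC hab hu, S.toOD.h_inv hC hab hu, inv_inv,
    S.toOD.h_inv hC hbas hu, inv_inv]
  congr 1
  have e6 := S.toOD.h_bar hC habs hs
  rw [Sum.swap_swap] at e6
  exact e6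

include hm H in
/-- **`h_a(v, v₀) = h_ab(N v / N v₀) h_b(v, v₀)`**. -/
theorem hs_ab {a b : Idx m} (hab : Rt a b) {v v₀ : W} (hv : N v ≠ 0) (hv₀ : N v₀ ≠ 0) :
    S.hs a v v₀ = S.h a b (N v * (N v₀)⁻¹) * S.hs b v v₀ := by
  have hC : ∀ k l : Idx m, Rt k l → ∀ t u : K, t ≠ 0 → u ≠ 0 →
      S.h k l t * S.h k l u = S.h k l (t * u) :=
    fun k l hkl t u ht hu => S.toOD.h_mul_of_finite hm hkl ht hu
  have h1 : (1 : K) ≠ 0 := one_ne_zero
  have hμ : N v * (N v₀)⁻¹ ≠ 0 := mul_ne_zero hv (inv_ne_zero hv₀)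
  have e1 := (S.monW_w_of hm H hab h1).conj_hs b v v₀
  rw [sD_l hab, cD_l, one_smul, one_smul, LinearEquiv.refl_apply, LinearEquiv.refl_apply,
    MulAut.conj_apply] at e1
  have e2 := (S.monW_hs_of H b hv hv₀).conj_w hab h1
  rw [Equiv.Perm.one_apply, Equiv.Perm.one_apply, hDW_a, hDW_oth hab.1 hab.2, one_mul, mul_one,
    MulAut.conj_apply] at e2
  have e0 : ∀ μ : K, S.w a b 1 * S.w a b (-μ) = (S.h a b μ)⁻¹ := by
    intro μ
    unfold OD.h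
    rw [_root_.mul_inv_rev, S.w_inv hab, S.w_inv hab, neg_neg]
  have e3 : S.w a b 1 * S.w a b (-(N v * (N v₀)⁻¹)⁻¹) = S.h a b (N v * (N v₀)⁻¹) := by
    rw [e0, ← S.toOD.h_inv hC hab hμ, inv_inv]
  rw [← e1, ← e3, ← S.w_inv hab, ← e2]
  group

end fin

end P4

end OW

/-! ### the normal form over the quadratic extension -/

section quad

variable {m : ℕ} {K : Type*} [Field K] {a b : K} [Fact (∀ r : K, r ^ 2 ≠ -b + a * r)]
  {Γ : Type*} [Group Γ] (S : OW m (qlN a b) Γ)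

namespace OW

variable [Finite K] (hm : 3 ≤ m) (H : S.P4Hyp)

include hm H in
/-- every `h_c(v, 1)` is a torus element of the long root subsystem times an `h_{a₀}(w, 1)`. -/
theorem p10_hs_nf (a₀ c : Idx m) {v : QL a b} (hv : v ≠ 0) :
    ∃ t ∈ S.toOD.Ht, ∃ w : QL a b, w ≠ 0 ∧ S.hs c v 1 = t * S.hs a₀ w 1 := by
  have hNv : qlN a b v ≠ 0 := p10r_ne hv
  have hN1 : qlN a b (1 : QL a b) ≠ 0 := by
    rw [qlN_one]
    exact one_ne_zero
  by_cases h1 : c = a₀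
  · subst h1
    exact ⟨1, one_mem _, v, hv, (one_mul _).symm⟩
  by_cases h2 : c = a₀.swap
  · subst h2
    refine ⟨1, one_mem _, (qlN a b v)⁻¹ • v, smul_ne_zero (inv_ne_zero hNv) hv, ?_⟩
    have hN1' : qlN a b (-(1 : QL a b)) ≠ 0 := by
      rw [QuadraticMap.map_neg]
      exact hN1
    rw [one_mul]
    unfold hs
    rw [S.ws_swap_of H a₀ hNv, S.ws_swap_of H a₀ hN1', QuadraticMap.map_neg, qlN_one, inv_one, one_smul]
  · have hca : Rt c a₀ := ⟨h1, h2⟩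
    refine ⟨S.h c a₀ (qlN a b v), S.toOD.h_mem_Ht hca hNv, v, hv, ?_⟩
    have e := S.hs_ab hm H hca hNv hN1
    rw [qlN_one, inv_one, mul_one] at e
    exact e

include hm H in
/-- **the normal form of the elements of `H̃_W`**: `g = t * h_{a₀}(w, 1)` with `t` in the torus of the long root
subsystem. -/
theorem HtW_normal_form (a₀ : Idx m) {g : Γ} (hg : g ∈ S.HtW) :
    ∃ t ∈ S.toOD.Ht, ∃ w : QL a b, w ≠ 0 ∧ g = t * S.hs a₀ w 1 := by
  have hN1 : qlN a b (1 : QL a b) ≠ 0 := by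
    rw [qlN_one]
    exact one_ne_zero
  -- the set of normal forms is closed under products and inverses
  have hmul : ∀ g₁ g₂ : Γ, (∃ t ∈ S.toOD.Ht, ∃ w : QL a b, w ≠ 0 ∧ g₁ = t * S.hs a₀ w 1) →
      (∃ t ∈ S.toOD.Ht, ∃ w : QL a b, w ≠ 0 ∧ g₂ = t * S.hs a₀ w 1) →
      ∃ t ∈ S.toOD.Ht, ∃ w : QL a b, w ≠ 0 ∧ g₁ * g₂ = t * S.hs a₀ w 1 := by
    rintro g₁ g₂ ⟨t₁, ht₁, w₁, hw₁, rfl⟩ ⟨t₂, ht₂, w₂, hw₂, rfl⟩
    have hM := S.monW_hs_of H a₀ (p10r_ne hw₁) hN1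
    refine ⟨t₁ * (S.hs a₀ w₁ 1 * t₂ * (S.hs a₀ w₁ 1)⁻¹), mul_mem ht₁ (S.Ht_conj_of_monW hM ht₂),
      w₁ * w₂, mul_ne_zero hw₁ hw₂, ?_⟩
    rw [← S.hs_mul H a₀ hw₁ hw₂]
    group
  have hinv : ∀ g₁ : Γ, (∃ t ∈ S.toOD.Ht, ∃ w : QL a b, w ≠ 0 ∧ g₁ = t * S.hs a₀ w 1) →
      ∃ t ∈ S.toOD.Ht, ∃ w : QL a b, w ≠ 0 ∧ g₁⁻¹ = t * S.hs a₀ w 1 := by
    rintro g₁ ⟨t₁, ht₁, w₁, hw₁, rfl⟩
    have hw₁' : w₁⁻¹ ≠ 0 := inv_ne_zero hw₁
    have hM := S.monW_hs_of H a₀ (p10r_ne hw₁') hN1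
    refine ⟨S.hs a₀ w₁⁻¹ 1 * t₁⁻¹ * (S.hs a₀ w₁⁻¹ 1)⁻¹, S.Ht_conj_of_monW hM (inv_mem ht₁),
      w₁⁻¹, hw₁', ?_⟩
    rw [_root_.mul_inv_rev, S.hs_inv_eq H a₀ hw₁]
    group
  unfold HtW at hg
  induction hg using Subgroup.closure_induction with
  | mem x hx =>
    rcases hx with ⟨k, l, u, hkl, hu, rfl⟩ | ⟨c, v, v', hv, hv', rfl⟩
    · exact ⟨S.h k l u, S.toOD.h_mem_Ht hkl hu, 1, one_ne_zero, by rw [S.hs_one_one, mul_one]⟩
    · have hv0 : v ≠ 0 := fun e => hv (by rw [e, map_zero])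
      have hv0' : -v' ≠ 0 := fun e => hv' (by rw [neg_eq_zero.mp e, map_zero])
      rw [S.ws_mul_ws c v v']
      exact hmul _ _ (S.p10_hs_nf hm H a₀ c hv0) (hinv _ (S.p10_hs_nf hm H a₀ c hv0'))
  | one => exact ⟨1, one_mem _, 1, one_ne_zero, by rw [S.hs_one_one, mul_one]⟩
  | mul x y _ _ ihx ihy => exact hmul x y ihx ihy
  | inv x _ ih => exact hinv x ih

end OW

end quad

end Cfsg.Agent.CtRecM
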