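import Mathlib
import Cfsg.Agent.CtRecM.OmD
import Cfsg.Agent.CtRecM.OmC
import Cfsg.Agent.CtRecM.OmH
import Cfsg.Agent.CtRecD.SchH
import Cfsg.Agent.CtRecD.RecogD2

set_option autoImplicit false
set_option linter.unusedSectionVars false
set_option linter.unusedVariables false

/-!
# S2099, piece P10 (matrix half): the matrices of `w_a(v)` and `h_a(v, v₀)` (helper3)

`bYW N a v * bYW N ā ((N v)⁻¹ • v) * bYW N a v` is the monomial matrix `e_a ↦ -(N v)⁻¹ e_ā`, `e_ā ↦ -(N v) e_a`,
`w ↦ r_v w` (`mWs N a v`); the product of two of them is `diag ⊕ rotation` (`mHs`).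
-/

namespace Cfsg.Agent.CtRecM

open Matrix Cfsg.Agent.CtRecD
open Cfsg.Agent.CtRecB.OB (sB sB_a sB_abar sB_oth sB_swap sB_sB)

section mat

variable {m : ℕ} {K : Type*} [Field K] {ι : Type*} [Fintype ι] [DecidableEq ι]

/-- `∑_j B(e_j, v) w_j = B(w, v)`. -/
theorem p10_sum_polar (N : QuadraticForm K (ι → K)) (v w : ι → K) :
    ∑ j, QuadraticMap.polar N (Pi.single j 1) v * w j = QuadraticMap.polar N w v := by
  have h := congrArg ((QuadraticMap.polarBilin N).flip v) (pi_eq_sum_univ' w)
  rw [map_sum] at h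
  simp only [map_smul, LinearMap.flip_apply, QuadraticMap.polarBilin_apply_apply, smul_eq_mul] at h
  rw [h]
  exact Finset.sum_congr rfl (fun j _ => mul_comm _ _)

theorem p10_bYW_ll (N : QuadraticForm K (ι → K)) (a : Idx m) (w : ι → K) (i k : Idx m) :
    bYW N a w (Sum.inl i) (Sum.inl k) =
      (if i = k then 1 else 0) - (if i = a ∧ k = a.swap then N w else 0) := by
  show (1 - Matrix.single a a.swap (N w)) i k = _
  rw [Matrix.sub_apply, Matrix.one_apply, Matrix.single_apply]
  congr 1
  by_cases h : i = a ∧ k = a.swap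
  · rw [if_pos h, if_pos ⟨h.1.symm, h.2.symm⟩]
  · rw [if_neg h, if_neg (fun h' => h ⟨h'.1.symm, h'.2.symm⟩)]

theorem p10_bYW_lr (N : QuadraticForm K (ι → K)) (a : Idx m) (w : ι → K) (i : Idx m) (j : ι) :
    bYW N a w (Sum.inl i) (Sum.inr j) =
      if i = a then QuadraticMap.polar N (Pi.single j 1) w else 0 := rfl

theorem p10_bYW_rl (N : QuadraticForm K (ι → K)) (a : Idx m) (w : ι → K) (j : ι) (k : Idx m) :
    bYW N a w (Sum.inr j) (Sum.inl k) = if k = a.swap then -(w j) else 0 := rfl

theorem p10_bYW_rr (N : QuadraticForm K (ι → K)) (a : Idx m) (w : ι → K) (j j' : ι) :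
    bYW N a w (Sum.inr j) (Sum.inr j') = if j = j' then 1 else 0 := by
  show (1 : Matrix ι ι K) j j' = _
  rw [Matrix.one_apply]


/-- `∑_j B(e_j, v) (c v_j) = c B(v, v)`. -/
theorem p10_sum_polar_smul (N : QuadraticForm K (ι → K)) (v w : ι → K) (c : K) :
    ∑ j, QuadraticMap.polar N (Pi.single j 1) v * (c * w j) = c * QuadraticMap.polar N w v := by
  rw [← p10_sum_polar N v w, Finset.mul_sum]
  exact Finset.sum_congr rfl (fun j _ => by ring)

theorem p10_sum_polar_single (N : QuadraticForm K (ι → K)) (v : ι → K) (j' : ι) :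
    ∑ j, QuadraticMap.polar N (Pi.single j 1) v * (if j = j' then (1 : K) else 0) =
      QuadraticMap.polar N (Pi.single j' 1) v := by
  rw [Finset.sum_eq_single j']
  · rw [if_pos rfl, mul_one]
  · intro b _ hb
    rw [if_neg hb, mul_zero]
  · intro h
    exact absurd (Finset.mem_univ j') h

section triple

variable (N : QuadraticForm K (ι → K)) (a : Idx m) {v : ι → K} (hv : N v ≠ 0)

include hv in
theorem p10_N_u : N ((N v)⁻¹ • v) = (N v)⁻¹ := by
  rw [QuadraticMap.map_smul, smul_eq_mul]
  field_simp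

theorem p10_polar_u (x : ι → K) :
    QuadraticMap.polar N x ((N v)⁻¹ • v) = (N v)⁻¹ * QuadraticMap.polar N x v := by
  rw [QuadraticMap.polar_smul_right, smul_eq_mul]

include hv in
/-- the rows `inl i`, columns `inl k` of `bYW N ā ((N v)⁻¹ • v) * bYW N a v`. -/
theorem p10_X_ll (i k : Idx m) :
    (bYW N a.swap ((N v)⁻¹ • v) * bYW N a v) (Sum.inl i) (Sum.inl k) =
      if i = a.swap then (if k = a then -(N v)⁻¹ else 0)
      else (if i = k then 1 else 0) - (if i = a ∧ k = a.swap then N v else 0) := by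
  rw [p6_bYW_mul_apply_inl, Sum.swap_swap]
  by_cases hi : i = a.swap
  · rw [if_pos hi, if_pos hi, if_pos hi, p10_N_u N hv]
    simp only [p10_polar_u, p10_bYW_ll, p10_bYW_rl]
    have hne : ¬ (i = a) := by rw [hi]; exact (ne_swap a).symm
    by_cases hk : k = a.swap
    · have hka : ¬ (k = a) := by rw [hk]; exact (ne_swap a).symm
      have hak : ¬ (a = k) := fun e => hka e.symm
      have e1 : ∑ j, (N v)⁻¹ * QuadraticMap.polar N (Pi.single j 1) v * (if k = a.swap then -(v j) else 0) =
          -(N v)⁻¹ * QuadraticMap.polar N v v := by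
        rw [← p10_sum_polar_smul N v v (-(N v)⁻¹)]
        refine Finset.sum_congr rfl (fun j _ => ?_)
        rw [if_pos hk]
        ring
      rw [e1, polar_self_eq, if_neg hka, if_pos (hi.trans hk.symm), if_neg hak]
      simp only [hne, false_and, if_false, true_and, if_true, hk]
      field_simp
      ring
    · have e1 : ∑ j, (N v)⁻¹ * QuadraticMap.polar N (Pi.single j 1) v * (if k = a.swap then -(v j) else 0) = 0 :=
        Finset.sum_eq_zero (fun j _ => by rw [if_neg hk, mul_zero])
      rw [e1, if_neg (fun e => hk (e.symm.trans hi))]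
      simp only [hne, hk, and_false, if_false, sub_zero, add_zero, zero_sub]
      by_cases hka : k = a
      · rw [if_pos hka, if_pos hka.symm, mul_one]
      · rw [if_neg hka, if_neg (fun e => hka e.symm), mul_zero, neg_zero]
  · rw [if_neg hi, if_neg hi, if_neg hi, sub_zero, add_zero, p10_bYW_ll]

include hv in
/-- the rows `inl i`, columns `inr j'` of `bYW N ā ((N v)⁻¹ • v) * bYW N a v`. -/
theorem p10_X_lr (i : Idx m) (j' : ι) :
    (bYW N a.swap ((N v)⁻¹ • v) * bYW N a v) (Sum.inl i) (Sum.inr j') =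
      if i = a then QuadraticMap.polar N (Pi.single j' 1) v else 0 := by
  rw [p6_bYW_mul_apply_inl, Sum.swap_swap]
  by_cases hi : i = a.swap
  · have hne : ¬ (i = a) := by rw [hi]; exact (ne_swap a).symm
    rw [if_pos hi, if_pos hi, p10_N_u N hv, if_neg hne]
    simp only [p10_polar_u, p10_bYW_lr, p10_bYW_rr]
    have e1 : ∑ j, (N v)⁻¹ * QuadraticMap.polar N (Pi.single j 1) v * (if j = j' then (1 : K) else 0) =
        (N v)⁻¹ * QuadraticMap.polar N (Pi.single j' 1) v := by
      rw [← p10_sum_polar_single N v j', Finset.mul_sum]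
      exact Finset.sum_congr rfl (fun j _ => by ring)
    rw [e1, if_neg hne]
    simp only [if_true]
    ring
  · rw [if_neg hi, if_neg hi, sub_zero, add_zero, p10_bYW_lr]

include hv in
/-- the rows `inr j`, columns `inl k` of `bYW N ā ((N v)⁻¹ • v) * bYW N a v`. -/
theorem p10_X_rl (j : ι) (k : Idx m) :
    (bYW N a.swap ((N v)⁻¹ • v) * bYW N a v) (Sum.inr j) (Sum.inl k) =
      if k = a then -((N v)⁻¹ * v j) else 0 := by
  rw [p6_bYW_mul_apply_inr, Sum.swap_swap, p10_bYW_rl, p10_bYW_ll, Pi.smul_apply, smul_eq_mul]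
  by_cases hk : k = a.swap
  · have hka : ¬ (k = a) := by rw [hk]; exact (ne_swap a).symm
    have hak : ¬ (a = k) := fun e => hka e.symm
    have h3 : a = a ∧ k = a.swap := ⟨rfl, hk⟩
    rw [if_pos hk, if_neg hak, if_pos h3, if_neg hka]
    field_simp
    ring
  · have h3 : ¬ (a = a ∧ k = a.swap) := fun h => hk h.2
    rw [if_neg hk, if_neg h3]
    by_cases hka : k = a
    · rw [if_pos hka.symm, if_pos hka]
      ring
    · have hak : ¬ (a = k) := fun e => hka e.symm
      rw [if_neg hak, if_neg hka]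
      ring

/-- the rows `inr j`, columns `inr j'` of `bYW N ā ((N v)⁻¹ • v) * bYW N a v`. -/
theorem p10_X_rr (j j' : ι) :
    (bYW N a.swap ((N v)⁻¹ • v) * bYW N a v) (Sum.inr j) (Sum.inr j') =
      (if j = j' then 1 else 0) - (N v)⁻¹ * v j * QuadraticMap.polar N (Pi.single j' 1) v := by
  rw [p6_bYW_mul_apply_inr, Sum.swap_swap, p10_bYW_rr, p10_bYW_lr, if_pos rfl, Pi.smul_apply, smul_eq_mul]

/-- the matrix of `w_a(v)`: `e_a ↦ -(N v)⁻¹ e_ā`, `e_ā ↦ -(N v) e_a`, `w ↦ r_v w`. -/
def mWs (N : QuadraticForm K (ι → K)) (a : Idx m) (v : ι → K) : Matrix (Idx m ⊕ ι) (Idx m ⊕ ι) K :=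
  Matrix.fromBlocks (Matrix.of fun r s => if r = sB a s then cW N a v s else 0) 0 0
    (LinearMap.toMatrix' (rW N v))

include hv in
theorem p10_Y_ll (i k : Idx m) :
    (bYW N a v * (bYW N a.swap ((N v)⁻¹ • v) * bYW N a v)) (Sum.inl i) (Sum.inl k) =
      if i = sB a k then cW N a v k else 0 := by
  rw [p6_bYW_mul_apply_inl]
  simp only [p10_X_ll N a hv, p10_X_rl N a hv]
  have haa : ¬ (a = a.swap) := ne_swap a
  have haa' : ¬ (a.swap = a) := fun e => haa e.symm
  have e1 : ∑ j, QuadraticMap.polar N (Pi.single j 1) v * (if k = a then -((N v)⁻¹ * v j) else 0) =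
      if k = a then -2 else 0 := by
    by_cases hk : k = a
    · rw [if_pos hk]
      have : ∑ j, QuadraticMap.polar N (Pi.single j 1) v * (if k = a then -((N v)⁻¹ * v j) else 0) =
          ∑ j, QuadraticMap.polar N (Pi.single j 1) v * (-(N v)⁻¹ * v j) :=
        Finset.sum_congr rfl (fun j _ => by rw [if_pos hk]; ring)
      rw [this, p10_sum_polar_smul, polar_self_eq]
      field_simp
    · rw [if_neg hk]
      exact Finset.sum_eq_zero (fun j _ => by rw [if_neg hk, mul_zero])
  rw [e1]
  by_cases hi : i = a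
  · subst hi
    by_cases hk : k = i
    · subst hk
      rw [sB_a]
      simp only [haa, haa', if_false, if_true, and_false, sub_zero]
      ring_nf
      field_simp
      ring
    · by_cases hk' : k = i.swap
      · subst hk'
        rw [sB_abar, cW_abar]
        simp only [haa, haa', if_false, if_true, and_self, and_true]
        ring
      · have h1 : ¬ (i = k) := fun e => hk e.symm
        have h2 : ¬ (i = sB i k) := by
          rw [sB_oth hk hk']
          exact h1
        simp only [haa, haa', hk, hk', h1, h2, if_false, if_true, and_false, sub_zero, mul_zero,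
          add_zero]
  · by_cases hi' : i = a.swap
    · subst hi'
      simp only [hi, if_false, if_true, sub_zero, add_zero]
      by_cases hk : k = a
      · subst hk
        rw [sB_a, cW_a, if_pos rfl, if_pos rfl]
      · have h2 : ¬ (a.swap = sB a k) := by
          intro e
          apply hk
          have := congrArg (sB a) e
          rw [sB_abar, sB_sB] at this
          exact this.symm
        rw [if_neg hk, if_neg h2]
    · simp only [hi, hi', if_false, false_and, sub_zero, add_zero]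
      by_cases hk : k = a
      · subst hk
        rw [sB_a, if_neg hi, if_neg hi']
      · by_cases hk' : k = a.swap
        · subst hk'
          rw [sB_abar, if_neg hi', if_neg hi]
        · rw [sB_oth hk hk', cW_oth hk hk']

include hv in
theorem p10_Y_lr (i : Idx m) (j' : ι) :
    (bYW N a v * (bYW N a.swap ((N v)⁻¹ • v) * bYW N a v)) (Sum.inl i) (Sum.inr j') = 0 := by
  rw [p6_bYW_mul_apply_inl]
  simp only [p10_X_lr N a hv, p10_X_rr N a]
  have haa : ¬ (a.swap = a) := fun e => ne_swap a e.symm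
  have e1 : ∑ j, QuadraticMap.polar N (Pi.single j 1) v *
      ((if j = j' then 1 else 0) - (N v)⁻¹ * v j * QuadraticMap.polar N (Pi.single j' 1) v) =
      -QuadraticMap.polar N (Pi.single j' 1) v := by
    have : ∀ j, QuadraticMap.polar N (Pi.single j 1) v *
        ((if j = j' then 1 else 0) - (N v)⁻¹ * v j * QuadraticMap.polar N (Pi.single j' 1) v) =
        QuadraticMap.polar N (Pi.single j 1) v * (if j = j' then (1 : K) else 0) -
          QuadraticMap.polar N (Pi.single j 1) v *
            (((N v)⁻¹ * QuadraticMap.polar N (Pi.single j' 1) v) * v j) := fun j => by ring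
    rw [Finset.sum_congr rfl (fun j _ => this j), Finset.sum_sub_distrib, p10_sum_polar_single,
      p10_sum_polar_smul, polar_self_eq]
    field_simp
    ring
  rw [e1, if_neg haa]
  by_cases hi : i = a
  · simp only [hi, if_true, mul_zero, sub_zero]
    ring
  · simp only [hi, if_false, sub_zero, add_zero]

include hv in
theorem p10_Y_rl (j : ι) (k : Idx m) :
    (bYW N a v * (bYW N a.swap ((N v)⁻¹ • v) * bYW N a v)) (Sum.inr j) (Sum.inl k) = 0 := by
  rw [p6_bYW_mul_apply_inr, p10_X_rl N a hv, p10_X_ll N a hv, if_pos rfl]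
  by_cases hk : k = a
  · simp only [hk, if_true]
    ring
  · simp only [hk, if_false, mul_zero, sub_zero]

include hv in
theorem p10_Y_rr (j j' : ι) :
    (bYW N a v * (bYW N a.swap ((N v)⁻¹ • v) * bYW N a v)) (Sum.inr j) (Sum.inr j') =
      rW N v (Pi.single j' 1) j := by
  have haa : ¬ (a.swap = a) := fun e => ne_swap a e.symm
  rw [p6_bYW_mul_apply_inr, p10_X_rr N a, p10_X_lr N a hv, if_neg haa, rW_apply,
    Pi.sub_apply, Pi.smul_apply, Pi.single_apply, smul_eq_mul]
  ring

include hv in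
/-- **the matrix of `w_a(v)`.** -/
theorem p10_bYW3 :
    bYW N a v * (bYW N a.swap ((N v)⁻¹ • v) * bYW N a v) = mWs N a v := by
  ext r s
  rcases r with i | j <;> rcases s with k | j'
  · rw [p10_Y_ll N a hv]
    rfl
  · rw [p10_Y_lr N a hv]
    rfl
  · rw [p10_Y_rl N a hv]
    rfl
  · rw [p10_Y_rr N a hv]
    rfl

end triple

theorem p10_rW_neg {W : Type*} [AddCommGroup W] [Module K W] (N : QuadraticForm K W) (v : W) :
    rW N (-v) = rW N v := by
  apply LinearMap.ext
  intro x
  rw [rW_apply, rW_apply, QuadraticMap.map_neg, QuadraticMap.polar_neg_right, mul_neg, smul_neg, neg_smul,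
    neg_neg]

/-- the product of the matrices of `w_a(v)` and `w_a(v')`. -/
theorem p10_mWs_mul (N : QuadraticForm K (ι → K)) (a : Idx m) {v v' : ι → K} (hv : N v ≠ 0)
    (hv' : N v' ≠ 0) :
    mWs N a v * mWs N a v' =
      Matrix.fromBlocks (Matrix.diagonal (hDW N a v v')) 0 0
        (LinearMap.toMatrix' ((rW N v).comp (rW N v'))) := by
  unfold mWs
  rw [Matrix.fromBlocks_multiply, LinearMap.toMatrix'_comp]
  simp only [Matrix.mul_zero, Matrix.zero_mul, add_zero, zero_add]
  congr 1
  ext r s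
  rw [Matrix.mul_apply, Finset.sum_eq_single (sB a s)]
  · simp only [Matrix.of_apply, sB_sB]
    rw [Matrix.diagonal_apply]
    by_cases hrs : r = s
    · subst hrs
      simp only [if_true]
      by_cases h1 : r = a
      · rw [h1, sB_a, cW_abar, cW_a, hDW_a]
        field_simp
      · by_cases h2 : r = a.swap
        · rw [h2, sB_abar, cW_a, cW_abar, hDW_abar]
          field_simp
        · rw [sB_oth h1 h2, cW_oth h1 h2, cW_oth h1 h2, hDW_oth h1 h2, one_mul]
    · rw [if_neg hrs, if_neg hrs, zero_mul]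
  · intro b _ hb
    simp only [Matrix.of_apply, if_neg hb, mul_zero]
  · intro h
    exact absurd (Finset.mem_univ _) h

/-- the embedding `M ↦ M ⊕ 1` of the matrices. -/
def p10_blkW : Matrix (Idx m) (Idx m) K →* Matrix (Idx m ⊕ ι) (Idx m ⊕ ι) K where
  toFun M := Matrix.fromBlocks M 0 0 1
  map_one' := Matrix.fromBlocks_one
  map_mul' A B := by
    rw [Matrix.fromBlocks_multiply]
    simp

theorem p10_blkW_oX (a b : Idx m) (t : K) :
    (p10_blkW (oX a b t) : Matrix (Idx m ⊕ ι) (Idx m ⊕ ι) K) = bXW a b t := rfl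

theorem p10_odW {a b : Idx m} (hab : Rt a b) (u : K) :
    (p10_blkW (Units.coeHom (Matrix (Idx m) (Idx m) K) ((odGL m K).x a b u)) :
      Matrix (Idx m ⊕ ι) (Idx m ⊕ ι) K) = bXW a b u := by
  rw [odGL_x hab, Units.coeHom_apply, oXG_coe hab, p10_blkW_oX]

/-- the diagonal matrices `diag(d) ⊕ 1`. -/
def p10_DW : (Idx m → K) →* Matrix (Idx m ⊕ ι) (Idx m ⊕ ι) K where
  toFun d := Matrix.fromBlocks (Matrix.diagonal d) 0 0 1
  map_one' := by
    rw [← Matrix.fromBlocks_one]
    congr 1
  map_mul' d e := by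
    rw [Matrix.fromBlocks_multiply, Matrix.diagonal_mul_diagonal]
    simp only [Matrix.mul_zero, Matrix.zero_mul, add_zero, zero_add, Matrix.mul_one]
    rfl

theorem p10_DW_apply (d : Idx m → K) :
    (p10_DW d : Matrix (Idx m ⊕ ι) (Idx m ⊕ ι) K) = Matrix.fromBlocks (Matrix.diagonal d) 0 0 1 := rfl

theorem p10_DW_inj :
    Function.Injective (p10_DW : (Idx m → K) →* Matrix (Idx m ⊕ ι) (Idx m ⊕ ι) K) := by
  intro d e h
  rw [p10_DW_apply, p10_DW_apply] at h
  exact Matrix.diagonal_injective (Matrix.fromBlocks_inj.mp h).1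

end mat

section grp

variable {m : ℕ} {K : Type*} [Field K] {ι : Type*} [Fintype ι] [DecidableEq ι]
  {N : QuadraticForm K (ι → K)} {Γ : Type*} [Group Γ] (S : OW m N Γ)
  (φ : Γ →* Matrix (Idx m ⊕ ι) (Idx m ⊕ ι) K) (hφ : S.IsMatW φ)

namespace OW

include hφ in
/-- **the matrix of `w_a(v)`.** -/
theorem phi_ws (a : Idx m) {v : ι → K} (hv : N v ≠ 0) : φ (S.ws a v) = mWs N a v := by
  unfold ws
  rw [map_mul, map_mul, hφ.y, hφ.y, mul_assoc]
  exact p10_bYW3 N a hv

include hφ in
/-- **the matrix of `h_a(v, v₀)`**: `diag ⊕ r_v r_{v₀}`. -/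
theorem phi_hs (a : Idx m) {v v₀ : ι → K} (hv : N v ≠ 0) (hv₀ : N v₀ ≠ 0) :
    φ (S.hs a v v₀) = Matrix.fromBlocks (Matrix.diagonal (hDW N a v v₀)) 0 0
      (LinearMap.toMatrix' ((rW N v).comp (rW N v₀))) := by
  have hv₀' : N (-v₀) ≠ 0 := by
    rw [QuadraticMap.map_neg]
    exact hv₀
  unfold hs
  rw [map_mul, S.phi_ws φ hφ a hv, S.phi_ws φ hφ a hv₀', p10_mWs_mul N a hv hv₀', p10_rW_neg]
  congr 2
  funext i
  unfold hDW
  rw [QuadraticMap.map_neg]

include hφ in
/-- the matrix of `h_kl(t)`. -/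
theorem phi_h_W (hm : 3 ≤ m) {k l : Idx m} (hkl : Rt k l) {t : K} (ht : t ≠ 0) :
    φ (S.h k l t) = p10_DW (hD k l t) := by
  have h0 := (odGL m K).phi_h (Units.coeHom (Matrix (Idx m) (Idx m) K))
    (fun a b h t => by rw [odGL_x h, Units.coeHom_apply, oXG_coe h]) hm hkl ht
  have e : (p10_DW (hD k l t) : Matrix (Idx m ⊕ ι) (Idx m ⊕ ι) K) =
      p10_blkW (Matrix.diagonal (hD k l t)) := rfl
  rw [e, ← h0]
  unfold OD.h OD.w
  simp only [map_mul, hφ.x k l hkl, hφ.x l k hkl.symm, p10_odW hkl, p10_odW hkl.symm]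

end OW

end grp

end Cfsg.Agent.CtRecM
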