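import Mathlib
import Cfsg.Agent.CtRecM.OmMat
import Cfsg.Agent.CtRecM.OmBb
import Cfsg.Agent.CtRecM.OmH

set_option autoImplicit false
set_option linter.unusedSectionVars false
set_option linter.unusedVariables false

/-!
# S2099, piece P10 (matrix half): the matrices of the short Weyl elements `ws a v` and of `hs a v v₀` (helper6)

For `W = ι → K` and a homomorphism `φ` with `S.IsMatW φ`:

* `OW.q10_phi_ws_mulVec`: `φ (ws a v) *ᵥ (h, u) = (j ↦ c_{σ j} h_{σ j}, r_v u)`, `σ = sB a`, `c = cW N a v`: the monomial matrix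
  `e_a ↦ -(N v)⁻¹ e_ā`, `e_ā ↦ -(N v) e_a`, and the reflection `r_v` on `W`;
* `OW.q10_phi_hs_mulVec`: `φ (hs a v v₀) *ᵥ (h, u) = (j ↦ d_j h_j, r_v (r_{v₀} u))`, `d = hDW N a v v₀`
  (`N v / N v₀` at `a`, `N v₀ / N v` at `ā`, `1` elsewhere);
* `OW.q10_phi_hs_eq_one_iff`: `φ (hs a v v₀) = 1` iff `N v = N v₀` and `r_v r_{v₀} = 1`.
-/

namespace Cfsg.Agent.CtRecM

open Matrix Cfsg.Agent.CtRecD Cfsg.Agent.CtRecB

variable {m : ℕ} {K : Type*} [Field K] {ι : Type*} [Fintype ι] [DecidableEq ι]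

/-- the three Siegel steps: `bYW a v * bYW ā ((N v)⁻¹ v) * bYW a v` on a vector. -/
theorem q10_ws_mulVec (N : QuadraticForm K (ι → K)) (a : Idx m) {v : ι → K} (hv : N v ≠ 0)
    (h : Idx m → K) (u : ι → K) :
    (bYW N a v * bYW N a.swap ((N v)⁻¹ • v) * bYW N a v) *ᵥ Sum.elim h u =
      Sum.elim (fun j => cW N a v (OB.sB a j) * h (OB.sB a j)) (rW N v u) := by
  have haa : a ≠ a.swap := ne_swap a
  have hNv' : N ((N v)⁻¹ • v) = (N v)⁻¹ := q4_N_inv hv
  rw [← Matrix.mulVec_mulVec, ← Matrix.mulVec_mulVec, bYW_mulVec, bYW_mulVec, bYW_mulVec,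
    Sum.swap_swap]
  -- the scalars
  set B : K := QuadraticMap.polar N u v with hB
  set h1 : Idx m → K := h + Pi.single a (B - N v * h a.swap) with hh1
  set u1 : ι → K := u - h a.swap • v with hu1
  have h1a : h1 a = h a + B - N v * h a.swap := by
    rw [hh1, Pi.add_apply, Pi.single_eq_same]
    ring
  have h1abar : h1 a.swap = h a.swap := by
    rw [hh1, Pi.add_apply, Pi.single_eq_of_ne haa.symm, add_zero]
  have hB1 : QuadraticMap.polar N u1 ((N v)⁻¹ • v) = (N v)⁻¹ * B - 2 * h a.swap := by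
    rw [hu1, QuadraticMap.polar_sub_left, QuadraticMap.polar_smul_left, QuadraticMap.polar_smul_right,
      QuadraticMap.polar_smul_right, polar_self_eq, smul_eq_mul, smul_eq_mul, smul_eq_mul, ← hB]
    field_simp
  set h2 : Idx m → K :=
    h1 + Pi.single a.swap (QuadraticMap.polar N u1 ((N v)⁻¹ • v) - N ((N v)⁻¹ • v) * h1 a) with hh2
  set u2 : ι → K := u1 - h1 a • ((N v)⁻¹ • v) with hu2
  have h2abar : h2 a.swap = -((N v)⁻¹ * h a) := by
    rw [hh2, Pi.add_apply, Pi.single_eq_same, h1abar, hB1, hNv', h1a]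
    field_simp
    ring
  have h2a : h2 a = h a + B - N v * h a.swap := by
    rw [hh2, Pi.add_apply, Pi.single_eq_of_ne haa, add_zero, h1a]
  have hu2' : u2 = u - ((N v)⁻¹ * B + (N v)⁻¹ * h a) • v := by
    rw [hu2, hu1, h1a, smul_smul, sub_sub, ← add_smul]
    congr 2
    field_simp
    ring
  have hB2 : QuadraticMap.polar N u2 v = -B - 2 * h a := by
    rw [hu2', QuadraticMap.polar_sub_left, QuadraticMap.polar_smul_left, polar_self_eq, smul_eq_mul,
      ← hB]
    field_simp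
    ring
  congr 1
  · funext j
    by_cases hja : j = a
    · subst hja
      rw [Pi.add_apply, Pi.single_eq_same, h2a, hB2, h2abar, OB.p4_sB_a, OW.q4_cW_abar]
      field_simp
      ring
    by_cases hja' : j = a.swap
    · subst hja'
      rw [Pi.add_apply, Pi.single_eq_of_ne haa.symm, add_zero, h2abar, OB.p4_sB_abar, OW.q4_cW_a]
      ring
    · rw [Pi.add_apply, Pi.single_eq_of_ne hja, add_zero, hh2, Pi.add_apply, Pi.single_eq_of_ne hja',
        add_zero, hh1, Pi.add_apply, Pi.single_eq_of_ne hja, add_zero, OB.p4_sB_oth hja hja',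
        OW.q4_cW_oth hja hja', one_mul]
  · rw [h2abar, hu2', rW_apply, ← hB, neg_smul, sub_neg_eq_add, sub_add, ← sub_smul]
    congr 2
    ring

theorem q10_rW_neg {W : Type*} [AddCommGroup W] [Module K W] (N : QuadraticForm K W) (v w : W) :
    rW N (-v) w = rW N v w := by
  rw [rW_apply, rW_apply, QuadraticMap.map_neg, QuadraticMap.polar_neg_right, smul_neg, mul_neg,
    neg_smul, neg_neg]

theorem q10_cW_neg {W : Type*} [AddCommGroup W] [Module K W] (N : QuadraticForm K W) (a : Idx m)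
    (v : W) (i : Idx m) : cW N a (-v) i = cW N a v i := by
  unfold cW
  rw [QuadraticMap.map_neg]

/-- the product of the coefficients of `ws a v` and `ws a v₀`. -/
theorem q10_cW_mul {W : Type*} [AddCommGroup W] [Module K W] (N : QuadraticForm K W) (a : Idx m)
    (v v₀ : W) (j : Idx m) : cW N a v (OB.sB a j) * cW N a v₀ j = hDW N a v v₀ j := by
  by_cases hja : j = a
  · subst hja
    rw [OB.p4_sB_a, OW.q4_cW_abar, OW.q4_cW_a, hDW_a]
    ring
  by_cases hja' : j = a.swap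
  · subst hja'
    rw [OB.p4_sB_abar, OW.q4_cW_a, OW.q4_cW_abar, hDW_abar]
    ring
  · rw [OB.p4_sB_oth hja hja', OW.q4_cW_oth hja hja', OW.q4_cW_oth hja hja', hDW_oth hja hja', one_mul]

namespace OW

variable {N : QuadraticForm K (ι → K)} {Γ : Type*} [Group Γ] (S : OW m N Γ)
  (φ : Γ →* Matrix (Idx m ⊕ ι) (Idx m ⊕ ι) K) (hφ : S.IsMatW φ)

include hφ in
/-- the matrix of `ws a v`. -/
theorem q10_phi_ws (a : Idx m) (v : ι → K) :
    φ (S.ws a v) = bYW N a v * bYW N a.swap ((N v)⁻¹ • v) * bYW N a v := by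
  unfold ws
  rw [map_mul, map_mul, hφ.y, hφ.y]

include hφ in
/-- **the matrix of `ws a v`**: monomial on the hyperbolic part, the reflection `r_v` on `W`. -/
theorem q10_phi_ws_mulVec (a : Idx m) {v : ι → K} (hv : N v ≠ 0) (h : Idx m → K) (u : ι → K) :
    φ (S.ws a v) *ᵥ Sum.elim h u =
      Sum.elim (fun j => cW N a v (OB.sB a j) * h (OB.sB a j)) (rW N v u) := by
  rw [S.q10_phi_ws φ hφ, q10_ws_mulVec N a hv]

include hφ in
/-- **the matrix of `hs a v v₀`**: diagonal on the hyperbolic part, the rotation `r_v r_{v₀}` on `W`. -/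
theorem q10_phi_hs_mulVec (a : Idx m) {v v₀ : ι → K} (hv : N v ≠ 0) (hv₀ : N v₀ ≠ 0) (h : Idx m → K)
    (u : ι → K) :
    φ (S.hs a v v₀) *ᵥ Sum.elim h u =
      Sum.elim (fun j => hDW N a v v₀ j * h j) (rW N v (rW N v₀ u)) := by
  have hv₀' : N (-v₀) ≠ 0 := by rw [QuadraticMap.map_neg]; exact hv₀
  unfold hs
  rw [map_mul, ← Matrix.mulVec_mulVec, S.q10_phi_ws_mulVec φ hφ a hv₀', S.q10_phi_ws_mulVec φ hφ a hv,
    q10_rW_neg]
  congr 1
  funext j
  rw [OW.q4_sB_sB, q10_cW_neg, ← mul_assoc, q10_cW_mul]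

include hφ in
/-- `φ (hs a v v₀) = 1` iff `N v = N v₀` and the rotation `r_v r_{v₀}` is trivial. -/
theorem q10_phi_hs_eq_one_iff (a : Idx m) {v v₀ : ι → K} (hv : N v ≠ 0) (hv₀ : N v₀ ≠ 0) :
    φ (S.hs a v v₀) = 1 ↔ N v = N v₀ ∧ ∀ u, rW N v (rW N v₀ u) = u := by
  constructor
  · intro h1
    have key : ∀ (h : Idx m → K) (u : ι → K),
        Sum.elim (fun j => hDW N a v v₀ j * h j) (rW N v (rW N v₀ u)) = Sum.elim h u := by
      intro h u
      rw [← S.q10_phi_hs_mulVec φ hφ a hv hv₀, h1, Matrix.one_mulVec]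
    refine ⟨?_, fun u => ?_⟩
    · have h2 := congrFun (key (fun _ => 1) 0) (Sum.inl a)
      simp only [Sum.elim_inl, mul_one] at h2
      rw [hDW_a] at h2
      field_simp at h2
      exact h2
    · have h2 := key 0 u
      funext j
      have h3 := congrFun h2 (Sum.inr j)
      simpa using h3
  · rintro ⟨hN, hrot⟩
    apply om_ext
    intro h u
    rw [S.q10_phi_hs_mulVec φ hφ a hv hv₀, Matrix.one_mulVec, hrot]
    congr 1
    funext j
    by_cases hja : j = a
    · subst hja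
      rw [hDW_a, hN, mul_inv_cancel₀ hv₀, one_mul]
    by_cases hja' : j = a.swap
    · subst hja'
      rw [hDW_abar, hN, inv_mul_cancel₀ hv₀, one_mul]
    · rw [hDW_oth hja hja', one_mul]

end OW

end Cfsg.Agent.CtRecM
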