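import Mathlib
import Cfsg.Agent.CtRecD.SchKer
import Cfsg.Agent.CtRecM.OmQF

set_option autoImplicit false
set_option linter.unusedSectionVars false
set_option linter.unusedVariables false

/-!
# S2099 (helper9): the arithmetic of the condition `q^l ≡ 3 (mod 4)`, squares in finite fields, trace-zero elements of `QL a b`
-/

namespace Cfsg.Agent.CtRecM

open Cfsg.Agent.CtRecD

section arith

variable {F : Type*} [Field F] [Fintype F]

/-- `q^l ≡ 1 (mod 4)` for odd `q` and even `l`. -/
theorem om_pow_mod_four_even {q l : ℕ} (hq : q % 2 = 1) (hl : Even l) : q ^ l % 4 = 1 := by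
  obtain ⟨k, rfl⟩ := hl
  have h4 : q % 4 = 1 ∨ q % 4 = 3 := by omega
  rw [← two_mul, pow_mul, Nat.pow_mod]
  have hsq : q ^ 2 % 4 = 1 := by
    rw [pow_two, Nat.mul_mod]
    rcases h4 with e | e <;> rw [e]
  rw [hsq, one_pow]
  rfl

/-- **`q^l ≡ 3 (mod 4)` iff `l` is odd and `-1` is not a square** (`q` odd). -/
theorem om_pow_mod_four_iff (h2 : (2 : F) ≠ 0) (l : ℕ) :
    Fintype.card F ^ l % 4 = 3 ↔ Odd l ∧ ¬ ∃ ι : F, ι * ι = -1 := by
  have hq := FiniteField.odd_card_of_char_ne_two (fun e => h2 (sk_ringChar_two_iff.mp e))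
  rw [sk_exists_sq_iff, not_not]
  rcases Nat.even_or_odd l with hl | hl
  · rw [om_pow_mod_four_even hq hl]
    constructor
    · intro h
      omega
    · rintro ⟨h, _⟩
      exact absurd hl (Nat.not_even_iff_odd.mpr h)
  · rw [sk_pow_mod_four hq hl]
    exact ⟨fun h => ⟨hl, h⟩, fun h => h.2⟩

/-- the product of two non-squares of a finite field is a square. -/
theorem om_isSquare_mul_of_not {x y : F} (hx : ¬ IsSquare x) (hy : ¬ IsSquare y) :
    IsSquare (x * y) := by
  classical
  by_cases h2 : ringChar F = 2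
  · exact FiniteField.isSquare_of_char_two h2 _
  · have hx0 : x ≠ 0 := fun e => hx (by rw [e]; exact IsSquare.zero)
    have hy0 : y ≠ 0 := fun e => hy (by rw [e]; exact IsSquare.zero)
    have e1 := (quadraticChar_neg_one_iff_not_isSquare (F := F) (a := x)).mpr hx
    have e2 := (quadraticChar_neg_one_iff_not_isSquare (F := F) (a := y)).mpr hy
    have e3 : quadraticChar F (x * y) = 1 := by
      rw [map_mul, e1, e2]
      norm_num
    exact (quadraticChar_one_iff_isSquare (mul_ne_zero hx0 hy0)).mp e3

/-- `(-1)^l` is a non-square iff `l` is odd and `-1` is a non-square. -/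
theorem om_neg_one_pow_not_isSquare_iff (l : ℕ) :
    ¬ IsSquare ((-1 : F) ^ l) ↔ Odd l ∧ ¬ IsSquare (-1 : F) := by
  rcases Nat.even_or_odd l with hl | hl
  · rw [hl.neg_one_pow]
    constructor
    · intro h
      exact absurd IsSquare.one h
    · rintro ⟨h, _⟩
      exact absurd hl (Nat.not_even_iff_odd.mpr h)
  · rw [hl.neg_one_pow]
    exact ⟨fun h => ⟨hl, h⟩, fun h => h.2⟩

end arith

section tracezero

variable {K : Type*} [Field K] {a b : K} [Fact (∀ r : K, r ^ 2 ≠ -b + a * r)]

/-- a non-zero trace-zero element (`w̄ = -w`) in odd characteristic: `w₁ = 2ω - a`. -/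
theorem ql_exists_tracezero (h2 : (2 : K) ≠ 0) : ∃ w : QL a b, w ≠ 0 ∧ star w = -w := by
  refine ⟨⟨-a, 2⟩, fun h => ?_, ?_⟩
  · have := congrArg QuadraticAlgebra.im h
    simp at this
    exact h2 this
  · ext
    · simp
      ring
    · simp

/-- for a trace-zero element, `N w = -w²`. -/
theorem ql_norm_tracezero {w : QL a b} (hw : star w = -w) :
    algebraMap K (QL a b) (qlN a b w) = -(w * w) := by
  rw [← ql_mul_star, hw, mul_neg]

/-- for a non-zero trace-zero element in odd characteristic, `-N w` is not a square of `K`. -/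
theorem ql_neg_norm_not_isSquare (h2 : (2 : K) ≠ 0) {w : QL a b} (hw0 : w ≠ 0)
    (hw : star w = -w) : ¬ IsSquare (-(qlN a b w)) := by
  rintro ⟨r, hr⟩
  have h1 : w * w = algebraMap K (QL a b) r * algebraMap K (QL a b) r := by
    rw [← map_mul, ← hr, map_neg, ql_norm_tracezero hw, neg_neg]
  have h3 : (w - algebraMap K (QL a b) r) * (w + algebraMap K (QL a b) r) = 0 := by
    have : (w - algebraMap K (QL a b) r) * (w + algebraMap K (QL a b) r) =
        w * w - algebraMap K (QL a b) r * algebraMap K (QL a b) r := by ring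
    rw [this, h1, sub_self]
  -- `w = ± r` lies in `K`, hence `w̄ = w`, so `2 w = 0`
  have hwK : star w = w := by
    rcases mul_eq_zero.mp h3 with h | h
    · rw [sub_eq_zero.mp h]
      ext <;> simp
    · rw [eq_neg_of_add_eq_zero_left h]
      ext <;> simp
  have h4 : (2 : K) • w = 0 := by
    have : w = -w := by rw [← hw, hwK]
    rw [two_smul]
    nth_rewrite 2 [this]
    rw [add_neg_cancel]
  rcases smul_eq_zero.mp h4 with h | h
  · exact h2 h
  · exact hw0 h

/-- `w̄ = w` iff `w` lies in `K` (separable case: `2 ≠ 0` or `a ≠ 0`). -/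
theorem ql_star_eq_self_iff (hsep : (2 : K) ≠ 0 ∨ a ≠ 0) (w : QL a b) :
    star w = w ↔ ∃ s : K, w = algebraMap K (QL a b) s := by
  constructor
  · intro h
    refine ⟨w.re, ?_⟩
    have e1 := congrArg QuadraticAlgebra.re h
    have e2 := congrArg QuadraticAlgebra.im h
    simp at e1 e2
    have him : w.im = 0 := by
      rcases hsep with h2 | ha
      · have : (2 : K) * w.im = 0 := by linear_combination -e2
        exact (mul_eq_zero.mp this).resolve_left h2
      · exact e1.resolve_left ha
    ext
    · simp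
    · simp [him]
  · rintro ⟨s, rfl⟩
    ext <;> simp

end tracezero

end Cfsg.Agent.CtRecM
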