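import Mathlib
import Cfsg.Agent.CtRecM.OmH
import Cfsg.Agent.CtRecM.OmBb

set_option autoImplicit false
set_option linter.unusedSectionVars false
set_option linter.unusedVariables false

/-!
# S2099: transport of a system `OW` along a linear isometry, and the torus of a system over `minusN a b` (helper1)

* `OW.pull S e N' he : OW m N' Γ` for `e : W' ≃ₗ[K] W` with `N (e w) = N' w`: the same elements, `y a w := S.y a (e w)`;
  the elements `ws`, `hs` and the subgroups `WtW`, `HtW`, `UtW` are the same.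
* for `S : OW m (minusN a b) Γ` and `qlE a b : QL a b ≃ₗ[K] (Fin 2 → K)`: the multiplicativity of the
  `h_c(w) = S.hs c (qlE a b w) (qlE a b 1)` and the normal form `g = t * h_{a₀}(w)` of the elements of `H̃_W`.
-/

namespace Cfsg.Agent.CtRecM

open Cfsg.Agent.CtRecD Cfsg.Agent.CtRecB

section pull

variable {m : ℕ} {K : Type*} [Field K] {W : Type*} [AddCommGroup W] [Module K W]
  {W' : Type*} [AddCommGroup W'] [Module K W']
  {N : QuadraticForm K W} {Γ : Type*} [Group Γ] (S : OW m N Γ)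
  (e : W' ≃ₗ[K] W) (N' : QuadraticForm K W') (he : ∀ w, N (e w) = N' w)

include he in
theorem pull_polar (w w' : W') : QuadraticMap.polar N (e w) (e w') = QuadraticMap.polar N' w w' := by
  unfold QuadraticMap.polar
  rw [← map_add, he, he, he]

namespace OW

/-- the transport of a system along a linear isometry. -/
def pull : OW m N' Γ where
  toOD := S.toOD
  y a w := S.y a (e w)
  yadd a w w' := by rw [S.yadd, map_add]
  yy a b hab w w' := by rw [S.yy a b hab, pull_polar e N' he]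
  xy a b hab t w := by rw [S.xy a b hab, map_smul, he]
  xy_comm a b c hab hcb hca t w := S.xy_comm a b c hab hcb hca t (e w)

theorem pull_toOD : (S.pull e N' he).toOD = S.toOD := rfl

theorem pull_x (a b : Idx m) (t : K) : (S.pull e N' he).x a b t = S.x a b t := rfl

theorem pull_y (a : Idx m) (w : W') : (S.pull e N' he).y a w = S.y a (e w) := rfl

theorem pull_w (k l : Idx m) (u : K) : (S.pull e N' he).w k l u = S.w k l u := rfl

theorem pull_h (k l : Idx m) (u : K) : (S.pull e N' he).h k l u = S.h k l u := rfl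

theorem pull_Ht : (S.pull e N' he).toOD.Ht = S.toOD.Ht := rfl

theorem pull_ws (a : Idx m) (w : W') : (S.pull e N' he).ws a w = S.ws a (e w) := by
  unfold ws
  rw [pull_y, pull_y, map_smul, he]

theorem pull_hs (a : Idx m) (v v₀ : W') : (S.pull e N' he).hs a v v₀ = S.hs a (e v) (e v₀) := by
  unfold hs
  rw [pull_ws, pull_ws, map_neg]

theorem pull_gensW : (S.pull e N' he).gensW = S.gensW := by
  ext g
  constructor
  · rintro (⟨a, b, t, hab, rfl⟩ | ⟨a, w, rfl⟩)
    · exact Or.inl ⟨a, b, t, hab, rfl⟩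
    · exact Or.inr ⟨a, e w, rfl⟩
  · rintro (⟨a, b, t, hab, rfl⟩ | ⟨a, w, rfl⟩)
    · exact Or.inl ⟨a, b, t, hab, rfl⟩
    · exact Or.inr ⟨a, e.symm w, by rw [pull_y, LinearEquiv.apply_symm_apply]⟩

theorem pull_WtW : (S.pull e N' he).WtW = S.WtW := by
  unfold WtW
  congr 1
  ext g
  constructor
  · rintro (⟨k, l, u, hkl, hu, rfl⟩ | ⟨a, v, hv, rfl⟩)
    · exact Or.inl ⟨k, l, u, hkl, hu, rfl⟩
    · exact Or.inr ⟨a, e v, by rw [he]; exact hv, pull_ws S e N' he a v⟩
  · rintro (⟨k, l, u, hkl, hu, rfl⟩ | ⟨a, v, hv, rfl⟩)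
    · exact Or.inl ⟨k, l, u, hkl, hu, rfl⟩
    · refine Or.inr ⟨a, e.symm v, ?_, ?_⟩
      · rw [← he, LinearEquiv.apply_symm_apply]
        exact hv
      · rw [pull_ws, LinearEquiv.apply_symm_apply]

theorem pull_HtW : (S.pull e N' he).HtW = S.HtW := by
  unfold HtW
  congr 1
  ext g
  constructor
  · rintro (⟨k, l, u, hkl, hu, rfl⟩ | ⟨a, v, v', hv, hv', rfl⟩)
    · exact Or.inl ⟨k, l, u, hkl, hu, rfl⟩
    · refine Or.inr ⟨a, e v, e v', by rw [he]; exact hv, by rw [he]; exact hv', ?_⟩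
      rw [pull_ws, pull_ws]
  · rintro (⟨k, l, u, hkl, hu, rfl⟩ | ⟨a, v, v', hv, hv', rfl⟩)
    · exact Or.inl ⟨k, l, u, hkl, hu, rfl⟩
    · refine Or.inr ⟨a, e.symm v, e.symm v', ?_, ?_, ?_⟩
      · rw [← he, LinearEquiv.apply_symm_apply]
        exact hv
      · rw [← he, LinearEquiv.apply_symm_apply]
        exact hv'
      · rw [pull_ws, pull_ws, LinearEquiv.apply_symm_apply, LinearEquiv.apply_symm_apply]

theorem pull_UtW : (S.pull e N' he).UtW = S.UtW := by
  unfold UtW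
  congr 1
  ext g
  constructor
  · rintro (⟨a, b, t, hab, hlt, rfl⟩ | ⟨i, w, rfl⟩)
    · exact Or.inl ⟨a, b, t, hab, hlt, rfl⟩
    · exact Or.inr ⟨i, e w, rfl⟩
  · rintro (⟨a, b, t, hab, hlt, rfl⟩ | ⟨i, w, rfl⟩)
    · exact Or.inl ⟨a, b, t, hab, hlt, rfl⟩
    · exact Or.inr ⟨i, e.symm w, by rw [pull_y, LinearEquiv.apply_symm_apply]⟩

end OW

end pull

/-! ### the systems over `minusN a b` -/

section minus

variable {m : ℕ} {K : Type*} [Field K] {a b : K} {Γ : Type*} [Group Γ] (S : OW m (minusN a b) Γ)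

/-- the coordinates of the quadratic extension. -/
noncomputable def qlE (a b : K) : QL a b ≃ₗ[K] (Fin 2 → K) := QuadraticAlgebra.linearEquivTuple (-b) a

theorem qlE_N (a b : K) (z : QL a b) : minusN a b (qlE a b z) = qlN a b z := rfl

theorem qlE_polar (a b : K) (z w : QL a b) :
    QuadraticMap.polar (minusN a b) (qlE a b z) (qlE a b w) = QuadraticMap.polar (qlN a b) z w :=
  qlN_polar_tuple a b z w

namespace OW

/-- the system over the quadratic extension. -/
noncomputable def toQL : OW m (qlN a b) Γ := S.pull (qlE a b) (qlN a b) (qlE_N a b)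

theorem toQL_hs (c : Idx m) (v v₀ : QL a b) : S.toQL.hs c v v₀ = S.hs c (qlE a b v) (qlE a b v₀) :=
  S.pull_hs (qlE a b) (qlN a b) (qlE_N a b) c v v₀

theorem toQL_ws (c : Idx m) (v : QL a b) : S.toQL.ws c v = S.ws c (qlE a b v) :=
  S.pull_ws (qlE a b) (qlN a b) (qlE_N a b) c v

theorem toQL_HtW : S.toQL.HtW = S.HtW := S.pull_HtW (qlE a b) (qlN a b) (qlE_N a b)

theorem toQL_WtW : S.toQL.WtW = S.WtW := S.pull_WtW (qlE a b) (qlN a b) (qlE_N a b)

theorem toQL_Ht : S.toQL.toOD.Ht = S.toOD.Ht := rfl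

variable [Finite K]
  (hab : ∀ z₁ z₂ : K, z₁ ^ 2 + a * z₁ * z₂ + b * z₂ ^ 2 = 0 → z₁ = 0 ∧ z₂ = 0) (hm : 3 ≤ m)

include hab hm in
/-- multiplicativity of the short torus elements `h_c(w) = S.hs c (qlE w) (qlE 1)`. -/
theorem hs_mul_minus (c : Idx m) {t u : QL a b} (ht : t ≠ 0) (hu : u ≠ 0) :
    S.hs c (qlE a b t) (qlE a b 1) * S.hs c (qlE a b u) (qlE a b 1) =
      S.hs c (qlE a b (t * u)) (qlE a b 1) := by
  have := qlFact hab
  rw [← S.toQL_hs, ← S.toQL_hs, ← S.toQL_hs]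
  exact S.toQL.hs_mul (S.toQL.p4Hyp hm) c ht hu

include hab hm in
/-- **the normal form of the elements of `H̃_W`**, for a system over `minusN a b`. -/
theorem HtW_normal_form_minus (a₀ : Idx m) {g : Γ} (hg : g ∈ S.HtW) :
    ∃ t ∈ S.toOD.Ht, ∃ w : QL a b, w ≠ 0 ∧ g = t * S.hs a₀ (qlE a b w) (qlE a b 1) := by
  have := qlFact hab
  rw [← S.toQL_HtW] at hg
  obtain ⟨t, ht, w, hw, e⟩ := S.toQL.HtW_normal_form hm (S.toQL.p4Hyp hm) a₀ hg
  rw [S.toQL_hs] at e
  exact ⟨t, ht, w, hw, e⟩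

include hab hm in
/-- `h_a(s v₀, v₀) = h_ab(s) h_ab̄(s)`, unconditional form. -/
theorem hs_eq_minus {c d : Idx m} (hcd : Rt c d) {s : K} (hs : s ≠ 0) {v₀ : Fin 2 → K}
    (hv₀ : minusN a b v₀ ≠ 0) : S.hs c (s • v₀) v₀ = S.h c d s * S.h c d.swap s :=
  S.hs_eq_of hm (S.p4Hyp hm) hcd hs hv₀

end OW

end minus

end Cfsg.Agent.CtRecM
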