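import Mathlib
import Cfsg.Agent.CtRecM.OmD
import Cfsg.Agent.CtRecM.OmE
import Cfsg.Agent.CtRecM.OmG
import Cfsg.Agent.CtRecM.OmSt2
import Cfsg.Agent.CtRecM.OmB
import Cfsg.Agent.CtRecM.OmBa
import Cfsg.Agent.CtRecM.OmRotF

set_option autoImplicit false
set_option linter.unusedSectionVars false
set_option linter.unusedVariables false

/-!
# S2099 (helper2): the wrapper `OW.p9_ker_central_W` (pieces P6, P7, P8 plugged together, P4 as the hypothesis `S.P4Hyp`) and its
consequences for the Steinberg group of type `²D_{m+1}`: the kernel of `St → Ω⁻_{2m+2}(K)` is central, and the Steinberg group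
over a finite field is finite.  (Port of `CtRecB/ObSt2.lean`.)
-/

namespace Cfsg.Agent.CtRecM

open Matrix Cfsg.Agent.CtRecD

section wrapper

variable {m : ℕ} {K : Type*} [Field K] {ι : Type*} [Fintype ι] [DecidableEq ι]
  {N : QuadraticForm K (ι → K)} {Γ : Type*} [Group Γ] (S : OW m N Γ)

/-- **the kernel of the homomorphism to the matrices is central, contained in `W̃` and monomial with trivial
permutation and trivial action** (`m ≥ 3`, `N` anisotropic with non-zero polar form). -/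
theorem OW.p9_ker_central_W (hm : 3 ≤ m) (hani : ∀ w : ι → K, N w = 0 → w = 0)
    (hpol : ∃ w w' : ι → K, QuadraticMap.polar N w w' ≠ 0) (H : S.P4Hyp)
    (hgen : Subgroup.closure S.gensW = ⊤)
    (φ : Γ →* Matrix (Idx m ⊕ ι) (Idx m ⊕ ι) K) (hφ : S.IsMatW φ) {c : Γ} (hc : φ c = 1) :
    c ∈ S.WtW ∧ (∀ g, g * c = c * g) ∧
      ∃ (a : Idx m → K) (τ : (ι → K) ≃ₗ[K] (ι → K)), S.MonW c 1 a τ ∧ ∀ i v, a i • τ v = v := by
  obtain ⟨w, w', hww⟩ := hpol
  have hv₀ : N w ≠ 0 := by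
    intro h0
    have hw0 := hani w h0
    rw [hw0, QuadraticMap.polar_zero_left] at hww
    exact hww rfl
  exact S.ker_central_W_of hm ⟨w, w', hww⟩ hgen φ hφ H (S.bruhatW_of hm hani H hv₀ hgen)
    (fun g hg => ⟨fun i => (S.UtW_shape φ hφ hg).1 (Sum.inl i), (S.UtW_shape φ hφ hg).2.2⟩)
    (fun g hg h => S.UtW_inj φ hφ hg h) hc

end wrapper

section steinberg

variable {m : ℕ} {K : Type*} [Field K]

/-- **the kernel of `St(²D_{m+1}, K) → Ω⁻_{2m+2}(K)` is central and contained in `W̃`** (`m ≥ 3`, binary part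
anisotropic with non-zero polar form). -/
theorem stW_ker_central (hm : 3 ≤ m) (a b : K)
    (hani : ∀ w : Fin 2 → K, minusN a b w = 0 → w = 0)
    (hpol : ∃ w w' : Fin 2 → K, QuadraticMap.polar (minusN a b) w w' ≠ 0)
    (H : (stOW m (minusN a b)).P4Hyp) {c : StW m (minusN a b)}
    (hc : stToMatW m (minusN a b) c = 1) :
    c ∈ (stOW m (minusN a b)).WtW ∧ ∀ g, g * c = c * g := by
  have h := (stOW m (minusN a b)).p9_ker_central_W hm hani hpol H (stOW_gens m (minusN a b))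
    (stToMatW m (minusN a b)) stToMatW_isMatW hc
  exact ⟨h.1, h.2.1⟩

theorem stToOmegaW_ker_le_center (hm : 3 ≤ m) (a b : K)
    (hani : ∀ w : Fin 2 → K, minusN a b w = 0 → w = 0)
    (hpol : ∃ w w' : Fin 2 → K, QuadraticMap.polar (minusN a b) w w' ≠ 0)
    (H : (stOW m (minusN a b)).P4Hyp) :
    (stToOmegaW (K := K) hm a b).ker ≤ Subgroup.center (StW m (minusN a b)) := by
  intro c hc
  rw [MonoidHom.mem_ker] at hc
  rw [Subgroup.mem_center_iff]
  exact (stW_ker_central hm a b hani hpol H ((stToMatW_eq_one_iff hm a b c).mpr hc)).2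

/-- the Steinberg group of type `²D_{m+1}` over a finite field is finite (`m ≥ 3`). -/
theorem stW_finite_of_p4 [Finite K] (hm : 3 ≤ m) (a b : K)
    (hani : ∀ w : Fin 2 → K, minusN a b w = 0 → w = 0)
    (hpol : ∃ w w' : Fin 2 → K, QuadraticMap.polar (minusN a b) w w' ≠ 0)
    (H : (stOW m (minusN a b)).P4Hyp) : Finite (StW m (minusN a b)) :=
  stW_finite_of hm a b (stToOmegaW_ker_le_center hm a b hani hpol H)

/-! ### the hypothesis-free forms (finite `K`, binary part anisotropic) -/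

/-- piece P4 as a `P4Hyp` (from helper6's `OmB`, `OmBa`). -/
theorem OW.p9_p4Hyp {W : Type*} [AddCommGroup W] [Module K W] {N : QuadraticForm K W}
    {Γ : Type*} [Group Γ] (S : OW m N Γ) (hm : 3 ≤ m) : S.P4Hyp :=
  ⟨fun hkl _ hu i w => S.w_conj_y hm hkl hu i w,
    fun a _ hv _ _ hij c => S.ws_conj_x hm a hv hij c,
    fun a _ hv i w => S.ws_conj_y hm a hv i w⟩

/-- the polar form of an anisotropic binary form over a finite field is non-zero. -/
theorem p9_hpol_minusN [Finite K] {a b : K}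
    (hab : ∀ z₁ z₂ : K, z₁ ^ 2 + a * z₁ * z₂ + b * z₂ ^ 2 = 0 → z₁ = 0 ∧ z₂ = 0) :
    ∃ w w' : Fin 2 → K, QuadraticMap.polar (minusN a b) w w' ≠ 0 := by
  obtain ⟨w, w', h⟩ := p14f_polar_one (minusN a b) a b (minusN_apply a b) hab
  exact ⟨w, w', by rw [h]; exact one_ne_zero⟩

/-- **the kernel of `St(²D_{m+1}, K) → Ω⁻_{2m+2}(K)` is central** (`K` finite, `m ≥ 3`). -/
theorem stToOmegaW_ker_le_center_minus [Finite K] (hm : 3 ≤ m) {a b : K}
    (hab : ∀ z₁ z₂ : K, z₁ ^ 2 + a * z₁ * z₂ + b * z₂ ^ 2 = 0 → z₁ = 0 ∧ z₂ = 0) :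
    (stToOmegaW (K := K) hm a b).ker ≤ Subgroup.center (StW m (minusN a b)) :=
  stToOmegaW_ker_le_center hm a b (fun w hw => minusN_aniso hab hw) (p9_hpol_minusN hab)
    ((stOW m (minusN a b)).p9_p4Hyp hm)

/-- the elements of the kernel of `stToMatW`: central, in `W̃`, monomial with trivial permutation and trivial action. -/
theorem stW_ker_central_minus [Finite K] (hm : 3 ≤ m) {a b : K}
    (hab : ∀ z₁ z₂ : K, z₁ ^ 2 + a * z₁ * z₂ + b * z₂ ^ 2 = 0 → z₁ = 0 ∧ z₂ = 0)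
    {c : StW m (minusN a b)} (hc : stToMatW m (minusN a b) c = 1) :
    c ∈ (stOW m (minusN a b)).WtW ∧ (∀ g, g * c = c * g) ∧
      ∃ (a' : Idx m → K) (τ : (Fin 2 → K) ≃ₗ[K] (Fin 2 → K)),
        (stOW m (minusN a b)).MonW c 1 a' τ ∧ ∀ i v, a' i • τ v = v :=
  (stOW m (minusN a b)).p9_ker_central_W hm (fun w hw => minusN_aniso hab hw) (p9_hpol_minusN hab)
    ((stOW m (minusN a b)).p9_p4Hyp hm) (stOW_gens m (minusN a b))
    (stToMatW m (minusN a b)) stToMatW_isMatW hc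

/-- **the Steinberg group of type `²D_{m+1}` over a finite field is finite** (`m ≥ 3`, all `q`). -/
theorem stW_finite_minus [Finite K] (hm : 3 ≤ m) {a b : K}
    (hab : ∀ z₁ z₂ : K, z₁ ^ 2 + a * z₁ * z₂ + b * z₂ ^ 2 = 0 → z₁ = 0 ∧ z₂ = 0) :
    Finite (StW m (minusN a b)) :=
  stW_finite_of hm a b (stToOmegaW_ker_le_center_minus hm hab)

end steinberg

end Cfsg.Agent.CtRecM
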