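import Mathlib
import Cfsg.Agent.CtRecB.ObWa
import Cfsg.Agent.CtRecM.OmC

set_option autoImplicit false
set_option linter.unusedSectionVars false
set_option linter.unusedVariables false

/-!
# S2099, piece P11 (helper1): `W̃_W / H̃_W` is the Weyl group of type `B_m`

Port of `CtRecB/ObWa.lean` to the systems `OW m N Γ` (short root groups parametrised by a quadratic space `(W, N)`).
The abstract coset enumeration (`WBRel`, `wbQ`, `wbRho`, `WBRel.step`) is the one of `CtRecB/ObWa.lean`; only the concrete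
part is new: the classes of `w_kl(1)` and of `w_a(v₀)` (`v₀` a fixed vector with `N v₀ ≠ 0`) in `W̃_W / H̃_W` satisfy `WBRel`.
-/

namespace Cfsg.Agent.CtRecM

open Cfsg.Agent.CtRecD Cfsg.Agent.CtRecB

variable {n : ℕ} {K : Type*} [Field K] {W : Type*} [AddCommGroup W] [Module K W]
  {N : QuadraticForm K W} {Γ : Type*} [Group Γ] (S : OW n N Γ)

namespace OW

theorem p11_N_neg {v : W} (hv : N v ≠ 0) : N (-v) ≠ 0 := by
  rw [QuadraticMap.map_neg]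
  exact hv

theorem p11_N_smul {c : K} (hc : c ≠ 0) {v : W} (hv : N v ≠ 0) : N (c • v) ≠ 0 := by
  rw [QuadraticMap.map_smul, smul_eq_mul]
  exact mul_ne_zero (mul_ne_zero hc hc) hv

variable {S} in
theorem MonW.p11_N_ne_zero {g : Γ} {σ : Equiv.Perm (Idx n)} {a : Idx n → K} {τ : W ≃ₗ[K] W}
    (h : S.MonW g σ a τ) (k : Idx n) {v : W} (hv : N v ≠ 0) : N (a k • τ v) ≠ 0 :=
  p11_N_smul (h.ne_zero k) (by rw [h.isom]; exact hv)

/-! ### `H̃_W` -/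

theorem p11_h_mem_HtW {k l : Idx n} (hkl : Rt k l) {u : K} (hu : u ≠ 0) : S.h k l u ∈ S.HtW :=
  Subgroup.subset_closure (Or.inl ⟨k, l, u, hkl, hu, rfl⟩)

theorem p11_wsws_mem_HtW (a : Idx n) {v v' : W} (hv : N v ≠ 0) (hv' : N v' ≠ 0) :
    S.ws a v * S.ws a v' ∈ S.HtW :=
  Subgroup.subset_closure (Or.inr ⟨a, v, v', hv, hv', rfl⟩)

theorem p11_HtW_le_WtW : S.HtW ≤ S.WtW := by
  unfold HtW
  rw [Subgroup.closure_le]
  rintro _ (⟨k, l, u, hkl, hu, rfl⟩ | ⟨a, v, v', hv, hv', rfl⟩)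
  · unfold OD.h
    exact mul_mem (S.w_mem_WtW hkl hu) (S.w_mem_WtW hkl (neg_ne_zero.mpr one_ne_zero))
  · exact mul_mem (S.ws_mem_WtW a hv) (S.ws_mem_WtW a hv')

/-- the elements of `H̃_W` act monomially with trivial permutation. -/
theorem p11_exists_monW_of_mem_HtW (hn : 3 ≤ n) (H : S.P4Hyp) {g : Γ} (hg : g ∈ S.HtW) :
    ∃ (a : Idx n → K) (τ : W ≃ₗ[K] W), S.MonW g 1 a τ := by
  have hm1 : (-1 : K) ≠ 0 := neg_ne_zero.mpr one_ne_zero
  unfold HtW at hg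
  induction hg using Subgroup.closure_induction with
  | mem x hx =>
    rcases hx with ⟨k, l, u, hkl, hu, rfl⟩ | ⟨a, v, v', hv, hv', rfl⟩
    · have h1 := (S.monW_w_of hn H hkl hu).mul (S.monW_w_of hn H hkl hm1)
      exact ⟨_, _, h1.congr (s3_sD_sq hkl) (fun _ => rfl) (fun _ => rfl)⟩
    · have h1 := (S.monW_ws_of H a hv).mul (S.monW_ws_of H a hv')
      exact ⟨_, _, h1.congr (Equiv.swap_mul_self _ _) (fun _ => rfl) (fun _ => rfl)⟩
  | one => exact ⟨_, _, S.monW_one⟩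
  | mul x y _ _ ihx ihy =>
    obtain ⟨a, τ, ha⟩ := ihx
    obtain ⟨b, τ', hb⟩ := ihy
    exact ⟨_, _, (ha.mul hb).congr (mul_one 1) (fun _ => rfl) (fun _ => rfl)⟩
  | inv x _ ih =>
    obtain ⟨a, τ, ha⟩ := ih
    exact ⟨_, _, ha.inv.congr inv_one (fun _ => rfl) (fun _ => rfl)⟩

/-- `W̃_W` normalises `H̃_W`. -/
theorem p11_HtW_conj_mem (hn : 3 ≤ n) (H : S.P4Hyp) {g h : Γ} (hg : g ∈ S.WtW) (hh : h ∈ S.HtW) :
    g * h * g⁻¹ ∈ S.HtW := by
  obtain ⟨σ, a, τ, hM⟩ := S.exists_monW_of_mem_WtW_of hn H hg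
  unfold HtW at hh
  induction hh using Subgroup.closure_induction with
  | mem x hx =>
    rcases hx with ⟨k, l, u, hkl, hu, rfl⟩ | ⟨b, v, v', hv, hv', rfl⟩
    · have e := (OW.MonW.toMon S hM).conj_h S.toOD hkl hu
      rw [MulAut.conj_apply] at e
      rw [e]
      have hr := hM.rt hkl
      have hc : a k * (a l)⁻¹ ≠ 0 := mul_ne_zero (hM.1 k) (inv_ne_zero (hM.1 l))
      exact mul_mem (S.p11_h_mem_HtW hr (mul_ne_zero hc hu)) (inv_mem (S.p11_h_mem_HtW hr hc))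
    · have e1 := hM.conj_ws b v
      have e2 := hM.conj_ws b v'
      rw [MulAut.conj_apply] at e1 e2
      have e : g * (S.ws b v * S.ws b v') * g⁻¹ = (g * S.ws b v * g⁻¹) * (g * S.ws b v' * g⁻¹) := by
        group
      rw [e, e1, e2]
      exact S.p11_wsws_mem_HtW _ (hM.p11_N_ne_zero b hv) (hM.p11_N_ne_zero b hv')
  | one =>
    rw [mul_one, mul_inv_cancel]
    exact one_mem _
  | mul x y _ _ ihx ihy =>
    have : g * (x * y) * g⁻¹ = (g * x * g⁻¹) * (g * y * g⁻¹) := by group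
    rw [this]
    exact mul_mem ihx ihy
  | inv x _ ih =>
    have : g * x⁻¹ * g⁻¹ = (g * x * g⁻¹)⁻¹ := by group
    rw [this]
    exact inv_mem ih

/-! ### the quotient `W̃_W / H̃_W` -/

/-- the subgroup of `W̃_W` corresponding to `H̃_W`. -/
def wwHtW : Subgroup S.WtW := S.HtW.subgroupOf S.WtW

theorem wwHtW_normal (hconj : ∀ g ∈ S.WtW, ∀ h ∈ S.HtW, g * h * g⁻¹ ∈ S.HtW) : (S.wwHtW).Normal := by
  constructor
  intro h hh g
  unfold wwHtW at hh ⊢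
  rw [Subgroup.mem_subgroupOf] at hh ⊢
  have := hconj g.1 g.2 h.1 hh
  simpa using this

variable [hN : (S.wwHtW).Normal]

open Classical in
/-- the class of an element of `W̃_W` modulo `H̃_W` (and `1` outside `W̃_W`). -/
noncomputable def wwMk (g : Γ) : S.WtW ⧸ S.wwHtW :=
  if h : g ∈ S.WtW then QuotientGroup.mk ⟨g, h⟩ else 1

theorem wwMk_of_mem {g : Γ} (hg : g ∈ S.WtW) :
    S.wwMk g = (QuotientGroup.mk (⟨g, hg⟩ : S.WtW) : S.WtW ⧸ S.wwHtW) := by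
  unfold wwMk
  rw [dif_pos hg]

theorem wwMk_one : S.wwMk 1 = 1 := by
  rw [S.wwMk_of_mem (one_mem _)]
  rfl

theorem wwMk_mul {g g' : Γ} (hg : g ∈ S.WtW) (hg' : g' ∈ S.WtW) :
    S.wwMk (g * g') = S.wwMk g * S.wwMk g' := by
  rw [S.wwMk_of_mem hg, S.wwMk_of_mem hg', S.wwMk_of_mem (mul_mem hg hg'), ← QuotientGroup.mk_mul]
  rfl

theorem wwMk_inv {g : Γ} (hg : g ∈ S.WtW) : S.wwMk g⁻¹ = (S.wwMk g)⁻¹ := by
  rw [S.wwMk_of_mem hg, S.wwMk_of_mem (inv_mem hg), ← QuotientGroup.mk_inv]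
  rfl

theorem wwMk_eq_one_iff {g : Γ} (hg : g ∈ S.WtW) : S.wwMk g = 1 ↔ g ∈ S.HtW := by
  rw [S.wwMk_of_mem hg, QuotientGroup.eq_one_iff]
  unfold wwHtW
  rw [Subgroup.mem_subgroupOf]

theorem wwMk_conj {g g' : Γ} (hg : g ∈ S.WtW) (hg' : g' ∈ S.WtW) :
    S.wwMk (g * g' * g⁻¹) = S.wwMk g * S.wwMk g' * (S.wwMk g)⁻¹ := by
  rw [S.wwMk_mul (mul_mem hg hg') (inv_mem hg), S.wwMk_mul hg hg', S.wwMk_inv hg]

/-- the classes of the reflections in the long roots. -/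
noncomputable def wwR (a b : Idx n) : S.WtW ⧸ S.wwHtW := S.wwMk (S.w a b 1)

/-- the classes of the reflections in the short roots (`v₀` a base vector). -/
noncomputable def wwT (v₀ : W) (a : Idx n) : S.WtW ⧸ S.wwHtW := S.wwMk (S.ws a v₀)

theorem wwMk_w {a b : Idx n} (hab : Rt a b) {u : K} (hu : u ≠ 0) : S.wwMk (S.w a b u) = S.wwR a b := by
  unfold wwR
  have hh := S.p11_h_mem_HtW hab hu
  rw [S.toOD.w_eq_h_mul hab u, S.wwMk_mul (S.p11_HtW_le_WtW hh) (S.w_mem_WtW hab one_ne_zero),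
    (S.wwMk_eq_one_iff (S.p11_HtW_le_WtW hh)).mpr hh, one_mul]

theorem wwMk_ws {v₀ : W} (hv₀ : N v₀ ≠ 0) (a : Idx n) {v : W} (hv : N v ≠ 0) :
    S.wwMk (S.ws a v) = S.wwT v₀ a := by
  unfold wwT
  have hh := S.p11_wsws_mem_HtW a hv (p11_N_neg hv₀)
  have e : S.ws a v = (S.ws a v * S.ws a (-v₀)) * S.ws a v₀ := by
    rw [← S.ws_inv a v₀, inv_mul_cancel_right]
  rw [e, S.wwMk_mul (S.p11_HtW_le_WtW hh) (S.ws_mem_WtW a hv₀),
    (S.wwMk_eq_one_iff (S.p11_HtW_le_WtW hh)).mpr hh, one_mul]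

theorem wwR_sq {a b : Idx n} (hab : Rt a b) : S.wwR a b * S.wwR a b = 1 := by
  have hw := S.w_mem_WtW hab (one_ne_zero (α := K))
  have hh := S.p11_h_mem_HtW hab (neg_ne_zero.mpr (one_ne_zero (α := K)))
  unfold wwR
  rw [← S.wwMk_mul hw hw]
  have e : S.w a b 1 * S.w a b 1 = (S.h a b (-1))⁻¹ := by
    unfold OD.h
    rw [mul_inv_rev, S.toOD.w_inv hab, neg_neg]
  rw [e, S.wwMk_eq_one_iff (inv_mem (S.p11_HtW_le_WtW hh))]
  exact inv_mem hh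

theorem wwT_sq {v₀ : W} (hv₀ : N v₀ ≠ 0) (a : Idx n) : S.wwT v₀ a * S.wwT v₀ a = 1 := by
  have hw := S.ws_mem_WtW a hv₀
  have hh := S.p11_wsws_mem_HtW a hv₀ hv₀
  unfold wwT
  rw [← S.wwMk_mul hw hw, S.wwMk_eq_one_iff (S.p11_HtW_le_WtW hh)]
  exact hh

theorem wwR_inv {a b : Idx n} (hab : Rt a b) : (S.wwR a b)⁻¹ = S.wwR a b :=
  inv_eq_of_mul_eq_one_right (S.wwR_sq hab)

theorem wwT_inv {v₀ : W} (hv₀ : N v₀ ≠ 0) (a : Idx n) : (S.wwT v₀ a)⁻¹ = S.wwT v₀ a :=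
  inv_eq_of_mul_eq_one_right (S.wwT_sq hv₀ a)

theorem wwRT_rel (hn : 3 ≤ n) (H : S.P4Hyp) {v₀ : W} (hv₀ : N v₀ ≠ 0) : WBRel S.wwR (S.wwT v₀) := by
  have h1 : (1 : K) ≠ 0 := one_ne_zero
  refine ⟨⟨fun a b hab => S.wwR_sq hab, ?_, ?_, ?_⟩, fun a => S.wwT_sq hv₀ a, ?_, ?_, ?_, ?_⟩
  · intro a b hab
    have e := S.toOD.w_swap hn hab h1
    change S.wwMk (S.w b a 1) = S.wwR a b
    rw [e]
    exact S.wwMk_w hab (neg_ne_zero.mpr (inv_ne_zero one_ne_zero))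
  · intro a b hab
    have e := S.toOD.w_bar hab (-1 : K)
    rw [neg_neg] at e
    change S.wwMk (S.w b.swap a.swap 1) = S.wwR a b
    rw [← e]
    exact S.wwMk_w hab (neg_ne_zero.mpr one_ne_zero)
  · intro a b c d hab hcd
    have hw := S.w_mem_WtW hab h1
    have hw' := S.w_mem_WtW hcd h1
    have hM := S.monW_w_of hn H hab h1
    have e := hM.conj_w hcd h1
    rw [MulAut.conj_apply] at e
    have hrt : Rt (sD a b c) (sD a b d) := hM.rt hcd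
    have hne : cD a b (1 : K) c * (cD a b (1 : K) d)⁻¹ * 1 ≠ 0 :=
      mul_ne_zero (mul_ne_zero (hM.1 c) (inv_ne_zero (hM.1 d))) one_ne_zero
    have e2 := S.wwMk_w hrt hne
    rw [← e, S.wwMk_conj hw hw'] at e2
    change S.wwR a b * S.wwR c d * (S.wwR a b)⁻¹ = _ at e2
    rw [S.wwR_inv hab] at e2
    exact e2
  · intro a
    have hM := S.monW_ws_of H a hv₀
    have e := hM.conj_ws a v₀
    rw [MulAut.conj_apply, mul_inv_cancel_right, p11_sB_self] at e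
    change S.wwMk (S.ws a.swap v₀) = S.wwMk (S.ws a v₀)
    rw [e, S.wwMk_ws hv₀ a.swap (hM.p11_N_ne_zero a hv₀)]
    rfl
  · intro a b c hab
    have hw := S.w_mem_WtW hab h1
    have hw' := S.ws_mem_WtW c hv₀
    have hM := S.monW_w_of hn H hab h1
    have e := hM.conj_ws c v₀
    rw [MulAut.conj_apply] at e
    have e2 := S.wwMk_ws hv₀ (sD a b c) (hM.p11_N_ne_zero c hv₀)
    rw [← e, S.wwMk_conj hw hw'] at e2
    change S.wwR a b * S.wwT v₀ c * (S.wwR a b)⁻¹ = _ at e2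
    rw [S.wwR_inv hab] at e2
    exact e2
  · intro a c d hcd
    have hw := S.ws_mem_WtW a hv₀
    have hw' := S.w_mem_WtW hcd h1
    have hM := S.monW_ws_of H a hv₀
    have e := hM.conj_w hcd h1
    rw [MulAut.conj_apply] at e
    have hrt : Rt (OB.sB a c) (OB.sB a d) := hM.rt hcd
    have hne : cW N a v₀ c * (cW N a v₀ d)⁻¹ * 1 ≠ 0 :=
      mul_ne_zero (mul_ne_zero (hM.1 c) (inv_ne_zero (hM.1 d))) one_ne_zero
    have e2 := S.wwMk_w hrt hne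
    rw [← e, S.wwMk_conj hw hw'] at e2
    change S.wwT v₀ a * S.wwR c d * (S.wwT v₀ a)⁻¹ = _ at e2
    rw [S.wwT_inv hv₀ a] at e2
    exact e2
  · intro a c
    have hw := S.ws_mem_WtW a hv₀
    have hw' := S.ws_mem_WtW c hv₀
    have hM := S.monW_ws_of H a hv₀
    have e := hM.conj_ws c v₀
    rw [MulAut.conj_apply] at e
    have e2 := S.wwMk_ws hv₀ (OB.sB a c) (hM.p11_N_ne_zero c hv₀)
    rw [← e, S.wwMk_conj hw hw'] at e2
    change S.wwT v₀ a * S.wwT v₀ c * (S.wwT v₀ a)⁻¹ = _ at e2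
    rw [S.wwT_inv hv₀ a] at e2
    exact e2

theorem wwMk_mem_wbQ_zero {v₀ : W} (hv₀ : N v₀ ≠ 0) {g : Γ} (hg : g ∈ S.WtW) :
    S.wwMk g ∈ wbQ S.wwR (S.wwT v₀) 0 := by
  have key : g ∈ S.WtW ∧ S.wwMk g ∈ wbQ S.wwR (S.wwT v₀) 0 := by
    unfold WtW at hg
    induction hg using Subgroup.closure_induction with
    | mem g hg =>
      rcases hg with ⟨k, l, u, hkl, hu, rfl⟩ | ⟨a, v, hv, rfl⟩
      · refine ⟨S.w_mem_WtW hkl hu, ?_⟩
        rw [S.wwMk_w hkl hu]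
        exact wbQ_mem_r _ _ hkl (Nat.zero_le _) (Nat.zero_le _)
      · refine ⟨S.ws_mem_WtW a hv, ?_⟩
        rw [S.wwMk_ws hv₀ a hv]
        exact wbQ_mem_t _ _ (Nat.zero_le _)
    | one =>
      refine ⟨one_mem _, ?_⟩
      rw [S.wwMk_one]
      exact one_mem _
    | mul a b _ _ iha ihb =>
      refine ⟨mul_mem iha.1 ihb.1, ?_⟩
      rw [S.wwMk_mul iha.1 ihb.1]
      exact mul_mem iha.2 ihb.2
    | inv a _ ih =>
      refine ⟨inv_mem ih.1, ?_⟩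
      rw [S.wwMk_inv ih.1]
      exact inv_mem ih.2
  exact key.2

/-- lifts of the coset representatives. -/
theorem ww_lift (hn : 3 ≤ n) (H : S.P4Hyp) {v₀ : W} (hv₀ : N v₀ ≠ 0) {k : ℕ} (hk : k < n) {x : Idx n}
    (hx : k ≤ wdC x) :
    ∃ (g : Γ) (τ : Equiv.Perm (Idx n)) (b : Idx n → K) (ρ : W ≃ₗ[K] W), g ∈ S.WtW ∧
      S.wwMk g = wbRho S.wwR (S.wwT v₀) (Sum.inl ⟨k, hk⟩) x ∧ S.MonW g τ b ρ ∧
      (∀ i : Fin n, i.val < k → τ (Sum.inl i) = Sum.inl i) ∧ τ (Sum.inl ⟨k, hk⟩) = x ∧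
      (x = Sum.inl ⟨k, hk⟩ → g = 1 ∧ τ = 1) := by
  set p : Idx n := Sum.inl ⟨k, hk⟩ with hpdef
  have hp : wdC p = k := rfl
  by_cases h1 : x = p
  · refine ⟨1, 1, fun _ => 1, LinearEquiv.refl K W, one_mem _, ?_, S.monW_one, fun i _ => rfl, ?_,
      fun _ => ⟨rfl, rfl⟩⟩
    · rw [h1, wbRho_p, S.wwMk_one]
    · rw [h1]
      rfl
  by_cases h2 : x = p.swap
  · refine ⟨S.ws p v₀, OB.sB p, _, _, S.ws_mem_WtW p hv₀, ?_, S.monW_ws_of H p hv₀, ?_, ?_,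
      fun e => absurd e h1⟩
    · rw [h2, wbRho_pbar]
      rfl
    · intro i hi
      have hc : wdC (Sum.inl i : Idx n) = i.val := rfl
      exact p11_sB_of_wdC (by omega)
    · rw [h2]
      exact p11_sB_self p
  · have hxc : k + 1 ≤ wdC x := by
      by_contra hcon
      have : wdC x = wdC p := by omega
      rcases wdC_eq this with e | e
      · exact h1 e
      · exact h2 e
    have hpx : Rt p x := wd_rt_of_ne (by omega)
    refine ⟨S.w p x 1, sD p x, _, _, S.w_mem_WtW hpx one_ne_zero, ?_, S.monW_w_of hn H hpx one_ne_zero, ?_,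
      sD_k hpx, fun e => absurd e h1⟩
    · rw [wbRho_of_lt _ _ (by omega)]
      rfl
    · intro i hi
      have hc : wdC (Sum.inl i : Idx n) = i.val := rfl
      exact sD_oth (wd_oth_of_ne (by omega) (by omega))

theorem ww_main (hn : 3 ≤ n) (H : S.P4Hyp) {v₀ : W} (hv₀ : N v₀ ≠ 0)
    (hmonH : ∀ g ∈ S.HtW, ∃ (a : Idx n → K) (τ : W ≃ₗ[K] W), S.MonW g 1 a τ) :
    ∀ (j k : ℕ), k + j = n → ∀ (g : Γ) (hg : g ∈ S.WtW), S.wwMk g ∈ wbQ S.wwR (S.wwT v₀) k →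
      ∃ (σ : Equiv.Perm (Idx n)) (a : Idx n → K) (τ : W ≃ₗ[K] W), S.MonW g σ a τ ∧
        (∀ i : Fin n, i.val < k → σ (Sum.inl i) = Sum.inl i) ∧ (σ = 1 → g ∈ S.HtW) := by
  intro j
  induction j with
  | zero =>
    intro k hk g hg hq
    rw [wbQ_eq_bot _ _ (by omega), Subgroup.mem_bot, S.wwMk_eq_one_iff hg] at hq
    obtain ⟨a, τ, ha⟩ := hmonH g hq
    exact ⟨1, a, τ, ha, fun _ _ => rfl, fun _ => hq⟩
  | succ j ih =>
    intro k hk g hg hq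
    have hkn : k < n := by omega
    obtain ⟨x, hx, hm⟩ := (S.wwRT_rel hn H hv₀).step (p := Sum.inl ⟨k, hkn⟩) rfl hq
    obtain ⟨nx, τ, b, ρ, hnx, hmk, hMon, hfix, hτp, hone⟩ := S.ww_lift hn H hv₀ hkn hx
    have hg' : nx⁻¹ * g ∈ S.WtW := mul_mem (inv_mem hnx) hg
    have hq' : S.wwMk (nx⁻¹ * g) ∈ wbQ S.wwR (S.wwT v₀) (k + 1) := by
      rw [S.wwMk_mul (inv_mem hnx) hg, S.wwMk_inv hnx, hmk]
      exact hm
    obtain ⟨σ', a', ρ', hM', hfix', hone'⟩ := ih (k + 1) (by omega) _ hg' hq'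
    have hM := hMon.mul hM'
    rw [mul_inv_cancel_left] at hM
    refine ⟨τ * σ', _, _, hM, ?_, ?_⟩
    · intro i hi
      rw [Equiv.Perm.mul_apply, hfix' i (by omega), hfix i hi]
    · intro hσ
      have h1 : (τ * σ') (Sum.inl ⟨k, hkn⟩) = Sum.inl ⟨k, hkn⟩ := by
        rw [hσ]
        rfl
      rw [Equiv.Perm.mul_apply, hfix' ⟨k, hkn⟩ (Nat.lt_succ_self k), hτp] at h1
      obtain ⟨e1, e2⟩ := hone h1
      rw [e2, one_mul] at hσ
      have := hone' hσ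
      rw [e1, inv_one, one_mul] at this
      exact this

end OW

/-- **P11, with the statements of piece P4 as a hypothesis**: an element of `W̃_W` acts monomially, and lies in
`H̃_W` if its permutation is trivial (`v₀` any vector with `N v₀ ≠ 0`). -/
theorem OW.mem_HtW_of_perm_one_of (hn : 3 ≤ n) (H : S.P4Hyp) {v₀ : W} (hv₀ : N v₀ ≠ 0) {g : Γ}
    (hg : g ∈ S.WtW) :
    ∃ (σ : Equiv.Perm (Idx n)) (a : Idx n → K) (τ : W ≃ₗ[K] W), S.MonW g σ a τ ∧ (σ = 1 → g ∈ S.HtW) := by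
  have := S.wwHtW_normal (fun g hg h hh => S.p11_HtW_conj_mem hn H hg hh)
  obtain ⟨σ, a, τ, hM, _, h1⟩ := S.ww_main hn H hv₀ (fun g hg => S.p11_exists_monW_of_mem_HtW hn H hg) n 0
    (by omega) g hg (S.wwMk_mem_wbQ_zero hv₀ hg)
  exact ⟨σ, a, τ, hM, h1⟩

end Cfsg.Agent.CtRecM
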