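import Mathlib
import Cfsg.Agent.CtRecM.OmG2
import Cfsg.Agent.CtRecM.OmWa
import Cfsg.Agent.CtRecM.OmHm
import Cfsg.Agent.CtRecD.SchTg

set_option autoImplicit false
set_option linter.unusedSectionVars false
set_option linter.unusedVariables false

/-!
# S2099, piece P12: the kernel of the homomorphism to the matrices (helper3)

* `OW.central_mem_HtW`: a central element lies in `H̃_W` (Bruhat decomposition, the unipotent subgroup, the monomial action);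
* `OW.phi_PhiB_hs`: the matrix of `t * h_{a₀}(w, v₀)`, `t` in the torus of the long root subsystem;
* `OW.ker_cases_W_of`: the elements with matrix `1` are `1` and `zD p q`, given the normal form of `H̃_W` and
  "a trivial rotation `r_w r_{v₀}` forces `w ∈ K v₀`";
* `OW.phi_zD_W`, `OW.zD_eq_one_of_two_eq_zero`.
-/

namespace Cfsg.Agent.CtRecM

open Matrix Cfsg.Agent.CtRecD

section gen

variable {m : ℕ} {K : Type*} [Field K] {W : Type*} [AddCommGroup W] [Module K W]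
  {N : QuadraticForm K W} {Γ : Type*} [Group Γ] (S : OW m N Γ)

namespace OW

/-- the `MonW`-property only depends on the conjugation. -/
theorem MonW.p12_of_conj_eq {g g' : Γ} {σ : Equiv.Perm (Idx m)} {a : Idx m → K} {τ : W ≃ₗ[K] W}
    (h : S.MonW g σ a τ) (hc : ∀ x : Γ, MulAut.conj g' x = MulAut.conj g x) : S.MonW g' σ a τ :=
  ⟨h.1, h.2.1, h.2.2.1, h.2.2.2.1, fun i j hij c => by rw [hc]; exact h.2.2.2.2.1 i j hij c,
    fun i w => by rw [hc]; exact h.2.2.2.2.2 i w⟩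

/-- the relations of the torus of the long root subsystem, over a finite field. -/
theorem p12_hC [Finite K] (hm : 3 ≤ m) : ∀ k l : Idx m, Rt k l → ∀ t u : K, t ≠ 0 → u ≠ 0 →
    S.toOD.h k l t * S.toOD.h k l u = S.toOD.h k l (t * u) :=
  fun k l hkl t u ht hu => S.toOD.h_mul_of_finite hm hkl ht hu

theorem p12_hcomm [Finite K] (hm : 3 ≤ m) : ∀ a b k l : Idx m, Rt a b → Rt k l → ∀ t u : K, t ≠ 0 → u ≠ 0 →
    S.toOD.h a b t * S.toOD.h k l u = S.toOD.h k l u * S.toOD.h a b t :=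
  fun a b k l hab hkl t u ht hu => S.toOD.h_comm hm (S.p12_hC hm) hab hkl ht hu

theorem p12_hswap [Finite K] (hm : 3 ≤ m) : ∀ k l : Idx m, Rt k l → ∀ t : K, t ≠ 0 →
    S.toOD.h l k t = (S.toOD.h k l t)⁻¹ :=
  fun k l hkl t ht => S.toOD.h_swap hm (S.p12_hC hm) hkl ht

theorem p12_hbar [Finite K] (hm : 3 ≤ m) : ∀ k l : Idx m, Rt k l → ∀ t : K, t ≠ 0 →
    S.toOD.h l.swap k.swap t = S.toOD.h k l t :=
  fun k l hkl t ht => S.toOD.h_bar (S.p12_hC hm) hkl ht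

theorem p12_hsplit [Finite K] (hm : 3 ≤ m) : ∀ k ν l : Idx m, Rt k ν → Rt ν l → Rt k l → ∀ t : K, t ≠ 0 →
    S.toOD.h k l t = S.toOD.h k ν t * S.toOD.h ν l t :=
  fun k ν l h1 h2 h3 t ht => S.toOD.h_split hm (S.p12_hC hm) h1 h2 h3 ht

/-- in characteristic `2` the element `zD p q` is trivial. -/
theorem zD_eq_one_of_two_eq_zero (h2 : (2 : K) = 0) {p q : Fin m} (hpq : p ≠ q) : S.toOD.zD p q = 1 := by
  have e : (-1 : K) = 1 := by linear_combination (-1 : K) * h2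
  unfold OD.zD
  rw [e, S.toOD.h_one (OD.s5_rt_ll hpq), S.toOD.h_one (OD.s5_rt_lr hpq), one_mul]

end OW

end gen

section mat

variable {m : ℕ} {K : Type*} [Field K] {ι : Type*} [Fintype ι] [DecidableEq ι]
  {N : QuadraticForm K (ι → K)} {Γ : Type*} [Group Γ] (S : OW m N Γ)
  (φ : Γ →* Matrix (Idx m ⊕ ι) (Idx m ⊕ ι) K) (hφ : S.IsMatW φ)

namespace OW

include hφ in
/-- a central element lies in `W̃_W`. -/
theorem central_mem_WtW (hm : 3 ≤ m) (hani : ∀ w : ι → K, N w = 0 → w = 0)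
    (hpol : ∃ w w' : ι → K, QuadraticMap.polar N w w' ≠ 0) {v₀ : ι → K} (hv₀ : N v₀ ≠ 0)
    (hgen : Subgroup.closure S.gensW = ⊤) {c : Γ} (hcen : ∀ g, g * c = c * g) : c ∈ S.WtW := by
  obtain ⟨u, hu, w, hw, u', hu', e⟩ := S.bruhatW hm hani hv₀ hgen c
  obtain ⟨σ, a, τ, hM⟩ := S.exists_monW_of_mem_WtW_of hm (S.p4Hyp hm) hw
  have hv : u⁻¹ * u'⁻¹ ∈ S.UtW := mul_mem (inv_mem hu) (inv_mem hu')
  have hc' : ∀ y, c * y * c⁻¹ = y := fun y => by rw [← hcen y, mul_inv_cancel_right]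
  have hw' : w = c * (u⁻¹ * u'⁻¹) := by
    have e1 : w = u⁻¹ * c * u'⁻¹ := by rw [e]; group
    rw [e1, hcen u⁻¹, mul_assoc]
  have hMv : S.MonW (u⁻¹ * u'⁻¹) σ a τ := by
    refine hM.p12_of_conj_eq S ?_
    intro x
    rw [hw', MulAut.conj_apply, MulAut.conj_apply]
    have e2 : c * (u⁻¹ * u'⁻¹) * x * (c * (u⁻¹ * u'⁻¹))⁻¹ =
        c * ((u⁻¹ * u'⁻¹) * x * (u⁻¹ * u'⁻¹)⁻¹) * c⁻¹ := by group
    rw [e2, hc']
  have hsh := S.UtW_shape φ hφ hv
  obtain ⟨_, hv1, _⟩ := S.monW_ker_of_diag hm hpol hgen φ hφ hMv (fun i => hsh.1 _) hsh.2.2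
  have hv1' := S.UtW_inj φ hφ hv hv1
  rw [hv1', mul_one] at hw'
  rw [← hw']
  exact hw

include hφ in
/-- **a central element lies in `H̃_W`.** -/
theorem central_mem_HtW (hm : 3 ≤ m) (hani : ∀ w : ι → K, N w = 0 → w = 0)
    (hpol : ∃ w w' : ι → K, QuadraticMap.polar N w w' ≠ 0) {v₀ : ι → K} (hv₀ : N v₀ ≠ 0)
    (hgen : Subgroup.closure S.gensW = ⊤) {c : Γ} (hcen : ∀ g, g * c = c * g) : c ∈ S.HtW := by
  have hcW := S.central_mem_WtW φ hφ hm hani hpol hv₀ hgen hcen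
  obtain ⟨σ, a, τ, hM, hσ⟩ := S.mem_HtW_of_perm_one_of hm (S.p4Hyp hm) hv₀ hcW
  have hc' : ∀ y, c * y * c⁻¹ = y := fun y => by rw [← hcen y, mul_inv_cancel_right]
  have hM1 : S.MonW 1 σ a τ := by
    refine hM.p12_of_conj_eq S ?_
    intro x
    rw [map_one, MulAut.one_apply, MulAut.conj_apply, hc']
  obtain ⟨_, _, hσ1, _⟩ := S.monW_ker_of_diag hm hpol hgen φ hφ hM1
    (fun i => by rw [map_one, Matrix.one_apply_eq])
    (fun j j' => by
      rw [map_one, Matrix.one_apply, Matrix.one_apply]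
      by_cases h : j = j'
      · rw [if_pos h, if_pos (by rw [h])]
      · rw [if_neg h, if_neg (fun e => h (Sum.inr.inj e))])
  exact hσ (Equiv.ext hσ1)

include hφ in
/-- **the matrix of `t * h_{a₀}(w, v₀)`**, `t` in the torus of the long root subsystem with the parameters `t`. -/
theorem phi_PhiB_hs [Finite K] (hm : 3 ≤ m) {p q : Fin m} (hpq : p ≠ q) (t : Fin m → Kˣ) (a₀ : Idx m)
    {w v₀ : ι → K} (hw : N w ≠ 0) (hv₀ : N v₀ ≠ 0) :
    φ (S.toOD.PhiB (S.p12_hC hm) (S.p12_hcomm hm) hpq t * S.hs a₀ w v₀) =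
      Matrix.fromBlocks (Matrix.diagonal (fun i => dE p q t i * hDW N a₀ w v₀ i)) 0 0
        (LinearMap.toMatrix' ((rW N w).comp (rW N v₀))) := by
  rw [map_mul, S.toOD.phi_PhiB' (S.p12_hC hm) (S.p12_hcomm hm) φ p10_DW
    (fun k l hkl t ht => S.phi_h_W φ hφ hm hkl ht) hpq, S.phi_hs φ hφ a₀ hw hv₀, p10_DW_apply,
    Matrix.fromBlocks_multiply, Matrix.diagonal_mul_diagonal]
  simp only [Matrix.mul_zero, Matrix.zero_mul, add_zero, zero_add, Matrix.one_mul]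

include hφ in
/-- the matrix of `zD p q` is `1`. -/
theorem phi_zD_W [Finite K] (hm : 3 ≤ m) {p q : Fin m} (hpq : p ≠ q) : φ (S.toOD.zD p q) = 1 :=
  S.toOD.phi_zD' (S.p12_hC hm) (S.p12_hcomm hm) φ p10_DW
    (fun k l hkl t ht => S.phi_h_W φ hφ hm hkl ht) hpq

include hφ in
/-- **the elements with matrix `1` are `1` and `zD p q`**, given the normal form of `H̃_W` and the fact that the
rotation `r_w r_{v₀}` is trivial only for `w ∈ K v₀`. -/
theorem ker_cases_W_of [Finite K] (hm : 3 ≤ m) (hani : ∀ w : ι → K, N w = 0 → w = 0)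
    (hpol : ∃ w w' : ι → K, QuadraticMap.polar N w w' ≠ 0) {v₀ : ι → K} (hv₀ : N v₀ ≠ 0)
    (hgen : Subgroup.closure S.gensW = ⊤) (a₀ : Idx m)
    (hnf : ∀ g ∈ S.HtW, ∃ t ∈ S.toOD.Ht, ∃ w : ι → K, N w ≠ 0 ∧ g = t * S.hs a₀ w v₀)
    (hpar : ∀ w : ι → K, N w ≠ 0 → (∀ x, rW N w (rW N v₀ x) = x) → ∃ s : K, w = s • v₀)
    {p q : Fin m} (hpq : p ≠ q) {c : Γ} (hc : φ c = 1) : c = 1 ∨ c = S.toOD.zD p q := by
  obtain ⟨_, hcen, _⟩ := S.ker_central_W hm hani hpol hv₀ hgen φ hφ hc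
  have hcH := S.central_mem_HtW φ hφ hm hani hpol hv₀ hgen hcen
  obtain ⟨t, ht, w, hw, rfl⟩ := hnf c hcH
  obtain ⟨t', rfl⟩ := S.toOD.Ht_param (S.p12_hC hm) (S.p12_hcomm hm) (S.p12_hswap hm) (S.p12_hbar hm)
    (S.p12_hsplit hm) hpq ht
  have hc' := hc
  rw [S.phi_PhiB_hs φ hφ hm hpq t' a₀ hw hv₀, ← Matrix.fromBlocks_one, Matrix.fromBlocks_inj] at hc'
  have hR : (rW N w).comp (rW N v₀) = LinearMap.id := by
    apply LinearMap.toMatrix'.injective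
    rw [hc'.2.2.2, LinearMap.toMatrix'_id]
  obtain ⟨s, rfl⟩ := hpar w hw (fun x => by
    have := congrArg (fun f => f x) hR
    simpa using this)
  have hs : s ≠ 0 := by
    intro e
    apply hw
    rw [e, zero_smul, QuadraticMap.map_zero]
  -- `h_{a₀}(s v₀, v₀)` lies in the torus of the long root subsystem
  obtain ⟨b, hb1, _, hb3, _⟩ := OD.exists_oth hm a₀ a₀
  have hab : Rt a₀ b := ⟨hb1.symm, fun e => hb3 (by rw [e, Sum.swap_swap])⟩
  have hmem : S.toOD.PhiB (S.p12_hC hm) (S.p12_hcomm hm) hpq t' * S.hs a₀ (s • v₀) v₀ ∈ S.toOD.Ht := by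
    rw [S.hs_eq_of hm (S.p4Hyp hm) hab hs hv₀]
    exact mul_mem ht (mul_mem (S.toOD.h_mem_Ht hab hs) (S.toOD.h_mem_Ht hab.swap_right hs))
  exact S.toOD.Ht_ker_cases' (S.p12_hC hm) (S.p12_hcomm hm) (S.p12_hswap hm) (S.p12_hbar hm)
    (S.p12_hsplit hm) φ p10_DW (fun k l hkl t ht => S.phi_h_W φ hφ hm hkl ht) p10_DW_inj hpq hmem hc

end OW

end mat

end Cfsg.Agent.CtRecM
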