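import Mathlib
import Cfsg.Agent.CtRecM.OmT
import Cfsg.Agent.CtRecM.OmPull
import Cfsg.Agent.CtRecM.OmRotF

set_option autoImplicit false
set_option linter.unusedSectionVars false
set_option linter.unusedVariables false

/-!
# S2099, piece P12 (continued): the elements with matrix `1`, for the anisotropic binary form `minusN a b` (helper3)

`OW.ker_cases_minus`: for a system `S : OW m (minusN a b) Γ` over a finite field generating `Γ`, with a homomorphism `φ`
to the matrices, `φ c = 1` implies `c = 1` or `c = zD p q`.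
-/

namespace Cfsg.Agent.CtRecM

open Matrix Cfsg.Agent.CtRecD

section gen

variable {K : Type*} [Field K] {W : Type*} [AddCommGroup W] [Module K W]

/-- if the rotation `r_w r_{v₀}` is trivial then `w ∈ K v₀` (the polar form being non-degenerate at `w`). -/
theorem p12_par_of_nondeg (N : QuadraticForm K W) {w v₀ : W} (hw : N w ≠ 0)
    (hnd : ∃ x, QuadraticMap.polar N x w ≠ 0) (h : ∀ x, rW N w (rW N v₀ x) = x) :
    ∃ s : K, w = s • v₀ := by
  obtain ⟨x, hx⟩ := hnd
  have e : rW N v₀ x = rW N w x := by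
    have := congrArg (rW N w) (h x)
    rw [rW_rW N hw] at this
    exact this
  rw [rW_apply, rW_apply] at e
  have e2 : ((N w)⁻¹ * QuadraticMap.polar N x w) • w = ((N v₀)⁻¹ * QuadraticMap.polar N x v₀) • v₀ := by
    have := sub_right_injective e
    exact this.symm
  have hc : (N w)⁻¹ * QuadraticMap.polar N x w ≠ 0 := mul_ne_zero (inv_ne_zero hw) hx
  refine ⟨((N w)⁻¹ * QuadraticMap.polar N x w)⁻¹ * ((N v₀)⁻¹ * QuadraticMap.polar N x v₀), ?_⟩
  rw [← smul_smul, ← e2, smul_smul, inv_mul_cancel₀ hc, one_smul]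

end gen

section minus

variable {m : ℕ} {K : Type*} [Field K] [Finite K] {a b : K}
  (hab : ∀ z₁ z₂ : K, z₁ ^ 2 + a * z₁ * z₂ + b * z₂ ^ 2 = 0 → z₁ = 0 ∧ z₂ = 0)
  {Γ : Type*} [Group Γ] (S : OW m (minusN a b) Γ)
  (φ : Γ →* Matrix (Idx m ⊕ Fin 2) (Idx m ⊕ Fin 2) K) (hφ : S.IsMatW φ)

include hab in
theorem p12_hpol_minus : ∃ w w' : Fin 2 → K, QuadraticMap.polar (minusN a b) w w' ≠ 0 := by
  obtain ⟨w, w', h⟩ := p14f_polar_one (minusN a b) a b (minusN_apply a b) hab
  exact ⟨w, w', by rw [h]; exact one_ne_zero⟩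

include hab in
theorem p12_nondeg_minus {w : Fin 2 → K} (hw : w ≠ 0) :
    ∃ x, QuadraticMap.polar (minusN a b) x w ≠ 0 := by
  by_contra hcon
  apply hw
  have h : ∀ x, QuadraticMap.polar (minusN a b) x w = 0 := by
    intro x
    by_contra hx
    exact hcon ⟨x, hx⟩
  apply p14f_nondeg (minusN a b) a b (minusN_apply a b) hab
  · rw [QuadraticMap.polar_comm]
    exact h _
  · rw [QuadraticMap.polar_comm]
    exact h _

theorem p12_N_qlE_one : minusN a b (qlE a b 1) = 1 := by
  rw [qlE_N, qlN_one]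

namespace OW

include hab hφ in
/-- **the elements with matrix `1` are `1` and `zD p q`.** -/
theorem ker_cases_minus (hm : 3 ≤ m) (hgen : Subgroup.closure S.gensW = ⊤) {p q : Fin m} (hpq : p ≠ q)
    {c : Γ} (hc : φ c = 1) : c = 1 ∨ c = S.toOD.zD p q := by
  haveI := qlFact hab
  have hv₀ : minusN a b (qlE a b 1) ≠ 0 := by
    rw [p12_N_qlE_one]
    exact one_ne_zero
  refine S.ker_cases_W_of φ hφ hm (fun w hw => minusN_aniso hab hw) (p12_hpol_minus hab) hv₀ hgen
    (Sum.inl p) ?_ ?_ hpq hc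
  · intro g hg
    obtain ⟨t, ht, w, hw, e⟩ := S.HtW_normal_form_minus hab hm (Sum.inl p) hg
    refine ⟨t, ht, qlE a b w, ?_, e⟩
    rw [qlE_N]
    exact fun h => hw ((qlN_eq_zero_iff w).mp h)
  · intro w hw h
    have hw0 : w ≠ 0 := by
      intro e
      apply hw
      rw [e, QuadraticMap.map_zero]
    exact p12_par_of_nondeg (minusN a b) hw (p12_nondeg_minus hab hw0) h

end OW

end minus

end Cfsg.Agent.CtRecM
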