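import Mathlib
import Cfsg.Agent.CtRecM.OmPull
import Cfsg.Agent.CtRecM.OmWa
import Cfsg.Agent.CtRecM.OmG2
import Cfsg.Agent.CtRecD.SchTe
import Cfsg.Agent.CtRecD.SchTg
import Cfsg.Agent.CtRecD.SchKer
import Cfsg.Agent.CtRecD.RecogD2
import Cfsg.Agent.CtRecM.OmRotF
import Cfsg.Agent.CtRecM.OmHm
import Cfsg.Agent.CtRecM.OmSt2

set_option autoImplicit false
set_option linter.unusedSectionVars false
set_option linter.unusedVariables false

/-!
# S2099, piece P12, the elements with matrix `-1` (helper1)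

* `OW.tn_central_mem_HtW`: a central element lies in `H̃_W` (Bruhat decomposition, pieces P6, P8, P11);
* `OW.tn_neg_cases`: a central element with matrix `-1` (`2 ≠ 0`): `q^{m+1} ≡ 3 (mod 4)` and its square is `zD p q`;
* `OW.tn_exists_neg`: if `q^{m+1} ≡ 3 (mod 4)` there is an element with matrix `-1`.

The matrix of `h_a(v, v₀)` (matrix half of piece P10) enters as the hypothesis `hhs`.
-/

namespace Cfsg.Agent.CtRecM

open Matrix Cfsg.Agent.CtRecD Cfsg.Agent.CtRecB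

section generic

variable {m : ℕ} {K : Type*} [Field K] {ι : Type*} [Fintype ι] [DecidableEq ι]
  {N : QuadraticForm K (ι → K)} {Γ : Type*} [Group Γ] (S : OW m N Γ)

namespace OW

/-- the `MonW`-property only depends on the conjugation. -/
theorem MonW.tn_of_conj_eq {g g' : Γ} {σ : Equiv.Perm (Idx m)} {a : Idx m → K}
    {τ : (ι → K) ≃ₗ[K] (ι → K)} (h : S.MonW g σ a τ)
    (hc : ∀ x : Γ, MulAut.conj g' x = MulAut.conj g x) : S.MonW g' σ a τ :=
  ⟨h.1, h.2.1, h.2.2.1, h.2.2.2.1, fun i j hij c => by rw [hc]; exact h.2.2.2.2.1 i j hij c,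
    fun i w => by rw [hc]; exact h.2.2.2.2.2 i w⟩

/-- **a central element lies in `H̃_W`.** -/
theorem tn_central_mem_HtW (hm : 3 ≤ m) (hani : ∀ w : ι → K, N w = 0 → w = 0)
    (hpol : ∃ w w' : ι → K, QuadraticMap.polar N w w' ≠ 0) {v₀ : ι → K} (hv₀ : N v₀ ≠ 0)
    (hgen : Subgroup.closure S.gensW = ⊤)
    (φ : Γ →* Matrix (Idx m ⊕ ι) (Idx m ⊕ ι) K) (hφ : S.IsMatW φ) {c : Γ}
    (hcen : ∀ g, g * c = c * g) : c ∈ S.HtW := by
  obtain ⟨u, hu, w, hw, u', hu', e⟩ := S.bruhatW hm hani hv₀ hgen c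
  obtain ⟨σ, a, τ, hM⟩ := S.exists_monW_of_mem_WtW_of hm (S.p4Hyp hm) hw
  have hv : u⁻¹ * u'⁻¹ ∈ S.UtW := mul_mem (inv_mem hu) (inv_mem hu')
  have hc' : ∀ y, c * y * c⁻¹ = y := fun y => by rw [← hcen y, mul_inv_cancel_right]
  have hw' : w = c * (u⁻¹ * u'⁻¹) := by
    have e1 : w = u⁻¹ * c * u'⁻¹ := by rw [e]; group
    rw [e1, hcen u⁻¹, mul_assoc]
  have hMv : S.MonW (u⁻¹ * u'⁻¹) σ a τ := by
    refine hM.tn_of_conj_eq S ?_
    intro x
    rw [hw', MulAut.conj_apply, MulAut.conj_apply]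
    have e2 : c * (u⁻¹ * u'⁻¹) * x * (c * (u⁻¹ * u'⁻¹))⁻¹ =
        c * ((u⁻¹ * u'⁻¹) * x * (u⁻¹ * u'⁻¹)⁻¹) * c⁻¹ := by group
    rw [e2, hc']
  have hsh := S.UtW_shape φ hφ hv
  obtain ⟨_, hv1, _⟩ := S.monW_ker_of_diag hm hpol hgen φ hφ hMv (fun i => hsh.1 _) hsh.2.2
  have hv1' := S.UtW_inj φ hφ hv hv1
  rw [hv1', mul_one] at hw'
  have hcW : c ∈ S.WtW := by
    rw [← hw']
    exact hw
  obtain ⟨σ', a', τ', hM', hσ'⟩ := S.mem_HtW_of_perm_one_of hm (S.p4Hyp hm) hv₀ hcW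
  have hM1 : S.MonW 1 σ' a' τ' := by
    refine hM'.tn_of_conj_eq S ?_
    intro x
    rw [map_one, MulAut.one_apply, MulAut.conj_apply, hc']
  obtain ⟨_, _, hσ1, _⟩ := S.monW_ker_of_diag hm hpol hgen φ hφ hM1
    (fun i => by rw [map_one, Matrix.one_apply_eq])
    (fun j j' => by
      rw [map_one]
      by_cases h : j = j'
      · rw [h, Matrix.one_apply_eq, Matrix.one_apply_eq]
      · rw [Matrix.one_apply_ne h, Matrix.one_apply_ne (fun e => h (Sum.inr_injective e))])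
  exact hσ' (Equiv.ext hσ1)

end OW

/-! ### the matrices of the torus elements of the long root subsystem -/

/-- the embedding `M ↦ M ⊕ 1` of the matrices. -/
def tn_blk : Matrix (Idx m) (Idx m) K →* Matrix (Idx m ⊕ ι) (Idx m ⊕ ι) K where
  toFun M := Matrix.fromBlocks M 0 0 1
  map_one' := Matrix.fromBlocks_one
  map_mul' A B := by
    rw [Matrix.fromBlocks_multiply]
    simp

theorem tn_blk_oX (a b : Idx m) (t : K) :
    (tn_blk (oX a b t) : Matrix (Idx m ⊕ ι) (Idx m ⊕ ι) K) = bXW a b t := rfl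

theorem tn_od {a b : Idx m} (hab : Rt a b) (u : K) :
    (tn_blk (Units.coeHom (Matrix (Idx m) (Idx m) K) ((odGL m K).x a b u)) :
      Matrix (Idx m ⊕ ι) (Idx m ⊕ ι) K) = bXW a b u := by
  rw [odGL_x hab, Units.coeHom_apply, oXG_coe hab, tn_blk_oX]

/-- the diagonal matrices `diag(d) ⊕ 1`. -/
def tn_D : (Idx m → K) →* Matrix (Idx m ⊕ ι) (Idx m ⊕ ι) K where
  toFun d := Matrix.fromBlocks (Matrix.diagonal d) 0 0 1
  map_one' := by
    rw [show Matrix.diagonal (1 : Idx m → K) = 1 from Matrix.diagonal_one]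
    exact Matrix.fromBlocks_one
  map_mul' d e := by
    rw [Matrix.fromBlocks_multiply]
    simp [Matrix.diagonal_mul_diagonal]

theorem tn_D_apply (d : Idx m → K) :
    (tn_D d : Matrix (Idx m ⊕ ι) (Idx m ⊕ ι) K) = Matrix.fromBlocks (Matrix.diagonal d) 0 0 1 := rfl

namespace OW

/-- the matrix of `h_kl(t)`. -/
theorem tn_phi_h (hm : 3 ≤ m) (φ : Γ →* Matrix (Idx m ⊕ ι) (Idx m ⊕ ι) K) (hφ : S.IsMatW φ)
    {k l : Idx m} (hkl : Rt k l) {t : K} (ht : t ≠ 0) : φ (S.h k l t) = tn_D (hD k l t) := by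
  have h0 := (odGL m K).phi_h (Units.coeHom (Matrix (Idx m) (Idx m) K))
    (fun a b h t => by rw [odGL_x h, Units.coeHom_apply, oXG_coe h]) hm hkl ht
  show _ = tn_blk (Matrix.diagonal (hD k l t))
  rw [← h0]
  unfold OD.h OD.w
  simp only [map_mul, hφ.x k l hkl, hφ.x l k hkl.symm, tn_od hkl, tn_od hkl.symm]

end OW

end generic

/-! ### the quadratic extension -/

section ql

variable {K : Type*} [Field K] {a b : K}

theorem tn_star_algebraMap (s : K) : star (algebraMap K (QL a b) s) = algebraMap K (QL a b) s := by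
  ext <;> simp

/-- the reflections of `minusN a b` and of `qlN a b` correspond. -/
theorem tn_rW_qlE (v u : QL a b) :
    rW (minusN a b) (qlE a b v) (qlE a b u) = qlE a b (rW (qlN a b) v u) := by
  rw [rW_apply, rW_apply, qlE_N, qlE_polar, map_sub, map_smul]

theorem tn_sq_of_star_neg {w : QL a b} (hs : star w = -w) :
    w * w = algebraMap K (QL a b) (-(qlN a b w)) := by
  have e := ql_mul_star a b w
  rw [hs] at e
  rw [map_neg, ← e]
  ring

/-- an element with `w̄ = -w` (`2 ≠ 0`) is not in `K`. -/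
theorem tn_not_mem (h2 : (2 : K) ≠ 0) {w : QL a b} (hw : w ≠ 0) (hs : star w = -w) (s : K) :
    w ≠ algebraMap K (QL a b) s := by
  intro e
  rw [e, tn_star_algebraMap, ← map_neg] at hs
  have h3 : s = -s := (algebraMap K (QL a b)).injective hs
  have h4 : (2 : K) * s = 0 := by linear_combination h3
  rcases mul_eq_zero.mp h4 with h | h
  · exact h2 h
  · rw [h, map_zero] at e
    exact hw e

variable [Fact (∀ r : K, r ^ 2 ≠ -b + a * r)]

/-- the rotation `r_w r_1` is the multiplication by `w / w̄`. -/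
theorem tn_rot {w : QL a b} (hw : w ≠ 0) (u : QL a b) :
    rW (minusN a b) (qlE a b w) (rW (minusN a b) (qlE a b 1) (qlE a b u)) =
      qlE a b (w / star w * u) := by
  have h1 : (1 : QL a b) ≠ 0 := one_ne_zero
  rw [tn_rW_qlE, tn_rW_qlE, rW_apply, rW_apply, ql_refl h1, ql_refl hw, ql_rot hw h1, star_one,
    div_one, mul_one]

/-- if `(t w)² = r²` with `r ∈ K`, `t ≠ 0`, then `w ∈ K`. -/
theorem tn_mem_of_sq {w : QL a b} {t r : K} (ht : t ≠ 0)
    (h : (algebraMap K (QL a b) t * w) * (algebraMap K (QL a b) t * w) = algebraMap K (QL a b) (r * r)) :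
    ∃ s : K, w = algebraMap K (QL a b) s := by
  have ht' : algebraMap K (QL a b) t ≠ 0 := by
    rw [Ne, map_eq_zero]
    exact ht
  rw [map_mul] at h
  rcases mul_self_eq_mul_self_iff.mp h with e | e
  · refine ⟨t⁻¹ * r, ?_⟩
    rw [map_mul, map_inv₀, ← e, inv_mul_cancel_left₀ ht']
  · refine ⟨t⁻¹ * (-r), ?_⟩
    rw [map_mul, map_inv₀, map_neg, ← e, inv_mul_cancel_left₀ ht']

/-- the rotation `r_w r_1` is `-1` iff `w̄ = -w`. -/
theorem tn_rot_neg_iff {w : QL a b} (hw : w ≠ 0) :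
    LinearMap.toMatrix' ((rW (minusN a b) (qlE a b w)).comp (rW (minusN a b) (qlE a b 1))) = -1 ↔
      star w = -w := by
  have hs : star w ≠ 0 := ql_star_ne_zero hw
  constructor
  · intro h
    have e1 : (rW (minusN a b) (qlE a b w)).comp (rW (minusN a b) (qlE a b 1)) = -LinearMap.id := by
      apply LinearMap.toMatrix'.injective
      rw [h, map_neg, LinearMap.toMatrix'_id]
    have e2 := LinearMap.congr_fun e1 (qlE a b 1)
    rw [LinearMap.comp_apply, tn_rot hw, mul_one, LinearMap.neg_apply, LinearMap.id_apply, ← map_neg] at e2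
    have e3 : w / star w = -1 := (qlE a b).injective e2
    rw [div_eq_iff hs] at e3
    linear_combination e3
  · intro h
    have e1 : (rW (minusN a b) (qlE a b w)).comp (rW (minusN a b) (qlE a b 1)) = -LinearMap.id := by
      apply LinearMap.ext
      intro v
      obtain ⟨u, rfl⟩ := (qlE a b).surjective v
      rw [LinearMap.comp_apply, tn_rot hw, LinearMap.neg_apply, LinearMap.id_apply, ← map_neg, h]
      congr 1
      have hw' : -w ≠ 0 := neg_ne_zero.mpr hw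
      field_simp
    rw [e1, map_neg, LinearMap.toMatrix'_id]

end ql

/-! ### the elements with matrix `-1` -/

theorem hDW_swap {m : ℕ} {K : Type*} [Field K] {W : Type*} [AddCommGroup W] [Module K W]
    (N : QuadraticForm K W) (a : Idx m) (v v₀ : W) (i : Idx m) :
    hDW N a v v₀ i.swap = (hDW N a v v₀ i)⁻¹ := by
  by_cases h1 : i = a
  · rw [h1, hDW_abar, hDW_a, mul_inv, inv_inv]
  · by_cases h2 : i = a.swap
    · rw [h2, Sum.swap_swap, hDW_abar, hDW_a, mul_inv, inv_inv]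
    · rw [hDW_oth h1 h2, hDW_oth (fun e => h2 (by rw [← e, Sum.swap_swap]))
        (fun e => h1 (swap_inj.mp e)), inv_one]

/-- the diagonal of `t * h_p(w)` is `-1` iff … -/
theorem tn_diag_iff {m : ℕ} {K : Type*} [Field K] {a b : K} {p q : Fin m} (hpq : p ≠ q)
    (τ : Fin m → Kˣ) (w : QL a b) :
    (∀ j : Fin m, dE p q τ (Sum.inl j) *
        hDW (minusN a b) (Sum.inl p) (qlE a b w) (qlE a b 1) (Sum.inl j) = -1) ↔
      (∀ j, j ≠ p → j ≠ q → τ j = -1) ∧ (τ p : K) * (τ q : K) * qlN a b w = -1 ∧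
        (τ q : K) * ∏ i ∈ Finset.univ.erase q, (τ i : K)⁻¹ = -1 := by
  have hP : hDW (minusN a b) (Sum.inl p) (qlE a b w) (qlE a b 1) (Sum.inl p) = qlN a b w := by
    rw [hDW_a, qlE_N, qlE_N, qlN_one, inv_one, mul_one]
  have hO : ∀ j : Fin m, j ≠ p →
      hDW (minusN a b) (Sum.inl p) (qlE a b w) (qlE a b 1) (Sum.inl j) = 1 := by
    intro j hj
    exact hDW_oth (fun e => hj (Sum.inl_injective e)) (fun e => by simp at e) _ _
  constructor
  · intro h
    refine ⟨fun j hjp hjq => ?_, ?_, ?_⟩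
    · have e := h j
      rw [dE_other hjp hjq, hO j hjp, mul_one] at e
      exact Units.ext (by rw [e, Units.val_neg, Units.val_one])
    · have e := h p
      rw [dE_p hpq, hP] at e
      exact e
    · have e := h q
      rw [dE_q hpq, hO q (Ne.symm hpq), mul_one] at e
      exact e
  · rintro ⟨h1, h2, h3⟩ j
    by_cases hjp : j = p
    · rw [hjp, dE_p hpq, hP]
      exact h2
    · by_cases hjq : j = q
      · rw [hjq, dE_q hpq, hO q (Ne.symm hpq), mul_one]
        exact h3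
      · rw [dE_other hjp hjq, hO j hjp, mul_one, h1 j hjp hjq, Units.val_neg, Units.val_one]

/-- in a finite field in which `-1` is not a square, `x` or `-x` is a square. -/
theorem tn_isSquare_of_neg_not {F : Type*} [Field F] [Fintype F] (hnsq : ¬ ∃ ι : F, ι * ι = -1)
    {x : F} (hx : x ≠ 0) (hnx : ¬ IsSquare (-x)) : IsSquare x := by
  classical
  have h1 : quadraticChar F (-1) = -1 :=
    quadraticChar_neg_one_iff_not_isSquare.mpr (fun ⟨ι, h⟩ => hnsq ⟨ι, h.symm⟩)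
  have h2 : quadraticChar F (-x) = -1 := quadraticChar_neg_one_iff_not_isSquare.mpr hnx
  have h3 : quadraticChar F x = 1 := by
    have e : x = (-1) * (-x) := by ring
    rw [e, map_mul, h1, h2]
    rfl
  exact (quadraticChar_one_iff_isSquare hx).mp h3

/-- `q^l ≡ 3 (mod 4)` forces `l` odd and `q ≡ 3 (mod 4)`. -/
theorem tn_pow_mod_four {q l : ℕ} (hq : q % 2 = 1) (h : q ^ l % 4 = 3) : Odd l ∧ q % 4 = 3 := by
  rcases Nat.even_or_odd l with hev | hodd
  · exfalso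
    obtain ⟨k, rfl⟩ := hev
    rw [pow_add] at h
    have h1 : q ^ k % 2 = 1 := by
      rw [Nat.pow_mod, hq, one_pow]
      rfl
    have h4 : q ^ k % 4 = 1 ∨ q ^ k % 4 = 3 := by omega
    rw [Nat.mul_mod] at h
    rcases h4 with e | e <;> rw [e] at h <;> simp at h
  · refine ⟨hodd, ?_⟩
    rw [sk_pow_mod_four hq hodd] at h
    exact h

section minus

variable {m : ℕ} {K : Type*} [Field K] [Fintype K] {a b : K} {Γ : Type*} [Group Γ]
  (S : OW m (minusN a b) Γ)

namespace OW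

theorem tn_hC (hm : 3 ≤ m) : ∀ k l : Idx m, Rt k l → ∀ t u : K, t ≠ 0 → u ≠ 0 →
    S.h k l t * S.h k l u = S.h k l (t * u) :=
  fun k l hkl t u ht hu => S.toOD.h_mul_of_finite hm hkl ht hu

theorem tn_hcomm (hm : 3 ≤ m) : ∀ c d k l : Idx m, Rt c d → Rt k l → ∀ t u : K, t ≠ 0 → u ≠ 0 →
    S.h c d t * S.h k l u = S.h k l u * S.h c d t :=
  fun c d k l hcd hkl t u ht hu => S.toOD.h_comm hm (S.tn_hC hm) hcd hkl ht hu

/-- the parametrisation of the torus of the long root subsystem. -/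
def tn_Phi (hm : 3 ≤ m) {p q : Fin m} (hpq : p ≠ q) : (Fin m → Kˣ) →* Γ :=
  S.toOD.PhiB (S.tn_hC hm) (S.tn_hcomm hm) hpq

theorem tn_Phi_mem (hm : 3 ≤ m) {p q : Fin m} (hpq : p ≠ q) (τ : Fin m → Kˣ) :
    S.tn_Phi hm hpq τ ∈ S.toOD.Ht :=
  S.toOD.PhiB_mem_Ht (S.tn_hC hm) (S.tn_hcomm hm) hpq τ

theorem tn_Phi_param (hm : 3 ≤ m) {p q : Fin m} (hpq : p ≠ q) {g : Γ} (hg : g ∈ S.toOD.Ht) :
    ∃ τ : Fin m → Kˣ, g = S.tn_Phi hm hpq τ :=
  S.toOD.Ht_param (S.tn_hC hm) (S.tn_hcomm hm)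
    (fun k l hkl t ht => S.toOD.h_swap hm (S.tn_hC hm) hkl ht)
    (fun k l hkl t ht => S.toOD.h_bar (S.tn_hC hm) hkl ht)
    (fun k ν l h1 h2 h3 t ht => S.toOD.h_split hm (S.tn_hC hm) h1 h2 h3 ht) hpq hg

theorem tn_Phi_two (hm : 3 ≤ m) {p q : Fin m} (hpq : p ≠ q) (s : Kˣ) :
    S.tn_Phi hm hpq (Pi.mulSingle p s * Pi.mulSingle q s) =
      S.h (Sum.inl p) (Sum.inl q) (s : K) * S.h (Sum.inl p) (Sum.inr q) (s : K) :=
  S.toOD.PhiB_two (S.tn_hC hm) (S.tn_hcomm hm) hpq s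

theorem tn_Phi_zD (hm : 3 ≤ m) {p q : Fin m} (hpq : p ≠ q) :
    S.tn_Phi hm hpq (Pi.mulSingle p (-1) * Pi.mulSingle q (-1)) = S.toOD.zD p q := by
  rw [tn_Phi_two, Units.val_neg, Units.val_one]
  rfl

variable (φ : Γ →* Matrix (Idx m ⊕ Fin 2) (Idx m ⊕ Fin 2) K) (hφ : S.IsMatW φ)

include hφ in
theorem tn_phi_Phi (hm : 3 ≤ m) {p q : Fin m} (hpq : p ≠ q) (τ : Fin m → Kˣ) :
    φ (S.tn_Phi hm hpq τ) = tn_D (dE p q τ) :=
  S.toOD.phi_PhiB' (S.tn_hC hm) (S.tn_hcomm hm) φ tn_D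
    (fun k l hkl t ht => S.tn_phi_h hm φ hφ hkl ht) hpq τ

variable (hhs : ∀ (c : Idx m) (v v₀ : Fin 2 → K), minusN a b v ≠ 0 → minusN a b v₀ ≠ 0 →
    φ (S.hs c v v₀) = Matrix.fromBlocks (Matrix.diagonal (hDW (minusN a b) c v v₀)) 0 0
      (LinearMap.toMatrix' ((rW (minusN a b) v).comp (rW (minusN a b) v₀))))

/-- the elements `t * h_p(w)`. -/
noncomputable def tn_elt (hm : 3 ≤ m) {p q : Fin m} (hpq : p ≠ q) (τ : Fin m → Kˣ) (w : QL a b) : Γ :=
  S.tn_Phi hm hpq τ * S.hs (Sum.inl p) (qlE a b w) (qlE a b 1)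

include hφ hhs in
/-- the matrix of `t * h_p(w)`. -/
theorem tn_phi_elt [Fact (∀ r : K, r ^ 2 ≠ -b + a * r)] (hm : 3 ≤ m) {p q : Fin m} (hpq : p ≠ q)
    (τ : Fin m → Kˣ) {w : QL a b} (hw : w ≠ 0) :
    φ (S.tn_elt hm hpq τ w) = Matrix.fromBlocks
      (Matrix.diagonal (fun i => dE p q τ i *
        hDW (minusN a b) (Sum.inl p) (qlE a b w) (qlE a b 1) i)) 0 0
      (LinearMap.toMatrix' ((rW (minusN a b) (qlE a b w)).comp (rW (minusN a b) (qlE a b 1)))) := by
  have hNw : minusN a b (qlE a b w) ≠ 0 := by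
    rw [qlE_N]
    exact p10r_ne hw
  have hN1 : minusN a b (qlE a b 1) ≠ 0 := by
    rw [qlE_N, qlN_one]
    exact one_ne_zero
  unfold tn_elt
  rw [map_mul, S.tn_phi_Phi φ hφ hm hpq, hhs _ _ _ hNw hN1, tn_D_apply, Matrix.fromBlocks_multiply]
  simp [Matrix.diagonal_mul_diagonal]

include hφ hhs in
/-- **`t * h_p(w)` has matrix `-1` iff the diagonal is `-1` and `w̄ = -w`.** -/
theorem tn_phi_elt_neg_iff [Fact (∀ r : K, r ^ 2 ≠ -b + a * r)] (hm : 3 ≤ m) {p q : Fin m}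
    (hpq : p ≠ q) (τ : Fin m → Kˣ) {w : QL a b} (hw : w ≠ 0) :
    φ (S.tn_elt hm hpq τ w) = -1 ↔
      (∀ j : Fin m, dE p q τ (Sum.inl j) *
        hDW (minusN a b) (Sum.inl p) (qlE a b w) (qlE a b 1) (Sum.inl j) = -1) ∧ star w = -w := by
  rw [S.tn_phi_elt φ hφ hhs hm hpq τ hw, ← tn_rot_neg_iff hw]
  have e1 : (-1 : Matrix (Idx m ⊕ Fin 2) (Idx m ⊕ Fin 2) K) =
      Matrix.fromBlocks (Matrix.diagonal (fun _ => (-1 : K))) 0 0 (-1) := by
    rw [← Matrix.fromBlocks_one, Matrix.fromBlocks_neg, neg_zero, neg_zero, ← Matrix.diagonal_one,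
      Matrix.diagonal_neg]
  rw [e1, Matrix.fromBlocks_inj]
  constructor
  · rintro ⟨h1, _, _, h4⟩
    exact ⟨fun j => congrFun (Matrix.diagonal_injective h1) (Sum.inl j), h4⟩
  · rintro ⟨h1, h4⟩
    refine ⟨?_, rfl, rfl, h4⟩
    congr 1
    funext i
    rcases i with j | j
    · exact h1 j
    · have e2 := dE_swap hpq τ (Sum.inl j)
      have e3 := hDW_swap (minusN a b) (Sum.inl p) (qlE a b w) (qlE a b 1) (Sum.inl j)
      rw [Sum.swap_inl] at e2 e3
      rw [e2, e3, ← mul_inv, h1 j, inv_neg, inv_one]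

include hφ hhs in
/-- **a central element with matrix `-1` (`2 ≠ 0`): `q^{m+1} ≡ 3 (mod 4)` and its square is `zD p q`.** -/
theorem tn_neg_cases
    (hab : ∀ z₁ z₂ : K, z₁ ^ 2 + a * z₁ * z₂ + b * z₂ ^ 2 = 0 → z₁ = 0 ∧ z₂ = 0) (hm : 3 ≤ m)
    (hgen : Subgroup.closure S.gensW = ⊤) (h2 : (2 : K) ≠ 0) {p q : Fin m} (hpq : p ≠ q) {c : Γ}
    (hcen : ∀ g, g * c = c * g) (hc : φ c = -1) :
    Fintype.card K ^ (m + 1) % 4 = 3 ∧ c * c = S.toOD.zD p q := by
  have := qlFact hab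
  have hani : ∀ w : Fin 2 → K, minusN a b w = 0 → w = 0 := fun w hw => minusN_aniso hab hw
  obtain ⟨w1, w1', hw1⟩ := p14f_polar_one (minusN a b) a b (minusN_apply a b) hab
  have hpol : ∃ w w' : Fin 2 → K, QuadraticMap.polar (minusN a b) w w' ≠ 0 :=
    ⟨w1, w1', by rw [hw1]; exact one_ne_zero⟩
  have hN1 : minusN a b (qlE a b 1) ≠ 0 := by
    rw [qlE_N, qlN_one]
    exact one_ne_zero
  have hcH : c ∈ S.HtW := S.tn_central_mem_HtW hm hani hpol hN1 hgen φ hφ hcen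
  obtain ⟨t, ht, w, hw, e⟩ := S.HtW_normal_form_minus hab hm (Sum.inl p) hcH
  obtain ⟨τ, rfl⟩ := S.tn_Phi_param hm hpq ht
  have e' : c = S.tn_elt hm hpq τ w := e
  rw [e'] at hc
  obtain ⟨hA, hstar⟩ := (S.tn_phi_elt_neg_iff φ hφ hhs hm hpq τ hw).mp hc
  obtain ⟨ho, hp, hq⟩ := (tn_diag_iff hpq τ w).mp hA
  have hτp : (τ p : K) ≠ 0 := (τ p).ne_zero
  have hww := tn_sq_of_star_neg hstar
  have hnot := tn_not_mem h2 hw hstar
  have hNw : qlN a b w ≠ 0 := p10r_ne hw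
  rcases Nat.even_or_odd m with hev | hodd
  · -- `m` even
    rw [s5_prod_erase_even hpq hev τ ho] at hq
    have hqp : (τ q : K) = -(τ p : K) := by
      have := (mul_inv_eq_iff_eq_mul₀ hτp).mp hq
      rw [this, neg_one_mul]
    have hpp : (τ p : K) * (τ p : K) * qlN a b w = 1 := by
      rw [hqp] at hp
      linear_combination (-1 : K) * hp
    have hsq : (algebraMap K (QL a b) (τ p : K) * w) * (algebraMap K (QL a b) (τ p : K) * w) =
        algebraMap K (QL a b) (-1) := by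
      have e1 : (algebraMap K (QL a b) (τ p : K) * w) * (algebraMap K (QL a b) (τ p : K) * w) =
          algebraMap K (QL a b) (τ p : K) * algebraMap K (QL a b) (τ p : K) * (w * w) := by ring
      rw [e1, hww, ← map_mul, ← map_mul]
      congr 1
      linear_combination (-1 : K) * hpp
    have h3 : Fintype.card K % 4 = 3 := by
      by_contra h3
      obtain ⟨ι, hι⟩ := sk_exists_sq_iff.mpr h3
      rw [← hι] at hsq
      obtain ⟨s, hs⟩ := tn_mem_of_sq hτp hsq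
      exact hnot s hs
    have hq1 : Fintype.card K % 2 = 1 :=
      FiniteField.odd_card_of_char_ne_two (fun e => h2 (sk_ringChar_two_iff.mp e))
    refine ⟨by rw [sk_pow_mod_four hq1 hev.add_one]; exact h3, ?_⟩
    -- the square
    set T := S.tn_Phi hm hpq τ with hT
    set h := S.hs (Sum.inl p) (qlE a b w) (qlE a b 1) with hh
    have e0 : c = T * h := e
    have hc1 : c * c = T * T * (h * h) := by
      calc c * c = T * h * c := by rw [← e0]
        _ = T * (h * c) := mul_assoc _ _ _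
        _ = T * (c * h) := by rw [hcen h]
        _ = T * (T * h * h) := by rw [← e0]
        _ = T * T * (h * h) := by simp only [mul_assoc]
    have hs0 : -(qlN a b w) ≠ 0 := neg_ne_zero.mpr hNw
    have hh2 : h * h = S.tn_Phi hm hpq (Pi.mulSingle p (Units.mk0 _ hs0) * Pi.mulSingle q (Units.mk0 _ hs0)) := by
      rw [hh, S.hs_mul_minus hab hm (Sum.inl p) hw hw, hww, Algebra.algebraMap_eq_smul_one, map_smul,
        S.hs_eq_minus hab hm (OD.s5_rt_ll hpq) hs0 hN1, S.tn_Phi_two hm hpq]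
      rfl
    rw [hc1, hh2, hT, ← map_mul, ← map_mul, ← S.tn_Phi_zD hm hpq]
    congr 1
    refine OD.s5_eq_two_single hpq _ (-1) ?_ ?_ ?_
    · intro j hjp hjq
      rw [Pi.mul_apply, Pi.mul_apply, Pi.mul_apply, Pi.mulSingle_eq_of_ne hjp, Pi.mulSingle_eq_of_ne hjq,
        ho j hjp hjq]
      simp
    · apply Units.ext
      rw [Pi.mul_apply, Pi.mul_apply, Pi.mul_apply, Pi.mulSingle_eq_same, Pi.mulSingle_eq_of_ne hpq, mul_one,
        Units.val_mul, Units.val_mul, Units.val_mk0, Units.val_neg, Units.val_one]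
      linear_combination (-1 : K) * hpp
    · apply Units.ext
      rw [Pi.mul_apply, Pi.mul_apply, Pi.mul_apply, Pi.mulSingle_eq_same, Pi.mulSingle_eq_of_ne (Ne.symm hpq),
        one_mul, Units.val_mul, Units.val_mul, Units.val_mk0, Units.val_neg, Units.val_one, hqp]
      linear_combination (-1 : K) * hpp
  · -- `m` odd: impossible
    exfalso
    rw [OD.s5_prod_erase_neg hpq hodd τ ho] at hq
    have hqp : (τ q : K) = (τ p : K) := by
      have hq' : (τ q : K) * (τ p : K)⁻¹ = 1 := by linear_combination (-1 : K) * hq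
      exact (mul_inv_eq_one₀ hτp).mp hq'
    rw [hqp] at hp
    have hsq : (algebraMap K (QL a b) (τ p : K) * w) * (algebraMap K (QL a b) (τ p : K) * w) =
        algebraMap K (QL a b) (1 * 1) := by
      have e1 : (algebraMap K (QL a b) (τ p : K) * w) * (algebraMap K (QL a b) (τ p : K) * w) =
          algebraMap K (QL a b) (τ p : K) * algebraMap K (QL a b) (τ p : K) * (w * w) := by ring
      rw [e1, hww, ← map_mul, ← map_mul]
      congr 1
      linear_combination (-1 : K) * hp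
    obtain ⟨s, hs⟩ := tn_mem_of_sq hτp hsq
    exact hnot s hs

include hφ hhs in
/-- **if `q^{m+1} ≡ 3 (mod 4)` there is an element with matrix `-1`.** -/
theorem tn_exists_neg
    (hab : ∀ z₁ z₂ : K, z₁ ^ 2 + a * z₁ * z₂ + b * z₂ ^ 2 = 0 → z₁ = 0 ∧ z₂ = 0) (hm : 3 ≤ m)
    (h2 : (2 : K) ≠ 0) (hq : Fintype.card K ^ (m + 1) % 4 = 3) : ∃ c : Γ, φ c = -1 := by
  have := qlFact hab
  have hq1 : Fintype.card K % 2 = 1 :=
    FiniteField.odd_card_of_char_ne_two (fun e => h2 (sk_ringChar_two_iff.mp e))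
  obtain ⟨hodd, h3⟩ := tn_pow_mod_four hq1 hq
  have hev : Even m := by
    rcases Nat.even_or_odd m with h | h
    · exact h
    · exact absurd hodd (Nat.not_odd_iff_even.mpr h.add_one)
  have hnsq : ¬ ∃ ι : K, ι * ι = -1 := fun h => sk_exists_sq_iff.mp h h3
  -- the element `w₀ = 2ω - a`
  set w₀ : QL a b := ⟨-a, 2⟩ with hw₀
  have hstar : star w₀ = -w₀ := by
    ext
    · simp [hw₀]
      ring
    · simp [hw₀]
  have hw0 : w₀ ≠ 0 := by
    intro e
    have := congrArg QuadraticAlgebra.im e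
    exact h2 this
  have hnot := tn_not_mem h2 hw0 hstar
  have hN0 : qlN a b w₀ ≠ 0 := p10r_ne hw0
  have hww := tn_sq_of_star_neg hstar
  -- `N(w₀)` is a square
  have hsqN : IsSquare (qlN a b w₀) := by
    apply tn_isSquare_of_neg_not hnsq hN0
    rintro ⟨r, hr⟩
    rw [hr] at hww
    have e1 : (algebraMap K (QL a b) 1 * w₀) * (algebraMap K (QL a b) 1 * w₀) =
        algebraMap K (QL a b) (r * r) := by
      rw [map_one, one_mul, hww]
    obtain ⟨s, hs⟩ := tn_mem_of_sq one_ne_zero e1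
    exact hnot s hs
  obtain ⟨s, hs⟩ := hsqN
  have hs0 : s ≠ 0 := by
    intro e
    rw [e, mul_zero] at hs
    exact hN0 hs
  have hr0 : s⁻¹ ≠ 0 := inv_ne_zero hs0
  -- the indices
  have hpq : (⟨0, by omega⟩ : Fin m) ≠ ⟨1, by omega⟩ := by
    intro e
    have := congrArg Fin.val e
    simp at this
  set p : Fin m := ⟨0, by omega⟩ with hp_def
  set q : Fin m := ⟨1, by omega⟩ with hq_def
  set r : Kˣ := Units.mk0 s⁻¹ hr0 with hr
  set τ : Fin m → Kˣ := fun j => if j = p then r else if j = q then -r else -1 with hτ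
  have hτp : τ p = r := by
    rw [hτ]
    exact if_pos rfl
  have hτq : τ q = -r := by
    rw [hτ]
    show (if q = p then r else if q = q then -r else -1) = -r
    rw [if_neg (Ne.symm hpq), if_pos rfl]
  have ho : ∀ j, j ≠ p → j ≠ q → τ j = -1 := by
    intro j hjp hjq
    rw [hτ]
    show (if j = p then r else if j = q then -r else -1) = -1
    rw [if_neg hjp, if_neg hjq]
  have hrv : (r : K) = s⁻¹ := rfl
  refine ⟨S.tn_elt hm hpq τ w₀, ?_⟩
  rw [S.tn_phi_elt_neg_iff φ hφ hhs hm hpq τ hw0]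
  refine ⟨(tn_diag_iff hpq τ w₀).mpr ⟨ho, ?_, ?_⟩, hstar⟩
  · rw [hτp, hτq, Units.val_neg, hrv, hs]
    field_simp
  · rw [s5_prod_erase_even hpq hev τ ho, hτp, hτq, Units.val_neg, hrv]
    field_simp

end OW

end minus

/-! ### the final forms -/

section final

variable {m : ℕ} {K : Type*} [Field K] [Fintype K] {a b : K}

namespace OW

variable {Γ : Type*} [Group Γ] (S : OW m (minusN a b) Γ)
  (φ : Γ →* Matrix (Idx m ⊕ Fin 2) (Idx m ⊕ Fin 2) K) (hφ : S.IsMatW φ)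

include hφ in
/-- a central element with matrix `-1`, for any system over `minusN a b` with matrices. -/
theorem neg_cases_minus
    (hab : ∀ z₁ z₂ : K, z₁ ^ 2 + a * z₁ * z₂ + b * z₂ ^ 2 = 0 → z₁ = 0 ∧ z₂ = 0) (hm : 3 ≤ m)
    (hgen : Subgroup.closure S.gensW = ⊤) (h2 : (2 : K) ≠ 0) {p q : Fin m} (hpq : p ≠ q) {c : Γ}
    (hcen : ∀ g, g * c = c * g) (hc : φ c = -1) :
    Fintype.card K ^ (m + 1) % 4 = 3 ∧ c * c = S.toOD.zD p q :=
  S.tn_neg_cases φ hφ (fun c v v₀ hv hv₀ => S.phi_hs φ hφ c hv hv₀) hab hm hgen h2 hpq hcen hc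

include hφ in
/-- an element with matrix `-1`, for any system over `minusN a b` with matrices. -/
theorem exists_neg_minus
    (hab : ∀ z₁ z₂ : K, z₁ ^ 2 + a * z₁ * z₂ + b * z₂ ^ 2 = 0 → z₁ = 0 ∧ z₂ = 0) (hm : 3 ≤ m)
    (h2 : (2 : K) ≠ 0) (hq : Fintype.card K ^ (m + 1) % 4 = 3) : ∃ c : Γ, φ c = -1 :=
  S.tn_exists_neg φ hφ (fun c v v₀ hv hv₀ => S.phi_hs φ hφ c hv hv₀) hab hm h2 hq

end OW

/-- **`hneg` of `schur_pomega_minus_of'`.** -/
theorem omT_neg_cases (hm : 3 ≤ m)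
    (hab : ∀ z₁ z₂ : K, z₁ ^ 2 + a * z₁ * z₂ + b * z₂ ^ 2 = 0 → z₁ = 0 ∧ z₂ = 0)
    (h2 : (2 : K) ≠ 0) {p q : Fin m} (hpq : p ≠ q) {c : StW m (minusN a b)}
    (hcen : ∀ g, g * c = c * g) (hc : stToMatW m (minusN a b) c = -1) :
    Fintype.card K ^ (m + 1) % 4 = 3 ∧ c * c = (stOW m (minusN a b)).toOD.zD p q :=
  (stOW m (minusN a b)).neg_cases_minus (stToMatW m (minusN a b)) stToMatW_isMatW hab hm
    (stOW_gens m (minusN a b)) h2 hpq hcen hc

/-- **`hex` of `schur_pomega_minus_of'`.** -/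
theorem omT_exists_neg (hm : 3 ≤ m)
    (hab : ∀ z₁ z₂ : K, z₁ ^ 2 + a * z₁ * z₂ + b * z₂ ^ 2 = 0 → z₁ = 0 ∧ z₂ = 0)
    (h2 : (2 : K) ≠ 0) (hq : Fintype.card K ^ (m + 1) % 4 = 3) :
    ∃ c : StW m (minusN a b), stToMatW m (minusN a b) c = -1 :=
  (stOW m (minusN a b)).exists_neg_minus (stToMatW m (minusN a b)) stToMatW_isMatW hab hm h2 hq

end final

end Cfsg.Agent.CtRecM
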